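import Cfsg.Agent.Lib.PlaneStab.Shapes
import Cfsg.Agent.Lib.PSLn.Aut
import Cfsg.Agent.Lib.PSLn.Group

/-!
Automorphisms of `PSL₃` in characteristic two and the three shapes: type preserving automorphisms, the duality, and the
automorphisms fixing the set of involutions of a point.

Blueprint: `blueprint/S3727.md`, sections 1 and 3.
-/

set_option autoImplicit false
set_option linter.unusedSectionVars false

namespace CfsgLib.PlaneStab

open Matrix CfsgLib.PSLn CfsgLib.RankOnePoint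
open scoped MatrixGroups commutatorElement

variable {F : Type} [Field F]

local notation "V" => (Fin 3 → F)

theorem IsTv.field {x : P3 F} {v f : V} (h : IsTv x v f) (e : RingAut F) :
    IsTv (fieldAut e x) (fun i => e (v i)) (fun i => e (f i)) := by
  obtain ⟨h0, hv, hf, rfl⟩ := h
  refine ⟨?_, fun e0 => hv (funext fun i => ?_), fun e0 => hf (funext fun i => ?_), ?_⟩
  · have := congrArg e h0
    simpa [dotProduct, map_sum] using this
  · have := congrFun e0 i; simpa using this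
  · have := congrFun e0 i; simpa using this
  · rw [fieldAut_mk]
    congr 1
    apply Subtype.ext
    rw [coe_fieldSL, coe_tv, coe_tv]
    ext i j
    by_cases hij : i = j <;> simp [vecMulVec_apply, hij]

theorem IsTv.graph {x : P3 F} {v f : V} (h : IsTv x v f) : IsTv (graphAut x) f (-v) := by
  obtain ⟨h0, hv, hf, rfl⟩ := h
  exact ⟨_, hf, neg_ne_zero.mpr hv, by rw [graphAut_mk, graphSL_tv]⟩

/-- The type preserving automorphisms. -/
def typ (F : Type) [Field F] : Subgroup (MulAut (P3 F)) where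
  carrier := {φ | ∃ (g : GL (Fin 3) F) (e : RingAut F), φ = diagAut g * fieldAut e}
  one_mem' := ⟨1, 1, by rw [map_one, map_one, mul_one]⟩
  mul_mem' := by
    rintro _ _ ⟨g, e, rfl⟩ ⟨g', e', rfl⟩
    refine ⟨g * GeneralLinearGroup.map (e : F ≃+* F).toRingHom g', e * e', ?_⟩
    rw [mul_assoc, ← mul_assoc (fieldAut e), fieldAut_diag, map_mul, map_mul, mul_assoc, mul_assoc]
  inv_mem' := by
    rintro _ ⟨g, e, rfl⟩
    refine ⟨GeneralLinearGroup.map (e⁻¹ : F ≃+* F).toRingHom g⁻¹, e⁻¹, ?_⟩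
    rw [← fieldAut_diag, _root_.mul_inv_rev, map_inv, map_inv]

theorem diag_mem_typ (g : GL (Fin 3) F) : (diagAut g : MulAut (P3 F)) ∈ typ F :=
  ⟨g, 1, by rw [map_one, mul_one]⟩

theorem conj_mem_typ (m : P3 F) : MulAut.conj m ∈ typ F := by
  obtain ⟨A, rfl⟩ := mk_surjective m
  rw [← diagAut_toGL]
  exact diag_mem_typ _

theorem mem_image_mul {φ ψ : MulAut (P3 F)} (S : Set (P3 F)) : (φ * ψ : MulAut (P3 F)) '' S = φ '' (ψ '' S) := by
  rw [Set.image_image]; rfl

theorem field_P (e : RingAut F) : fieldAut e '' invP F = invP F := by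
  have h : ∀ e : RingAut F, fieldAut e '' invP F ⊆ invP F := by
    rintro e _ ⟨x, ⟨v, f, hx, hf⟩, rfl⟩
    exact ⟨_, _, hx.field e, by rw [hf, map_zero]⟩
  refine Set.Subset.antisymm (h e) fun x hx => ⟨fieldAut e⁻¹ x, h _ ⟨x, hx, rfl⟩, ?_⟩
  rw [← MulAut.mul_apply, ← map_mul, mul_inv_cancel, map_one, MulAut.one_apply]

theorem field_L (e : RingAut F) : fieldAut e '' invL F = invL F := by
  have h : ∀ e : RingAut F, fieldAut e '' invL F ⊆ invL F := by
    rintro e _ ⟨x, ⟨v, f, hx, hf⟩, rfl⟩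
    exact ⟨_, _, hx.field e, by rw [hf, map_zero]⟩
  refine Set.Subset.antisymm (h e) fun x hx => ⟨fieldAut e⁻¹ x, h _ ⟨x, hx, rfl⟩, ?_⟩
  rw [← MulAut.mul_apply, ← map_mul, mul_inv_cancel, map_one, MulAut.one_apply]

theorem rt_mem_invP {i j : Fin 3} (h : i ≠ j) (hj : j ≠ 0) : rt i j h (1 : F) ∈ invP F :=
  ⟨_, _, IsTv.xx i j h one_ne_zero, by simp [Pi.single_apply, hj.symm]⟩

theorem diag_rt_tv (g : GL (Fin 3) F) {i j : Fin 3} (h : i ≠ j) :
    IsTv (diagAut g (rt i j h (1 : F))) (fun k => g.1 k i) (fun k => (g⁻¹).1 j k) := by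
  have h1 := (IsTv.xx (F := F) i j h one_ne_zero).conjGL g
  rwa [one_smul, Matrix.mulVec_single_one, Matrix.single_one_vecMul] at h1

/-- An inner-diagonal automorphism keeping the point keeps its vector up to a scalar. -/
theorem diag_P {g : GL (Fin 3) F} (h : diagAut g '' invP F ⊆ invP F) : g.1 1 0 = 0 ∧ g.1 2 0 = 0 := by
  have key : ∀ j : Fin 3, j ≠ 0 → (g⁻¹).1 j 0 = 0 := by
    intro j hj
    obtain ⟨v, f, h', hf⟩ := h ⟨_, rt_mem_invP (i := 0) hj.symm hj, rfl⟩
    obtain ⟨c, -, -, e⟩ := h'.unique (diag_rt_tv g hj.symm)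
    have := congrFun e 0
    rw [Pi.smul_apply, hf, smul_zero] at this
    exact this
  have e : (g⁻¹).1 * g.1 = 1 := by rw [← Units.val_mul, inv_mul_cancel, Units.val_one]
  have e' : g.1 * (g⁻¹).1 = 1 := by rw [← Units.val_mul, mul_inv_cancel, Units.val_one]
  have h0 : ∀ i, g.1 i 0 * (g⁻¹).1 0 0 = (1 : Matrix (Fin 3) (Fin 3) F) i 0 := fun i => by
    rw [← e', Matrix.mul_apply, Fin.sum_univ_three, key 1 (by decide), key 2 (by decide)]; simp
  have hne : (g⁻¹).1 0 0 ≠ 0 := fun e0 => by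
    have := h0 0; rw [e0, mul_zero, Matrix.one_apply_eq] at this; exact zero_ne_one this
  refine ⟨?_, ?_⟩
  · have := h0 1; rw [Matrix.one_apply_ne (by decide), mul_eq_zero] at this; exact this.resolve_right hne
  · have := h0 2; rw [Matrix.one_apply_ne (by decide), mul_eq_zero] at this; exact this.resolve_right hne

variable [Fintype F] [CharP F 2]

theorem not_P_to_L {φ : MulAut (P3 F)} (hφ : φ ∈ typ F) : φ '' invP F ≠ invL F := by
  obtain ⟨g, e, rfl⟩ := hφ
  rw [mem_image_mul, field_P]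
  intro h
  have key : ∀ i j : Fin 3, ∀ hij : i ≠ j, j ≠ 0 → g.1 2 i = 0 := by
    intro i j hij hj
    have hm : diagAut g (rt i j hij (1 : F)) ∈ diagAut g '' invP F := ⟨_, rt_mem_invP hij hj, rfl⟩
    rw [h] at hm
    obtain ⟨v, f, h', hv⟩ := hm
    obtain ⟨c, -, e, -⟩ := h'.unique (diag_rt_tv g hij)
    have := congrFun e 2
    rw [Pi.smul_apply, hv, smul_zero] at this
    exact this
  apply ((Matrix.isUnit_iff_isUnit_det _).mp g.isUnit).ne_zero
  refine Matrix.det_eq_zero_of_row_eq_zero 2 fun i => ?_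
  fin_cases i
  · exact key 0 1 (by decide) (by decide)
  · exact key 1 2 (by decide) (by decide)
  · exact key 2 1 (by decide) (by decide)

/-- The matrix reversing the basis. -/
def rev (F : Type) [Field F] : GL (Fin 3) F :=
  ⟨!![0, 0, 1; 0, 1, 0; 1, 0, 0], !![0, 0, 1; 0, 1, 0; 1, 0, 0],
    by ext i j; fin_cases i <;> fin_cases j <;> simp [Matrix.mul_apply, Fin.sum_univ_three],
    by ext i j; fin_cases i <;> fin_cases j <;> simp [Matrix.mul_apply, Fin.sum_univ_three]⟩

/-- The duality exchanging the standard point and line. -/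
def dual (F : Type) [Field F] : MulAut (P3 F) := diagAut (rev F) * graphAut

theorem IsTv.dual {x : P3 F} {v f : V} (h : IsTv x v f) :
    IsTv (dual F x) ![f 2, f 1, f 0] ![-v 2, -v 1, -v 0] := by
  have h1 := h.graph.conjGL (rev F)
  have e1 : (rev F).1 *ᵥ f = ![f 2, f 1, f 0] := by
    funext i; fin_cases i <;> simp [rev, Matrix.mulVec, dotProduct, Fin.sum_univ_three]
  have e2 : (-v) ᵥ* ((rev F)⁻¹).1 = ![-v 2, -v 1, -v 0] := by
    funext i; fin_cases i <;> simp [rev, Matrix.vecMul, dotProduct, Fin.sum_univ_three]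
  rw [e1, e2] at h1
  exact h1

theorem dual_PL : dual F '' invP F ⊆ invL F ∧ dual F '' invL F ⊆ invP F ∧ dual F '' invB F ⊆ invB F := by
  refine ⟨?_, ?_, ?_⟩
  · rintro _ ⟨x, ⟨v, f, h, hf⟩, rfl⟩
    exact ⟨_, _, h.dual, by simp [hf]⟩
  · rintro _ ⟨x, ⟨v, f, h, hv⟩, rfl⟩
    exact ⟨_, _, h.dual, by simp [hv]⟩
  · rintro _ ⟨x, ⟨v, f, h, hf, hv⟩, rfl⟩
    exact ⟨_, _, h.dual, by simp [hv], by simp [hf]⟩

theorem dual_P : dual F '' invP F = invL F := by
  haveI : Finite (P3 F) := Quotient.finite _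
  refine Set.eq_of_subset_of_ncard_le dual_PL.1 ?_
  have h := Set.ncard_le_ncard (dual_PL (F := F)).2.1
  rw [Set.ncard_image_of_injective _ (dual F).injective] at h ⊢
  exact h

theorem dual_L : dual F '' invL F = invP F := by
  haveI : Finite (P3 F) := Quotient.finite _
  refine Set.eq_of_subset_of_ncard_le dual_PL.2.1 ?_
  rw [Set.ncard_image_of_injective _ (dual F).injective, ← dual_P,
    Set.ncard_image_of_injective _ (dual F).injective]

theorem dual_B : dual F '' invB F = invB F := by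
  haveI : Finite (P3 F) := Quotient.finite _
  refine Set.eq_of_subset_of_ncard_le dual_PL.2.2 ?_
  rw [Set.ncard_image_of_injective _ (dual F).injective]

/-- Every automorphism preserves or reverses the type. -/
theorem typ_or_dual (φ : MulAut (P3 F)) : φ ∈ typ F ∨ ∃ ψ ∈ typ F, φ = ψ * dual F := by
  haveI : Fact (Nat.Prime 2) := ⟨Nat.prime_two⟩
  obtain ⟨g, e, h | h⟩ := exists_decomposition 2 (le_refl 3) φ
  · exact Or.inl ⟨g, e, h⟩
  · refine Or.inr ⟨diagAut g * fieldAut e * (diagAut (rev F))⁻¹,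
      mul_mem ⟨g, e, rfl⟩ (inv_mem (diag_mem_typ _)), ?_⟩
    rw [h, dual]; group

/-- The shape of a point. -/
def ShP (S : Set (P3 F)) : Prop := ∃ φ ∈ typ F, S = φ '' invP F

/-- The shape of a line. -/
def ShL (S : Set (P3 F)) : Prop := ∃ φ ∈ typ F, S = φ '' invL F

/-- The shape of a flag. -/
def ShB (S : Set (P3 F)) : Prop := ∃ φ : MulAut (P3 F), S = φ '' invB F

theorem shP_ne_shL {S : Set (P3 F)} (h : ShP S) : ¬ ShL S := by
  rintro ⟨ψ, hψ, rfl⟩
  obtain ⟨φ, hφ, e⟩ := h
  refine not_P_to_L (mul_mem (inv_mem hψ) hφ) ?_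
  rw [mem_image_mul, ← e, ← mem_image_mul, inv_mul_cancel, MulAut.coe_one, Set.image_id]

theorem card_B_lt : Nat.card (invB F) < Nat.card (invP F) := by
  have hq : 2 ≤ Fintype.card F := Fintype.one_lt_card
  set q := Fintype.card F
  have h1 := card_invB (F := F)
  have h2 := card_invP (F := F)
  obtain ⟨m, hm⟩ : ∃ m, q = m + 1 := ⟨q - 1, by omega⟩
  have hm1 : 1 ≤ m := by omega
  have e1 : q - 1 = m := by omega
  have e2 : q ^ 2 - 1 = m * (m + 2) := by
    rw [hm]; exact Nat.sub_eq_of_eq_add (by ring)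
  have e3 : q ^ 2 - q = (m + 1) * m := by
    rw [hm]; exact Nat.sub_eq_of_eq_add (by ring)
  rw [e1, e2, e3] at h1
  rw [e1, e2] at h2
  have hlt : Nat.card (invB F) * m < Nat.card (invP F) * m := by rw [h1, h2]; nlinarith
  exact Nat.lt_of_mul_lt_mul_right hlt

theorem shB_ne {S : Set (P3 F)} (h : ShB S) : ¬ ShP S ∧ ¬ ShL S := by
  haveI : Finite (P3 F) := Quotient.finite _
  obtain ⟨φ, rfl⟩ := h
  constructor <;> rintro ⟨ψ, -, e⟩ <;> have h1 := congrArg Set.ncard e
  · rw [Set.ncard_image_of_injective _ φ.injective, Set.ncard_image_of_injective _ ψ.injective] at h1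
    have := card_B_lt (F := F)
    rw [Nat.card_coe_set_eq, Nat.card_coe_set_eq] at this
    omega
  · rw [Set.ncard_image_of_injective _ φ.injective, Set.ncard_image_of_injective _ ψ.injective, ← dual_P,
      Set.ncard_image_of_injective _ (dual F).injective] at h1
    have := card_B_lt (F := F)
    rw [Nat.card_coe_set_eq, Nat.card_coe_set_eq] at this
    omega

theorem ShP.image {S : Set (P3 F)} (h : ShP S) {φ : MulAut (P3 F)} (hφ : φ ∈ typ F) : ShP (φ '' S) := by
  obtain ⟨ψ, hψ, rfl⟩ := h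
  exact ⟨φ * ψ, mul_mem hφ hψ, (mem_image_mul _).symm⟩

theorem ShL.image {S : Set (P3 F)} (h : ShL S) {φ : MulAut (P3 F)} (hφ : φ ∈ typ F) : ShL (φ '' S) := by
  obtain ⟨ψ, hψ, rfl⟩ := h
  exact ⟨φ * ψ, mul_mem hφ hψ, (mem_image_mul _).symm⟩

theorem dual_typ {ψ : MulAut (P3 F)} (hψ : ψ ∈ typ F) : dual F * ψ * (dual F)⁻¹ ∈ typ F := by
  obtain ⟨g, e, rfl⟩ := hψ
  have : dual F * (diagAut g * fieldAut e) * (dual F)⁻¹ =
      diagAut (rev F) * (diagAut (dualGL g) * fieldAut e) * (diagAut (rev F))⁻¹ := by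
    rw [dual, _root_.mul_inv_rev, graphAut_inv]
    calc diagAut (rev F) * graphAut * (diagAut g * fieldAut e) * (graphAut * (diagAut (rev F))⁻¹)
        = diagAut (rev F) * ((graphAut * diagAut g) * (fieldAut e * graphAut)) * (diagAut (rev F))⁻¹ := by
          simp only [mul_assoc]
      _ = _ := by
          rw [graphAut_diag, ← graphAut_field, mul_assoc (diagAut (dualGL g)), ← mul_assoc graphAut graphAut,
            graphAut_mul_self, one_mul]
  rw [this]
  exact mul_mem (mul_mem (diag_mem_typ _) ⟨_, _, rfl⟩) (inv_mem (diag_mem_typ _))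

theorem ShP.dual {S : Set (P3 F)} (h : ShP S) : ShL (PlaneStab.dual F '' S) := by
  obtain ⟨ψ, hψ, rfl⟩ := h
  refine ⟨_, dual_typ hψ, ?_⟩
  rw [← dual_P, ← mem_image_mul, ← mem_image_mul]; group

theorem ShL.dual {S : Set (P3 F)} (h : ShL S) : ShP (PlaneStab.dual F '' S) := by
  obtain ⟨ψ, hψ, rfl⟩ := h
  refine ⟨_, dual_typ hψ, ?_⟩
  rw [← dual_L, ← mem_image_mul, ← mem_image_mul]; group

/-- An automorphism keeping the point preserves the type. -/
theorem typ_of_P {φ : MulAut (P3 F)} (h : φ '' invP F = invP F) : φ ∈ typ F := by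
  rcases typ_or_dual φ with hφ | ⟨ψ, hψ, rfl⟩
  · exact hφ
  rw [mem_image_mul, dual_P] at h
  exact absurd (⟨ψ, hψ, h.symm⟩ : ShL (invP F)) (shP_ne_shL ⟨1, one_mem _, by rw [MulAut.coe_one, Set.image_id]⟩)

/-- An automorphism fixing the involutions of a point is trivial. -/
theorem eq_one_of_fix_P {φ : MulAut (P3 F)} (h : ∀ x ∈ invP F, φ x = x) : φ = 1 := by
  have hP : φ '' invP F = invP F := by
    ext x
    exact ⟨fun ⟨y, hy, e⟩ => e ▸ (h y hy).symm ▸ hy, fun hx => ⟨x, hx, h x hx⟩⟩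
  obtain ⟨g, e, rfl⟩ := typ_of_P hP
  have hfix : ∀ (i j : Fin 3) (hij : i ≠ j), j ≠ 0 → ∀ c : F, g.1 * single i j (e c) = single i j c * g.1 := by
    intro i j hij hj c
    rcases eq_or_ne c 0 with rfl | hc
    · simp
    refine single_comm_of_eq (hij := hij) (hkl := hij) ?_
    exact h _ ⟨_, _, IsTv.xx i j hij hc, by simp [Pi.single_apply, hj.symm]⟩
  have h01 := hfix 0 1 (by decide) (by decide)
  have h02 := hfix 0 2 (by decide) (by decide)
  have h12 := hfix 1 2 (by decide) (by decide)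
  have h21 := hfix 2 1 (by decide) (by decide)
  have e01 := h01 1; have e02 := h02 1; have e12 := h12 1; have e21 := h21 1
  rw [map_one] at e01 e02 e12 e21
  have a10 : g.1 1 0 = 0 := by
    have := congrFun (congrFun e01 1) 1
    simpa [Matrix.mul_apply, Fin.sum_univ_three, Matrix.single_apply] using this
  have a20 : g.1 2 0 = 0 := by
    have := congrFun (congrFun e01 2) 1
    simpa [Matrix.mul_apply, Fin.sum_univ_three, Matrix.single_apply] using this
  have a21 : g.1 2 1 = 0 := by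
    have := congrFun (congrFun e12 2) 2
    simpa [Matrix.mul_apply, Fin.sum_univ_three, Matrix.single_apply] using this
  have a12 : g.1 1 2 = 0 := by
    have := congrFun (congrFun e21 1) 1
    simpa [Matrix.mul_apply, Fin.sum_univ_three, Matrix.single_apply] using this
  have a01 : g.1 0 1 = 0 := by
    have := congrFun (congrFun e12 0) 2
    simpa [Matrix.mul_apply, Fin.sum_univ_three, Matrix.single_apply] using this
  have a02 : g.1 0 2 = 0 := by
    have := congrFun (congrFun e21 0) 1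
    simpa [Matrix.mul_apply, Fin.sum_univ_three, Matrix.single_apply] using this
  have d1 : g.1 0 0 = g.1 1 1 := by
    have := congrFun (congrFun e01 0) 1
    simpa [Matrix.mul_apply, Fin.sum_univ_three, Matrix.single_apply] using this
  have d2 : g.1 0 0 = g.1 2 2 := by
    have := congrFun (congrFun e02 0) 2
    simpa [Matrix.mul_apply, Fin.sum_univ_three, Matrix.single_apply] using this
  have hd0 : g.1 0 0 ≠ 0 := fun e0 => by
    apply ((Matrix.isUnit_iff_isUnit_det _).mp g.isUnit).ne_zero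
    exact Matrix.det_eq_zero_of_column_eq_zero 0 fun i => by fin_cases i <;> simp [e0, a10, a20]
  have he : e = 1 := RingEquiv.ext fun c => by
    have := congrFun (congrFun (h01 c) 0) 1
    simp [Matrix.mul_apply, Fin.sum_univ_three, Matrix.single_apply, ← d1] at this
    rw [RingAut.one_apply]
    exact mul_left_cancel₀ hd0 (by rw [this, mul_comm])
  rw [he, map_one, mul_one]
  refine diagAut_scalar g (g.1 0 0) ?_
  ext i j
  fin_cases i <;> fin_cases j <;> simp [a10, a20, a21, a12, a01, a02, ← d1, ← d2]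

/-- Perfect groups of automorphisms are inner. -/
theorem perfect_inner {H : Subgroup (MulAut (P3 F))} (h : H ≤ ⁅H, H⁆) :
    H ≤ (MulAut.conj : P3 F →* MulAut (P3 F)).range := by
  haveI : Fact (Nat.Prime 2) := ⟨Nat.prime_two⟩
  set K := (diagAut : GL (Fin 3) F →* MulAut (P3 F)).range with hK
  haveI : K.Normal := diagAut_range_normal 2 (by norm_num)
  obtain ⟨f, -, hf⟩ := FiniteField.card F 2
  haveI := (ringAut_cyclic (F := F) (p := 2) hf).1
  have hab : ∀ x y : MulAut (P3 F), ⁅x, y⁆ ∈ K := by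
    intro x y
    rw [← QuotientGroup.eq_one_iff (N := K), ← QuotientGroup.mk'_apply, map_commutatorElement]
    obtain ⟨s, hs⟩ := (fieldGraph_bijective (F := F) 2 (le_refl 3) K hK).2 (QuotientGroup.mk' K x)
    obtain ⟨t, ht⟩ := (fieldGraph_bijective (F := F) 2 (le_refl 3) K hK).2 (QuotientGroup.mk' K y)
    letI : CommGroup (RingAut F) := IsCyclic.commGroup
    rw [← hs, ← ht, ← map_commutatorElement, commutatorElement_eq_one_iff_mul_comm.mpr (Prod.ext ?_ ?_), map_one]
    · exact mul_comm _ _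
    · exact mul_comm _ _
  have hHK : H ≤ K := h.trans (Subgroup.commutator_le.mpr fun x _ y _ => hab x y)
  refine h.trans (Subgroup.commutator_le.mpr fun x hx y hy => ?_)
  obtain ⟨g, rfl⟩ := hHK hx
  obtain ⟨g', rfl⟩ := hHK hy
  obtain ⟨A, hA⟩ := exists_toGL_of_det_one ⁅g, g'⁆ (by
    rw [map_commutatorElement, commutatorElement_eq_one_iff_mul_comm, mul_comm])
  rw [← map_commutatorElement, ← hA, diagAut_toGL]
  exact ⟨_, rfl⟩

theorem typ_inner (hq : Fintype.card F = 2) : typ F ≤ (MulAut.conj : P3 F →* MulAut (P3 F)).range := by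
  haveI : Fact (Nat.Prime 2) := ⟨Nat.prime_two⟩
  obtain ⟨-, h1⟩ := ringAut_cyclic (F := F) (p := 2) (f := 1) (by rw [hq, pow_one])
  haveI : Subsingleton (RingAut F) := (Nat.card_eq_one_iff_unique.mp h1).1
  classical
  haveI : Subsingleton Fˣ := Fintype.card_le_one_iff_subsingleton.mp (by rw [Fintype.card_units, hq])
  rintro _ ⟨g, e, rfl⟩
  obtain ⟨A, hA⟩ := exists_toGL_of_det_one g (Subsingleton.elim _ _)
  rw [Subsingleton.elim e 1, map_one, mul_one, ← hA, diagAut_toGL]
  exact ⟨_, rfl⟩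

/-- The elements keeping the standard point. -/
def pointE (F : Type) [Field F] : Subgroup (P3 F) where
  carrier := {x | ∃ (A : S3L F) (c : F), mk A = x ∧ c ≠ 0 ∧ A.1 *ᵥ Pi.single 0 1 = c • Pi.single 0 1}
  one_mem' := ⟨1, 1, map_one _, one_ne_zero, by
    show (1 : Matrix (Fin 3) (Fin 3) F) *ᵥ _ = _; rw [one_mulVec, one_smul]⟩
  mul_mem' := by
    rintro _ _ ⟨A, c, rfl, hc, hA⟩ ⟨B, d, rfl, hd, hB⟩
    refine ⟨A * B, d * c, map_mul _ _ _, mul_ne_zero hd hc, ?_⟩
    show (A.1 * B.1) *ᵥ _ = _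
    rw [← mulVec_mulVec, hB, mulVec_smul, hA, smul_smul]
  inv_mem' := by
    rintro _ ⟨A, c, rfl, hc, hA⟩
    refine ⟨A⁻¹, c⁻¹, map_inv _ _, inv_ne_zero hc, ?_⟩
    have e : (A⁻¹).1 * A.1 = 1 := congrArg Subtype.val (inv_mul_cancel A)
    have h := congrArg (fun w => c⁻¹ • ((A⁻¹).1 *ᵥ w)) hA
    simp only [mulVec_mulVec, e, one_mulVec, mulVec_smul, smul_smul, inv_mul_cancel₀ hc, one_smul] at h
    exact h.symm

theorem mem_pointE {m : P3 F} (h : MulAut.conj m '' invP F ⊆ invP F) : m ∈ pointE F := by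
  obtain ⟨A, rfl⟩ := mk_surjective m
  rw [← diagAut_toGL] at h
  obtain ⟨h1, h2⟩ := diag_P h
  change A.1 1 0 = 0 at h1
  change A.1 2 0 = 0 at h2
  refine ⟨A, A.1 0 0, rfl, fun e => ?_, funext fun i => ?_⟩
  · have := A.2
    rw [Matrix.det_eq_zero_of_column_eq_zero 0 fun i => by fin_cases i <;> simp [e, h1, h2]] at this
    exact zero_ne_one this
  · rw [Matrix.mulVec_single_one]
    fin_cases i <;> simp [h1, h2]

theorem pointE_commutator : ⁅pointE F, pointE F⁆ ≤ X0P F := by
  rw [X0P_eq, Subgroup.commutator_le]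
  rintro _ ⟨A, c, rfl, hc, hA⟩ _ ⟨B, d, rfl, hd, hB⟩
  refine ⟨⁅A, B⁆, map_commutatorElement _ _ _, ?_⟩
  have inv' : ∀ (C : S3L F) (k : F), k ≠ 0 → C.1 *ᵥ Pi.single 0 1 = k • Pi.single 0 1 →
      (C⁻¹).1 *ᵥ Pi.single 0 1 = k⁻¹ • Pi.single 0 1 := by
    intro C k hk hC
    have e : (C⁻¹).1 * C.1 = 1 := congrArg Subtype.val (inv_mul_cancel C)
    have h := congrArg (fun w => k⁻¹ • ((C⁻¹).1 *ᵥ w)) hC
    simp only [mulVec_mulVec, e, one_mulVec, mulVec_smul, smul_smul, inv_mul_cancel₀ hk, one_smul] at h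
    exact h.symm
  show (A.1 * B.1 * (A⁻¹).1 * (B⁻¹).1) *ᵥ _ = _
  rw [← mulVec_mulVec, ← mulVec_mulVec, ← mulVec_mulVec, inv' B d hd hB, mulVec_smul, inv' A c hc hA,
    mulVec_smul, mulVec_smul]
  simp only [mulVec_smul, hB, hA, smul_smul]
  rw [show d⁻¹ * (c⁻¹ * d * c) = 1 by field_simp, one_smul]

/-- **Images in the automorphisms**: a type preserving group keeping the point, perfect for `q ≥ 4`, is inner and
consists of conjugations by elements fixing the point vector. -/
theorem le_conj_X0P {H : Subgroup (MulAut (P3 F))} (hP : ∀ φ ∈ H, φ '' invP F = invP F)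
    (hperf : 4 ≤ Fintype.card F → H ≤ ⁅H, H⁆) : H ≤ (X0P F).map MulAut.conj := by
  by_cases hq : 4 ≤ Fintype.card F
  · have hH : H ≤ (pointE F).map MulAut.conj := fun φ hφ => by
      obtain ⟨m, rfl⟩ := perfect_inner (hperf hq) hφ
      exact ⟨m, mem_pointE (hP _ hφ).le, rfl⟩
    refine (hperf hq).trans ((Subgroup.commutator_mono hH hH).trans ?_)
    rw [← Subgroup.map_commutator]
    exact Subgroup.map_mono pointE_commutator
  · have hq2 : Fintype.card F = 2 := by
      obtain ⟨f, -, hf⟩ := FiniteField.card F 2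
      have hf1 : (f : ℕ) = 1 := by
        by_contra hne
        have hpos := f.pos
        have := Nat.pow_le_pow_right (show 0 < 2 by norm_num) (show 2 ≤ (f : ℕ) by omega)
        omega
      rw [hf, hf1, pow_one]
    intro φ hφ
    obtain ⟨m, rfl⟩ := typ_inner hq2 (typ_of_P (hP _ hφ))
    refine ⟨m, ?_, rfl⟩
    obtain ⟨A, c, hA, hc, hAc⟩ := mem_pointE (hP _ hφ).le
    classical
    haveI : Subsingleton Fˣ := Fintype.card_le_one_iff_subsingleton.mp (by rw [Fintype.card_units, hq2])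
    have h1 : c = 1 := by
      have := congrArg Units.val (Subsingleton.elim (Units.mk0 c hc) 1)
      simpa using this
    rw [h1, one_smul] at hAc
    rw [← hA]
    exact mem_X0P hAc

end CfsgLib.PlaneStab
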