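import Cfsg.Agent.Lib.PlaneStab.BPlanes

/-!
Elementary abelian groups of automorphisms of order `q²` keeping the involutions of the unitriangular group are inner
for `q ≥ 4`; for `q = 2` an involution that is not inner centralises at most three involutions.

Blueprint: `blueprint/S3727.md`, section 4.
-/

set_option autoImplicit false
set_option linter.unusedSectionVars false

namespace CfsgLib.PlaneStab

open Matrix CfsgLib.PSLn CfsgLib.RankOnePoint

variable {F : Type} [Field F] [Fintype F] [CharP F 2]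

local notation "V" => (Fin 3 → F)
local notation "Inn" => (MonoidHom.range (MulAut.conj : P3 F →* MulAut (P3 F)))

instance : Finite (MulAut (P3 F)) :=
  haveI : Finite (P3 F) := Quotient.finite _
  Finite.of_injective (fun e : MulAut (P3 F) => (e : P3 F → P3 F)) DFunLike.coe_injective

theorem card_le_two {X : Type*} [Group X] [Finite X] {H K : Subgroup X}
    (hp : ∀ x ∈ K, ∀ y ∈ K, x ∉ H → y ∉ H → x * y ∈ H) : Nat.card K ≤ 2 * Nat.card (K ⊓ H : Subgroup X) := by
  classical
  by_cases hs : ∃ s ∈ K, s ∉ H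
  · obtain ⟨s, hsK, hs⟩ := hs
    rw [two_mul, ← Nat.card_sum]
    refine Nat.card_le_card_of_injective (fun x : K => if hx : (x : X) ∈ H then Sum.inl ⟨x, x.2, hx⟩
      else Sum.inr ⟨s * x, mul_mem hsK x.2, hp s hsK x x.2 hs hx⟩) fun x y e => ?_
    dsimp only at e
    split_ifs at e
    · simp only [Sum.inl.injEq] at e
      exact Subtype.ext (congrArg Subtype.val e :)
    · simp only [Sum.inr.injEq] at e
      exact Subtype.ext (mul_left_cancel (congrArg Subtype.val e :))
  · push Not at hs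
    rw [inf_eq_left.mpr hs]
    omega

theorem typ_mul {φ ψ : MulAut (P3 F)} (hφ : φ ∉ typ F) (hψ : ψ ∉ typ F) : φ * ψ ∈ typ F := by
  obtain ⟨α, hα, rfl⟩ := (typ_or_dual φ).resolve_left hφ
  obtain ⟨β, hβ, rfl⟩ := (typ_or_dual ψ).resolve_left hψ
  have h2 : dual F * dual F ∈ typ F := typ_of_P (by rw [mem_image_mul, dual_P, dual_L])
  have e : α * dual F * (β * dual F) = α * (dual F * β * (dual F)⁻¹) * (dual F * dual F) := by group
  rw [e]
  exact mul_mem (mul_mem hα (dual_typ hβ)) h2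

/-- An inner-diagonal involution is inner. -/
theorem diag_inner {g : GL (Fin 3) F} (h : (diagAut g : MulAut (P3 F)) * diagAut g = 1) : diagAut g ∈ Inn := by
  set d := Matrix.GeneralLinearGroup.det g with hd
  have hsc : (diagAut (Units.map (Matrix.scalar (Fin 3)).toMonoidHom d⁻¹) : MulAut (P3 F)) = 1 :=
    diagAut_scalar _ ((d⁻¹ : Fˣ) : F) rfl
  obtain ⟨A, hA⟩ := exists_toGL_of_det_one (g * (g * g) * Units.map (Matrix.scalar (Fin 3)).toMonoidHom d⁻¹) (by
    rw [map_mul, map_mul, map_mul, ← hd]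
    apply Units.ext
    simp [Matrix.det_diagonal, Fin.prod_univ_three]
    field_simp)
  refine ⟨mk A, ?_⟩
  rw [← diagAut_toGL, hA, map_mul, map_mul, map_mul, h, mul_one, hsc, mul_one]

theorem ringAut_invol_unique {e e' : RingAut F} (h1 : e ≠ 1) (h1' : e' ≠ 1) (h2 : e * e = 1) (h2' : e' * e' = 1) :
    e = e' := by
  classical
  haveI : Fact (Nat.Prime 2) := ⟨Nat.prime_two⟩
  obtain ⟨f, -, hf⟩ := FiniteField.card F 2
  haveI := (ringAut_cyclic (F := F) (p := 2) hf).1
  haveI : Finite (RingAut F) := Finite.of_injective (fun e : RingAut F => (e : F → F)) DFunLike.coe_injective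
  haveI := Fintype.ofFinite (RingAut F)
  by_contra hne
  have hc := IsCyclic.card_pow_eq_one_le (α := RingAut F) (n := 2) (by norm_num)
  have hsub : ({1, e, e'} : Finset (RingAut F)) ⊆ Finset.univ.filter fun a => a ^ 2 = 1 := by
    intro x hx
    simp only [Finset.mem_insert, Finset.mem_singleton] at hx
    rcases hx with rfl | rfl | rfl <;> simp [pow_two, h2, h2']
  have := Finset.card_le_card hsub
  rw [Finset.card_eq_three.mpr ⟨1, e, e', Ne.symm h1, Ne.symm h1', hne, rfl⟩] at this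
  omega

theorem field_part {τ : MulAut (P3 F)} (ht : τ ∈ typ F) (h2 : τ * τ = 1) (hin : τ ∉ Inn) :
    ∃ (g : GL (Fin 3) F) (e : RingAut F), τ = diagAut g * fieldAut e ∧ e ≠ 1 ∧ e * e = 1 := by
  obtain ⟨g, e, rfl⟩ := ht
  refine ⟨g, e, rfl, fun e1 => ?_, ?_⟩
  · subst e1
    rw [map_one, mul_one] at h2 hin
    exact hin (diag_inner h2)
  · have e2 : (diagAut g * fieldAut e : MulAut (P3 F)) * (diagAut g * fieldAut e) =
        diagAut (g * GeneralLinearGroup.map (e : F ≃+* F).toRingHom g) * fieldAut (e * e) := by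
      rw [mul_assoc, ← mul_assoc (fieldAut e), fieldAut_diag, map_mul, map_mul, mul_assoc, mul_assoc]
    rw [e2] at h2
    exact (eq_one_imp (by norm_num) h2).1

theorem field_mul {τ τ' : MulAut (P3 F)} (ht : τ ∈ typ F) (ht' : τ' ∈ typ F) (h2 : τ * τ = 1) (h2' : τ' * τ' = 1)
    (hmul : τ * τ' * (τ * τ') = 1) (hin : τ ∉ Inn) (hin' : τ' ∉ Inn) : τ * τ' ∈ Inn := by
  obtain ⟨g, e, rfl, he, he2⟩ := field_part ht h2 hin
  obtain ⟨g', e', rfl, he', he2'⟩ := field_part ht' h2' hin'
  obtain rfl := ringAut_invol_unique he he' he2 he2'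
  have e2 : (diagAut g * fieldAut e : MulAut (P3 F)) * (diagAut g' * fieldAut e) =
      diagAut (g * GeneralLinearGroup.map (e : F ≃+* F).toRingHom g') * fieldAut (e * e) := by
    rw [mul_assoc, ← mul_assoc (fieldAut e), fieldAut_diag, map_mul, map_mul, mul_assoc, mul_assoc]
  rw [e2, he2, map_one, mul_one] at hmul ⊢
  exact diag_inner hmul

/-- The coordinates fixed by an automorphism with a field part meet their multiples trivially. -/
theorem field_disjoint {g : GL (Fin 3) F} {e : RingAut F} {c : F} (hc : e c ≠ c) {w : F × F}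
    (h1 : (diagAut g * fieldAut e : MulAut (P3 F)) (pl1 F (Multiplicative.ofAdd w)) = pl1 F (Multiplicative.ofAdd w))
    (h2 : (diagAut g * fieldAut e : MulAut (P3 F)) (pl1 F (Multiplicative.ofAdd (c • w))) =
      pl1 F (Multiplicative.ofAdd (c • w))) : w = 0 := by
  by_contra hw
  have hc0 : c ≠ 0 := fun e0 => hc (by rw [e0, map_zero])
  have hcw : c • w ≠ 0 := smul_ne_zero hc0 hw
  rw [MulAut.mul_apply] at h1 h2
  have k1 := ((pl1_tv hw).field e).conjGL g
  have k2 := ((pl1_tv hcw).field e).conjGL g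
  rw [h1] at k1
  rw [h2] at k2
  have ef : (fun i => e ((![0, (c • w).1, (c • w).2] : V) i)) = e c • (fun i => e ((![0, w.1, w.2] : V) i)) := by
    funext i; fin_cases i <;> simp
  rw [ef, Matrix.smul_vecMul] at k2
  obtain ⟨d, hd, e1, e2⟩ := k1.unique (pl1_tv hw)
  obtain ⟨d', hd', e1', e2'⟩ := k2.unique (pl1_tv hcw)
  have hdd : d = d' := smul_left_injective F k1.centre_ne (e1.symm.trans e1')
  subst hdd
  have e3 : (![0, (c • w).1, (c • w).2] : V) = c • ![0, w.1, w.2] := by funext i; fin_cases i <;> simp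
  rw [e3, smul_comm, ← e2] at e2'
  have h3 := smul_left_injective F (pl1_tv hw).axis_ne e2'
  exact hc h3.symm

/-- The coordinates fixed by an automorphism reversing the type are proportional. -/
theorem dual_line {ψ : MulAut (P3 F)} (hψ : ψ ∈ typ F) {w w' : F × F} (hw : w ≠ 0)
    (h1 : (ψ * dual F) (pl1 F (Multiplicative.ofAdd w)) = pl1 F (Multiplicative.ofAdd w))
    (h2 : (ψ * dual F) (pl1 F (Multiplicative.ofAdd w')) = pl1 F (Multiplicative.ofAdd w')) : ∃ k : F, w' = k • w := by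
  rcases eq_or_ne w' 0 with rfl | hw'
  · exact ⟨0, by rw [zero_smul]⟩
  obtain ⟨g, e, rfl⟩ := hψ
  rw [MulAut.mul_apply, MulAut.mul_apply] at h1 h2
  have k1 := ((pl1_tv hw).dual.field e).conjGL g
  have k2 := ((pl1_tv hw').dual.field e).conjGL g
  rw [h1] at k1
  rw [h2] at k2
  obtain ⟨d, hd, -, e2⟩ := k1.unique (pl1_tv hw)
  obtain ⟨d', hd', -, e2'⟩ := k2.unique (pl1_tv hw')
  refine ⟨d'⁻¹ * d, ?_⟩
  have e3 : (![0, w'.1, w'.2] : V) = (d'⁻¹ * d) • ![0, w.1, w.2] := by
    rw [e2', e2, smul_smul, mul_assoc, mul_inv_cancel₀ hd, mul_one]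
  exact Prod.ext (by simpa using congrFun e3 1) (by simpa using congrFun e3 2)

/-- An additive group meeting a multiple trivially. -/
theorem sq_card_le {W : AddSubgroup (F × F)} {c : F} (h : ∀ w ∈ W, c • w ∈ W → w = 0) :
    Nat.card W * Nat.card W ≤ Fintype.card F ^ 2 ∧
      ((∀ w ∈ W, ∀ w' ∈ W, w ≠ 0 → ∃ k : F, w' = k • w) → Nat.card W * Nat.card W ≤ Fintype.card F) := by
  classical
  have hinj : Function.Injective fun p : W × W => (p.1 : F × F) + c • (p.2 : F × F) := by
    rintro ⟨⟨x, hx⟩, y, hy⟩ ⟨⟨x', hx'⟩, y', hy'⟩ e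
    dsimp only at e
    have e1 : c • (y - y') = x' - x := by rw [smul_sub]; linear_combination (norm := abel) e
    have e2 : y - y' = 0 := h _ (sub_mem hy hy') (e1 ▸ sub_mem hx' hx)
    have e3 : y = y' := sub_eq_zero.mp e2
    subst e3
    exact Prod.ext (Subtype.ext (add_right_cancel e)) rfl
  refine ⟨?_, fun hl => ?_⟩
  · have := Nat.card_le_card_of_injective _ hinj
    simpa [Nat.card_prod, pow_two] using this
  · rw [← Nat.card_prod, ← Nat.card_eq_fintype_card (α := F)]
    by_cases hW : ∀ w ∈ W, w = 0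
    · haveI : Subsingleton W := ⟨fun x y => Subtype.ext ((hW _ x.2).trans (hW _ y.2).symm)⟩
      exact (Finite.card_le_one_iff_subsingleton.mpr inferInstance).trans Nat.card_pos
    push Not at hW
    obtain ⟨w₀, hw₀, hne⟩ := hW
    have hs : ∀ p : W × W, ∃ k : F, (p.1 : F × F) + c • (p.2 : F × F) = k • w₀ := fun p => by
      obtain ⟨k, hk⟩ := hl w₀ hw₀ _ p.1.2 hne
      obtain ⟨l, hl'⟩ := hl w₀ hw₀ _ p.2.2 hne
      exact ⟨k + c * l, by rw [hk, hl', smul_smul, add_smul]⟩
    choose κ hκ using hs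
    exact Nat.card_le_card_of_injective κ fun p p' e => hinj (by dsimp only; rw [hκ, hκ, e])

section Elem

variable {E : Subgroup (MulAut (P3 F))} (hsq : ∀ φ ∈ E, φ * φ = 1) (hB : ∀ φ ∈ E, φ '' invB F = invB F)
  (hcard : Nat.card E = Fintype.card F ^ 2) (hq : 4 ≤ Fintype.card F)
include hsq hB hcard hq

theorem elem_inner_A1 (hJ : E.comap MulAut.conj ≤ A1 F) : E ≤ Inn := by
  classical
  haveI : Finite (P3 F) := Quotient.finite _
  by_contra hne
  set J := E.comap MulAut.conj with hJdef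
  have hcomm : ∀ x ∈ E, ∀ y ∈ E, x * y = y * x := by
    intro x hx y hy
    calc x * y = x * y * (y * x * (y * x)) := by rw [hsq _ (mul_mem hy hx), mul_one]
      _ = x * (y * y) * x * y * x := by group
      _ = y * x := by rw [hsq y hy, mul_one, hsq x hx, one_mul]
  have hfix : ∀ τ ∈ E, ∀ m ∈ J, τ m = m := by
    intro τ hτ m hm
    apply conj_injective
    have h1 : τ * MulAut.conj m * τ⁻¹ = MulAut.conj m := by
      rw [hcomm τ hτ _ hm, mul_inv_cancel_right]
    conv_rhs => rw [← h1]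
    ext z
    simp [mul_assoc]
  have hI : Nat.card (E ⊓ Inn : Subgroup _) = Nat.card J := by
    rw [inf_comm, ← Subgroup.map_comap_eq]
    exact (Nat.card_congr (J.equivMapOfInjective _ conj_injective).toEquiv).symm
  let W : AddSubgroup (F × F) := (J.comap (pl1 F)).toAddSubgroup'
  have hWJ : Nat.card W = Nat.card J := by
    have h1 : (J.comap (pl1 F)).map (pl1 F) = J := Subgroup.map_comap_eq_self (hJ.trans (le_of_eq rfl))
    conv_rhs => rw [← h1]
    rw [← Nat.card_congr ((J.comap (pl1 F)).equivMapOfInjective _ pl1_injective).toEquiv]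
    exact Nat.card_congr (Multiplicative.ofAdd.subtypeEquiv fun w => Iff.rfl)
  have hWmem : ∀ w, w ∈ W → pl1 F (Multiplicative.ofAdd w) ∈ J := fun w hw => hw
  have hfield : ∀ τ ∈ E, τ ∈ typ F → τ ∉ Inn → ∃ c : F, ∀ w ∈ W, c • w ∈ W → w = 0 := by
    intro τ hτ ht hin
    obtain ⟨g, e, rfl, he, -⟩ := field_part ht (hsq τ hτ) hin
    obtain ⟨c, hc⟩ : ∃ c, e c ≠ c := by
      by_contra hh
      push Not at hh
      exact he (RingEquiv.ext hh)
    exact ⟨c, fun w hw hw' => field_disjoint hc (hfix _ hτ _ (hWmem w hw)) (hfix _ hτ _ (hWmem _ hw'))⟩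
  have hline : (∃ σ ∈ E, σ ∉ typ F) → ∀ w ∈ W, ∀ w' ∈ W, w ≠ 0 → ∃ k : F, w' = k • w := by
    rintro ⟨σ, hσ, hσt⟩ w hw w' hw' hne
    obtain ⟨ψ, hψ, rfl⟩ := (typ_or_dual σ).resolve_left hσt
    exact dual_line hψ hne (hfix _ hσ _ (hWmem w hw)) (hfix _ hσ _ (hWmem w' hw'))
  have c1 : Nat.card E ≤ 2 * Nat.card (E ⊓ typ F : Subgroup _) :=
    card_le_two fun x _ y _ hx hy => typ_mul hx hy
  have c2 : Nat.card (E ⊓ typ F : Subgroup _) ≤ 2 * Nat.card (E ⊓ Inn : Subgroup _) := by
    have h1 := card_le_two (H := Inn) (K := E ⊓ typ F) fun x hx y hy hxn hyn =>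
      field_mul hx.2 hy.2 (hsq x hx.1) (hsq y hy.1) (hsq _ (mul_mem hx.1 hy.1)) hxn hyn
    exact h1.trans (Nat.mul_le_mul_left 2 (Subgroup.card_le_of_le (inf_le_inf_right _ inf_le_left)))
  rw [hI, ← hWJ] at c2
  rw [hcard] at c1
  set q := Fintype.card F
  set k := Nat.card W
  by_cases hσ : ∃ σ ∈ E, σ ∉ typ F
  · by_cases hτ : ∃ τ ∈ E, τ ∈ typ F ∧ τ ∉ Inn
    · obtain ⟨τ, hτE, hτt, hτn⟩ := hτ
      obtain ⟨c, hc⟩ := hfield τ hτE hτt hτn
      have hk := (sq_card_le hc).2 (hline hσ)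
      have hqk : q ^ 2 ≤ 4 * k := by omega
      nlinarith [Nat.mul_le_mul hqk hqk, Nat.mul_le_mul hq hq]
    · push Not at hτ
      have hle : E ⊓ typ F ≤ E ⊓ Inn := fun x hx => ⟨hx.1, hτ x hx.1 hx.2⟩
      have h2 := Subgroup.card_le_of_le hle
      rw [hI, ← hWJ] at h2
      have hkq : k ≤ q := by
        by_cases hW : ∀ w ∈ W, w = 0
        · haveI : Subsingleton W := ⟨fun x y => Subtype.ext ((hW _ x.2).trans (hW _ y.2).symm)⟩
          exact (Finite.card_le_one_iff_subsingleton.mpr inferInstance).trans Fintype.card_pos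
        push Not at hW
        obtain ⟨w₀, hw₀, hne⟩ := hW
        choose κ hκ using fun w : W => hline hσ w₀ hw₀ _ w.2 hne
        have := Nat.card_le_card_of_injective κ fun w w' e => Subtype.ext (by rw [hκ, hκ, e])
        rwa [Nat.card_eq_fintype_card (α := F)] at this
      nlinarith
  · push Not at hσ
    have h2 : E ⊓ typ F = E := inf_eq_left.mpr hσ
    rw [h2, hcard] at c2
    obtain ⟨τ, hτE, hτn⟩ : ∃ τ ∈ E, τ ∉ Inn := SetLike.not_le_iff_exists.mp hne
    obtain ⟨c, hc⟩ := hfield τ hτE (hσ τ hτE) hτn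
    have hk := (sq_card_le hc).1
    have hkq : k ≤ q := Nat.pow_le_pow_iff_left (by norm_num : 2 ≠ 0) |>.mp (by rw [pow_two]; exact hk)
    nlinarith

/-- **Elementary abelian groups of order `q²` keeping the involutions of `U` are inner.** -/
theorem elem_inner : E ≤ Inn := by
  have hinv : ∀ m ∈ E.comap MulAut.conj, m ≠ 1 → m ∈ invB F := by
    intro m hm h1
    refine mem_invB_of_conj ⟨h1, conj_injective ?_⟩ (hB _ hm)
    rw [map_mul, map_one]; exact hsq _ hm
  rcases plane_cases hinv with hJ | hJ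
  · exact elem_inner_A1 hsq hB hcard hq hJ
  -- the duality exchanges the planes
  set c := (MulAut.conj (dual F)).toMonoidHom (M := MulAut (P3 F))
  have hci : Function.Injective c := (MulAut.conj (dual F)).injective
  have himg : ∀ φ ∈ E, c φ '' invB F = invB F := by
    intro φ hφ
    show (dual F * φ * (dual F)⁻¹ : MulAut (P3 F)) '' invB F = invB F
    have hd : ((dual F)⁻¹ : MulAut (P3 F)) '' invB F = invB F := by
      conv_lhs => rw [← dual_B, ← mem_image_mul, inv_mul_cancel, MulAut.coe_one, Set.image_id]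
    rw [mem_image_mul, mem_image_mul, hd, hB φ hφ, dual_B]
  have h := elem_inner_A1 (E := E.map c) ?_ ?_ ?_ hq ?_
  · intro φ hφ
    obtain ⟨m, hm⟩ := h (Subgroup.mem_map_of_mem c hφ)
    refine ⟨(dual F).symm m, ?_⟩
    apply hci
    rw [← hm]
    ext z
    simp [c, mul_assoc]
  · rintro _ ⟨φ, hφ, rfl⟩
    rw [← map_mul, hsq φ hφ, map_one]
  · rintro _ ⟨φ, hφ, rfl⟩
    exact himg φ hφ
  · rw [← Nat.card_congr (E.equivMapOfInjective c hci).toEquiv, hcard]
  · intro m hm
    obtain ⟨φ, hφ, e⟩ := hm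
    have hm' : MulAut.conj ((dual F).symm m) = φ := by
      apply hci
      rw [e]
      ext z
      simp [c, mul_assoc]
    have hmJ : (dual F).symm m ∈ A2 F := hJ (show MulAut.conj ((dual F).symm m) ∈ E from hm' ▸ hφ)
    rcases eq_or_ne m 1 with rfl | hm1
    · exact one_mem _
    obtain ⟨w, hw, hwm, ht⟩ := mem_A2 hmJ fun e1 => hm1 (by simpa using congrArg (dual F) e1)
    have ht' := ht.dual
    rw [(dual F).apply_symm_apply] at ht'
    have hmB : m ∈ invB F := ⟨_, _, ht', by simp, by simp⟩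
    refine (invB_cases hmB).elim id fun e2 => ?_
    obtain ⟨-, d1⟩ := A2_axis e2 ht'
    simp at d1
    obtain ⟨u, hu, hum, hu'⟩ := mem_A2 e2 hm1
    obtain ⟨k, hk, k1, -⟩ := hu'.unique ht'
    have a1 := congrFun k1 1
    simp at a1
    have : u.1 = 0 := (mul_eq_zero.mp (by simpa [eq_comm] using a1)).resolve_left hk
    rw [← hum, show u = (0, u.2) from Prod.ext this rfl]
    show rt 1 2 _ (0 : F) * rt 0 2 _ u.2 ∈ _
    rw [rt_zero, one_mul]; exact rt02_A1 _

end Elem

/-- For two elements the involutions centralised by an outer involution are at most three. -/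
theorem outer_fix (hq : Fintype.card F = 2) {τ : MulAut (P3 F)} (h2 : τ * τ = 1) (hn : τ ∉ Inn) :
    Nat.card {y : P3 F // Invol y ∧ τ y = y} ≤ 3 := by
  classical
  haveI : Subsingleton Fˣ := Fintype.card_le_one_iff_subsingleton.mp (by rw [Fintype.card_units, hq])
  haveI : Fact (Nat.Prime 2) := ⟨Nat.prime_two⟩
  haveI : Subsingleton (RingAut F) :=
    (Nat.card_eq_one_iff_unique.mp (ringAut_cyclic (F := F) (p := 2) (f := 1) (by rw [hq, pow_one])).2).1
  have h01 : ∀ c : F, c ≠ 0 → c = 1 := fun c hc =>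
    congrArg Units.val (Subsingleton.elim (Units.mk0 c hc) 1)
  have hnt : τ ∉ typ F := fun h => hn (typ_inner hq h)
  obtain ⟨ψ, ⟨g, e, rfl⟩, rfl⟩ := (typ_or_dual τ).resolve_left hnt
  obtain rfl := Subsingleton.elim e 1
  set G' := g * rev F with hG'
  have hτ : diagAut g * fieldAut 1 * dual F = (diagAut G' * graphAut : MulAut (P3 F)) := by
    rw [map_one, mul_one, dual, hG', map_mul, mul_assoc]
  rw [hτ] at h2 hn ⊢
  -- the axes
  let K : AddSubgroup V :=
    { carrier := {f | G'.1 *ᵥ f = f ᵥ* G'.1 ∧ f ⬝ᵥ (G'.1 *ᵥ f) = 0}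
      zero_mem' := by simp
      add_mem' := by
        rintro f f' ⟨h1, h1'⟩ ⟨k1, k1'⟩
        refine ⟨by rw [mulVec_add, add_vecMul, h1, k1], ?_⟩
        rw [mulVec_add, add_dotProduct, dotProduct_add, dotProduct_add, h1', k1', add_zero, zero_add]
        have : f' ⬝ᵥ (G'.1 *ᵥ f) = f ⬝ᵥ (G'.1 *ᵥ f') := by
          rw [h1, dotProduct_comm, dotProduct_mulVec]
        rw [this, CharTwo.add_self_eq_zero]
      neg_mem' := by intro f hf; rwa [CharTwo.neg_eq] }
  have hK : Nat.card K ≤ 4 := by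
    have hV : Nat.card V = 8 := by simp [Nat.card_eq_fintype_card, hq]
    have hdvd := K.card_addSubgroup_dvd_card
    rw [hV] at hdvd
    have hpos : 0 < Nat.card K := Nat.card_pos
    have h8 : Nat.card K ≠ 8 := by
      intro h8
      have htop : K = ⊤ := AddSubgroup.eq_top_of_card_eq _ (by rw [h8, hV])
      have key : ∀ f : V, G'.1 *ᵥ f = f ᵥ* G'.1 ∧ f ⬝ᵥ (G'.1 *ᵥ f) = 0 := fun f =>
        (show f ∈ K from htop ▸ AddSubgroup.mem_top f)
      have hsym : ∀ i j, G'.1 i j = G'.1 j i := fun i j => by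
        have := congrFun (key (Pi.single j 1)).1 i
        simpa using this
      have hdiag : ∀ i, G'.1 i i = 0 := fun i => by
        have := (key (Pi.single i 1)).2
        simpa using this
      apply ((Matrix.isUnit_iff_isUnit_det _).mp G'.isUnit).ne_zero
      rw [Matrix.det_fin_three, hdiag 0, hdiag 1, hdiag 2, hsym 1 0, hsym 2 0, hsym 2 1]
      ring_nf
      simp [show (2 : F) = 0 from CharTwo.two_eq_zero]
    have := Nat.le_of_dvd (by norm_num) hdvd
    interval_cases (Nat.card K) <;> omega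
  have hsub : ∀ y : {y : P3 F // Invol y ∧ (diagAut G' * graphAut : MulAut (P3 F)) y = y},
      ∃ f : V, f ≠ 0 ∧ f ∈ K ∧ ∃ v, IsTv y.1 v f := by
    rintro ⟨y, hy, hfix⟩
    obtain ⟨v, f, hv⟩ := exists_tv hy
    refine ⟨f, hv.axis_ne, ?_, v, hv⟩
    have h3 := hv.graph.conjGL G'
    rw [← MulAut.mul_apply, hfix] at h3
    obtain ⟨c, hc, e1, e2⟩ := hv.unique h3
    rw [h01 c hc, one_smul] at e1
    rw [h01 c hc, inv_one, one_smul, show -v = v from funext fun i => CharTwo.neg_eq _] at e2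
    have e3 : v = f ᵥ* G'.1 := by
      rw [← e2, vecMul_vecMul, ← Units.val_mul, inv_mul_cancel, Units.val_one, vecMul_one]
    refine ⟨e1.trans e3, ?_⟩
    rw [e1]; exact hv.inc
  choose φ hφ0 hφK hφv using hsub
  have hinj : Function.Injective fun y => (⟨φ y, hφK y, hφ0 y⟩ : {f : V // f ∈ K ∧ f ≠ 0}) := by
    intro y y' e
    obtain ⟨v, hv⟩ := hφv y
    obtain ⟨v', hv'⟩ := hφv y'
    have ef : φ y = φ y' := congrArg Subtype.val e
    rw [← ef] at hv'
    apply Subtype.ext
    -- the centre is determined by the axis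
    have key : ∀ {z : P3 F} {u : V}, IsTv z u (φ y) → (diagAut G' * graphAut : MulAut (P3 F)) z = z →
        u = G'.1 *ᵥ φ y := by
      intro z u hu hfix
      have h3 := hu.graph.conjGL G'
      rw [← MulAut.mul_apply, hfix] at h3
      obtain ⟨c, hc, e1, -⟩ := hu.unique h3
      rw [h01 c hc, one_smul] at e1
      exact e1.symm
    have e1 := key hv y.2.2
    have e2 := key hv' y'.2.2
    subst e1 e2
    exact hv.2.2.2.symm.trans hv'.2.2.2
  refine (Nat.card_le_card_of_injective _ hinj).trans ?_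
  have h4 := Nat.card_coe_set_eq ((K : Set V) \ {0})
  have h5 := Set.ncard_diff_singleton_of_mem (show (0 : V) ∈ (K : Set V) from K.zero_mem)
  rw [← Nat.card_coe_set_eq (K : Set V)] at h5
  show Nat.card ↥((K : Set V) \ {0}) ≤ 3
  rw [h4, h5]
  show Nat.card K - 1 ≤ 3
  omega

end CfsgLib.PlaneStab
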