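import Cfsg.Agent.Lib.PlaneStab.Aut

/-!
The two planes of the unitriangular group, and elementary abelian groups of automorphisms of order `q²` keeping its
involutions.

Blueprint: `blueprint/S3727.md`, section 4.
-/

set_option autoImplicit false
set_option linter.unusedSectionVars false

namespace CfsgLib.PlaneStab

open Matrix CfsgLib.PSLn CfsgLib.RankOnePoint

variable {F : Type} [Field F]

local notation "V" => (Fin 3 → F)

theorem rt01_02 (a b : F) : rt 0 1 (by decide) a * rt 0 2 (by decide) b = rt 0 2 (by decide) b * rt 0 1 (by decide) a := by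
  rw [rt, rt, ← map_mul, ← map_mul]
  congr 1
  apply Subtype.ext
  show (PSLn.xx 0 1 _ _).1 * (PSLn.xx 0 2 _ _).1 = (PSLn.xx 0 2 _ _).1 * (PSLn.xx 0 1 _ _).1
  simp [PSLn.coe_xx, Matrix.add_mul, Matrix.mul_add]
  abel

theorem rt12_02 (a b : F) : rt 1 2 (by decide) a * rt 0 2 (by decide) b = rt 0 2 (by decide) b * rt 1 2 (by decide) a := by
  rw [rt, rt, ← map_mul, ← map_mul]
  congr 1
  apply Subtype.ext
  show (PSLn.xx 1 2 _ _).1 * (PSLn.xx 0 2 _ _).1 = (PSLn.xx 0 2 _ _).1 * (PSLn.xx 1 2 _ _).1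
  simp [PSLn.coe_xx, Matrix.add_mul, Matrix.mul_add]
  abel

/-- The parametrisation of the plane of the transvections with the standard centre. -/
def pl1 (F : Type) [Field F] : Multiplicative (F × F) →* P3 F :=
  MonoidHom.mk' (fun w => rt 0 1 (by decide) (Multiplicative.toAdd w).1 * rt 0 2 (by decide) (Multiplicative.toAdd w).2)
    fun w w' => by
      rw [toAdd_mul, Prod.fst_add, Prod.snd_add, rt_add, rt_add]
      simp only [mul_assoc]
      congr 1
      rw [← mul_assoc (rt 0 1 _ (Multiplicative.toAdd w').1), rt01_02 (Multiplicative.toAdd w').1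
        (Multiplicative.toAdd w).2, mul_assoc]

/-- The parametrisation of the plane of the transvections with the standard axis. -/
def pl2 (F : Type) [Field F] : Multiplicative (F × F) →* P3 F :=
  MonoidHom.mk' (fun w => rt 1 2 (by decide) (Multiplicative.toAdd w).1 * rt 0 2 (by decide) (Multiplicative.toAdd w).2)
    fun w w' => by
      rw [toAdd_mul, Prod.fst_add, Prod.snd_add, rt_add, rt_add]
      simp only [mul_assoc]
      congr 1
      rw [← mul_assoc (rt 1 2 _ (Multiplicative.toAdd w').1), rt12_02 (Multiplicative.toAdd w').1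
        (Multiplicative.toAdd w).2, mul_assoc]

/-- The plane of the transvections with the standard centre. -/
def A1 (F : Type) [Field F] : Subgroup (P3 F) := (pl1 F).range

/-- The plane of the transvections with the standard axis. -/
def A2 (F : Type) [Field F] : Subgroup (P3 F) := (pl2 F).range

theorem pl1_tv {w : F × F} (hw : w ≠ 0) :
    IsTv (pl1 F (Multiplicative.ofAdd w)) (Pi.single 0 1) ![0, w.1, w.2] := by
  refine ⟨by simp, by simp, fun e => hw (Prod.ext (by simpa using congrFun e 1) (by simpa using congrFun e 2)), ?_⟩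
  show mk _ = rt 0 1 _ w.1 * rt 0 2 _ w.2
  rw [rt, rt, ← map_mul]
  congr 1
  apply Subtype.ext
  show _ = (PSLn.xx 0 1 _ _).1 * (PSLn.xx 0 2 _ _).1
  rw [coe_tv, coe_xx, coe_xx]
  ext i j
  rw [Matrix.add_apply, vecMulVec_apply]
  fin_cases i <;> fin_cases j <;> simp [Matrix.mul_apply, Fin.sum_univ_three, Matrix.single_apply]

theorem pl2_tv {w : F × F} (hw : w ≠ 0) :
    IsTv (pl2 F (Multiplicative.ofAdd w)) ![w.2, w.1, 0] (Pi.single 2 1) := by
  refine ⟨by simp, fun e => hw (Prod.ext (by simpa using congrFun e 1) (by simpa using congrFun e 0)), by simp, ?_⟩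
  show mk _ = rt 1 2 _ w.1 * rt 0 2 _ w.2
  rw [rt, rt, ← map_mul]
  congr 1
  apply Subtype.ext
  show _ = (PSLn.xx 1 2 _ _).1 * (PSLn.xx 0 2 _ _).1
  rw [coe_tv, coe_xx, coe_xx]
  ext i j
  rw [Matrix.add_apply, vecMulVec_apply]
  fin_cases i <;> fin_cases j <;> simp [Matrix.mul_apply, Fin.sum_univ_three, Matrix.single_apply]

theorem pl1_injective : Function.Injective (pl1 F) := by
  rw [← MonoidHom.ker_eq_bot_iff]
  refine (Subgroup.eq_bot_iff_forall _).mpr fun w hw => ?_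
  by_contra hne
  exact (pl1_tv (w := Multiplicative.toAdd w) (fun e => hne e)).mk_ne hw

theorem pl2_injective : Function.Injective (pl2 F) := by
  rw [← MonoidHom.ker_eq_bot_iff]
  refine (Subgroup.eq_bot_iff_forall _).mpr fun w hw => ?_
  by_contra hne
  exact (pl2_tv (w := Multiplicative.toAdd w) (fun e => hne e)).mk_ne hw

theorem mem_A1 {x : P3 F} (hx : x ∈ A1 F) (h1 : x ≠ 1) :
    ∃ w : F × F, w ≠ 0 ∧ pl1 F (Multiplicative.ofAdd w) = x ∧ IsTv x (Pi.single 0 1) ![0, w.1, w.2] := by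
  obtain ⟨w, rfl⟩ := hx
  have hw : Multiplicative.toAdd w ≠ 0 := fun e => h1 (by rw [show w = 1 from e, map_one])
  exact ⟨_, hw, rfl, pl1_tv hw⟩

theorem mem_A2 {x : P3 F} (hx : x ∈ A2 F) (h1 : x ≠ 1) :
    ∃ w : F × F, w ≠ 0 ∧ pl2 F (Multiplicative.ofAdd w) = x ∧ IsTv x ![w.2, w.1, 0] (Pi.single 2 1) := by
  obtain ⟨w, rfl⟩ := hx
  have hw : Multiplicative.toAdd w ≠ 0 := fun e => h1 (by rw [show w = 1 from e, map_one])
  exact ⟨_, hw, rfl, pl2_tv hw⟩

/-- The centre of a member of the plane. -/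
theorem A1_centre {x : P3 F} (hx : x ∈ A1 F) {v f : V} (h : IsTv x v f) : v 1 = 0 ∧ v 2 = 0 := by
  obtain ⟨w, -, -, ht⟩ := mem_A1 hx h.mk_ne
  obtain ⟨c, -, e, -⟩ := ht.unique h
  rw [e]
  simp

/-- The axis of a member of the plane. -/
theorem A2_axis {x : P3 F} (hx : x ∈ A2 F) {v f : V} (h : IsTv x v f) : f 0 = 0 ∧ f 1 = 0 := by
  obtain ⟨w, -, -, ht⟩ := mem_A2 hx h.mk_ne
  obtain ⟨c, -, -, e⟩ := ht.unique h
  rw [e]
  simp

theorem rt01_A1 (c : F) : rt 0 1 (by decide) c ∈ A1 F :=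
  ⟨Multiplicative.ofAdd (c, 0), by show _ * rt 0 2 _ (0 : F) = _; rw [rt_zero, mul_one]; rfl⟩

theorem rt02_A1 (c : F) : rt 0 2 (by decide) c ∈ A1 F :=
  ⟨Multiplicative.ofAdd (0, c), by show rt 0 1 _ (0 : F) * _ = _; rw [rt_zero, one_mul]; rfl⟩

theorem rt12_A2 (c : F) : rt 1 2 (by decide) c ∈ A2 F :=
  ⟨Multiplicative.ofAdd (c, 0), by show _ * rt 0 2 _ (0 : F) = _; rw [rt_zero, mul_one]; rfl⟩

theorem rt02_A2 (c : F) : rt 0 2 (by decide) c ∈ A2 F :=
  ⟨Multiplicative.ofAdd (0, c), by show rt 1 2 _ (0 : F) * _ = _; rw [rt_zero, one_mul]; rfl⟩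

theorem rt01_not_A2 : rt 0 1 (by decide) (1 : F) ∉ A2 F := fun h => by
  have := (A2_axis h (IsTv.xx 0 1 (by decide) one_ne_zero)).2
  simp at this

theorem rt12_not_A1 : rt 1 2 (by decide) (1 : F) ∉ A1 F := fun h => by
  have := (A1_centre h (IsTv.xx 1 2 (by decide) one_ne_zero)).1
  simp at this

theorem A1_invB {x : P3 F} (hx : x ∈ A1 F) (h1 : x ≠ 1) : x ∈ invB F := by
  obtain ⟨w, -, -, h⟩ := mem_A1 hx h1
  exact ⟨_, _, h, by simp, by simp⟩

theorem A2_invB {x : P3 F} (hx : x ∈ A2 F) (h1 : x ≠ 1) : x ∈ invB F := by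
  obtain ⟨w, -, -, h⟩ := mem_A2 hx h1
  exact ⟨_, _, h, by simp, by simp⟩

theorem invB_cases {x : P3 F} (hx : x ∈ invB F) : x ∈ A1 F ∨ x ∈ A2 F := by
  obtain ⟨v, f, h, hf, hv⟩ := hx
  have h0 := h.inc
  rw [dotProduct, Fin.sum_univ_three, hf, hv, zero_mul, mul_zero, zero_add, add_zero, mul_eq_zero] at h0
  rcases h0 with e | e
  · right
    have hf2 : f 2 ≠ 0 := fun e' => h.axis_ne (funext fun i => by fin_cases i <;> simp [hf, e, e'])
    have h' := h.smul hf2
    have hw : ((f 2 * v 1, f 2 * v 0) : F × F) ≠ 0 := fun e' => h.centre_ne (funext fun i => by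
      have a1 := congrArg Prod.fst e'
      have a2 := congrArg Prod.snd e'
      simp [hf2] at a1 a2
      fin_cases i <;> simp [hv, a1, a2])
    refine ⟨_, (IsTv.ext ?_ (pl2_tv hw)).symm⟩
    have ev : f 2 • v = ![f 2 * v 0, f 2 * v 1, 0] := funext fun i => by fin_cases i <;> simp [hv]
    have ef : (f 2)⁻¹ • f = Pi.single 2 1 := funext fun i => by fin_cases i <;> simp [hf, e, hf2]
    rwa [ev, ef] at h'
  · left
    have hv0 : v 0 ≠ 0 := fun e' => h.centre_ne (funext fun i => by fin_cases i <;> simp [hv, e, e'])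
    have h' := h.smul (inv_ne_zero hv0)
    rw [inv_inv] at h'
    have hw : ((v 0 * f 1, v 0 * f 2) : F × F) ≠ 0 := fun e' => h.axis_ne (funext fun i => by
      have a1 := congrArg Prod.fst e'
      have a2 := congrArg Prod.snd e'
      simp [hv0] at a1 a2
      fin_cases i <;> simp [hf, a1, a2])
    refine ⟨_, (IsTv.ext ?_ (pl1_tv hw)).symm⟩
    have ev : (v 0)⁻¹ • v = Pi.single 0 1 := funext fun i => by fin_cases i <;> simp [hv, e, hv0]
    have ef : v 0 • f = ![0, v 0 * f 1, v 0 * f 2] := funext fun i => by fin_cases i <;> simp [hf]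
    rwa [ev, ef] at h'
where
  IsTv.ext {x y : P3 F} {v f : V} (h : IsTv x v f) (h' : IsTv y v f) : x = y := h.2.2.2.symm.trans h'.2.2.2

variable [Fintype F] [CharP F 2]

theorem conj_injective : Function.Injective (MulAut.conj : P3 F →* MulAut (P3 F)) := by
  rw [← MonoidHom.ker_eq_bot_iff]
  refine (Subgroup.eq_bot_iff_forall _).mpr fun m hm => ?_
  obtain ⟨A, rfl⟩ := mk_surjective m
  rw [MonoidHom.mem_ker, ← diagAut_toGL] at hm
  obtain ⟨-, r, hr⟩ := eq_one_imp (F := F) (by norm_num : 2 ≤ 3) (g := SpecialLinearGroup.toGL A) (e := 1)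
    (by rw [hm, map_one, mul_one])
  change A.1 = _ at hr
  refine (QuotientGroup.eq_one_iff _).mpr (Matrix.SpecialLinearGroup.mem_center_iff.mpr ⟨r, ?_, hr.symm⟩)
  have := A.2
  rw [hr, Matrix.scalar_apply, Matrix.det_diagonal, Finset.prod_const, Finset.card_univ] at this
  exact this

theorem card_A1 : Nat.card (A1 F) = Fintype.card F ^ 2 := by
  rw [A1, ← Nat.card_congr (MonoidHom.ofInjective pl1_injective).toEquiv, Nat.card_congr Multiplicative.toAdd,
    Nat.card_prod, Nat.card_eq_fintype_card, pow_two]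

theorem card_A2 : Nat.card (A2 F) = Fintype.card F ^ 2 := by
  rw [A2, ← Nat.card_congr (MonoidHom.ofInjective pl2_injective).toEquiv, Nat.card_congr Multiplicative.toAdd,
    Nat.card_prod, Nat.card_eq_fintype_card, pow_two]

/-- A member of one plane commuting with a member of the other: one of them is in both planes. -/
theorem comm_planes {x y : P3 F} (hx : x ∈ A1 F) (hy : y ∈ A2 F) (hc : x * y = y * x) : x ∈ A2 F ∨ y ∈ A1 F := by
  rcases eq_or_ne x 1 with rfl | hx1
  · exact Or.inl (one_mem _)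
  rcases eq_or_ne y 1 with rfl | hy1
  · exact Or.inr (one_mem _)
  obtain ⟨w, hw, hwx, hx'⟩ := mem_A1 hx hx1
  obtain ⟨u, hu, huy, hy'⟩ := mem_A2 hy hy1
  have hc' : mk (PSLn.tv _ _ hx'.inc) * y * (mk (PSLn.tv _ _ hx'.inc))⁻¹ = y := by
    rw [hx'.2.2.2, hc, mul_inv_cancel_right]
  have h2 := hy'.conj (PSLn.tv _ _ hx'.inc)
  rw [hc'] at h2
  obtain ⟨c, -, e, e'⟩ := hy'.unique h2
  have a1 := congrFun e 0
  have a2 := congrFun e 1
  simp [Matrix.mulVec, dotProduct, Fin.sum_univ_three, coe_tv, vecMulVec_apply] at a1 a2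
  by_cases h1 : u.1 = 0
  · refine Or.inr ?_
    rw [← huy, show u = (0, u.2) from Prod.ext h1 rfl]
    show rt 1 2 _ (0 : F) * rt 0 2 _ u.2 ∈ _
    rw [rt_zero, one_mul]; exact rt02_A1 _
  · have hc1 : c = 1 := by
      have : (c - 1) * u.1 = 0 := by rw [sub_mul, one_mul, ← a2, sub_self]
      exact sub_eq_zero.mp ((mul_eq_zero.mp this).resolve_right h1)
    have hw1 : w.1 = 0 := by
      rw [hc1, one_mul] at a1
      have : w.1 * u.1 = 0 := by linear_combination a1
      exact (mul_eq_zero.mp this).resolve_right h1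
    refine Or.inl ?_
    rw [← hwx, show w = (0, w.2) from Prod.ext hw1 rfl]
    show rt 0 1 _ (0 : F) * rt 0 2 _ w.2 ∈ _
    rw [rt_zero, one_mul]; exact rt02_A2 _

/-- The involutions commuting with a root element. -/
theorem cent_rt02 {y : P3 F} (hy : Invol y) (hc : y * rt 0 2 (by decide) (1 : F) = rt 0 2 (by decide) (1 : F) * y) :
    y ∈ invB F := by
  obtain ⟨v, f, h⟩ := exists_tv hy
  have h2 := h.conj (PSLn.xx 0 2 (by decide) 1)
  rw [show mk (PSLn.xx 0 2 (by decide) (1 : F)) = rt 0 2 (by decide) 1 from rfl, ← hc, mul_inv_cancel_right] at h2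
  have hx : ((PSLn.xx (n := 3) 0 2 (by decide) (1 : F))⁻¹).1 = 1 + Matrix.single 0 2 (1 : F) := by
    rw [xx_inv, coe_xx, CharTwo.neg_eq]
  obtain ⟨c, -, e, e'⟩ := h.unique h2
  have a0 := congrFun e 0
  have a1 := congrFun e 1
  have a2 := congrFun e 2
  have b0 := congrFun e' 0
  have b1 := congrFun e' 1
  have b2 := congrFun e' 2
  rw [hx] at b0 b1 b2
  simp [Matrix.mulVec, dotProduct, Fin.sum_univ_three, coe_xx, Matrix.single_apply] at a0 a1 a2
  simp [Matrix.vecMul, dotProduct, Fin.sum_univ_three, Matrix.single_apply] at b0 b1 b2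
  refine ⟨v, f, h, ?_, ?_⟩
  · by_contra hf
    have hc1 : c⁻¹ = 1 := by
      have : (c⁻¹ - 1) * f 0 = 0 := by rw [sub_mul, one_mul, ← b0, sub_self]
      exact sub_eq_zero.mp ((mul_eq_zero.mp this).resolve_right hf)
    rw [hc1, one_mul] at b2
    exact hf (by linear_combination b2)
  · by_contra hv
    have hc1 : c = 1 := by
      have : (c - 1) * v 2 = 0 := by rw [sub_mul, one_mul, ← a2, sub_self]
      exact sub_eq_zero.mp ((mul_eq_zero.mp this).resolve_right hv)
    rw [hc1, one_mul] at a0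
    exact hv (by linear_combination a0)

/-- A group of involutions of the unitriangular group lies in a plane. -/
theorem plane_cases {J : Subgroup (P3 F)} (hJ : ∀ x ∈ J, x ≠ 1 → x ∈ invB F) : J ≤ A1 F ∨ J ≤ A2 F := by
  by_contra hc
  rw [not_or, SetLike.not_le_iff_exists, SetLike.not_le_iff_exists] at hc
  obtain ⟨⟨x, hx, hx1⟩, y, hy, hy2⟩ := hc
  have hx2 : x ∈ A2 F := (invB_cases (hJ x hx fun e => hx1 (e ▸ one_mem _))).resolve_left hx1
  have hy1 : y ∈ A1 F := (invB_cases (hJ y hy fun e => hy2 (e ▸ one_mem _))).resolve_right hy2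
  rcases invB_cases (hJ _ (mul_mem hx hy) fun e => hx1 (by rw [eq_inv_of_mul_eq_one_left e]; exact inv_mem hy1)) with e | e
  · exact hx1 ((Subgroup.mul_mem_cancel_right _ hy1).mp e)
  · exact hy2 ((Subgroup.mul_mem_cancel_left _ hx2).mp e)

theorem plane_eq {J : Subgroup (P3 F)} (hJ : ∀ x ∈ J, x ≠ 1 → x ∈ invB F) (hcard : Nat.card J = Fintype.card F ^ 2) :
    J = A1 F ∨ J = A2 F := by
  haveI : Finite (P3 F) := Quotient.finite _
  refine (plane_cases hJ).imp (fun e => Subgroup.eq_of_le_of_card_ge e ?_) (fun e => Subgroup.eq_of_le_of_card_ge e ?_)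
  · rw [hcard, card_A1]
  · rw [hcard, card_A2]

theorem invB_exists (x : P3 F) (hx : x ∈ invB F) : ∃ J : Subgroup (P3 F), (J = A1 F ∨ J = A2 F) ∧ x ∈ J :=
  (invB_cases hx).elim (fun e => ⟨_, Or.inl rfl, e⟩) (fun e => ⟨_, Or.inr rfl, e⟩)

theorem plane_prop {J : Subgroup (P3 F)} (hJ : J = A1 F ∨ J = A2 F) :
    (∀ x ∈ J, x ≠ 1 → x ∈ invB F) ∧ Nat.card J = Fintype.card F ^ 2 := by
  rcases hJ with rfl | rfl
  · exact ⟨fun x hx h1 => A1_invB hx h1, card_A1⟩
  · exact ⟨fun x hx h1 => A2_invB hx h1, card_A2⟩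

theorem plane_comm {J : Subgroup (P3 F)} (hJ : J = A1 F ∨ J = A2 F) {x y : P3 F} (hx : x ∈ J) (hy : y ∈ J) :
    x * y = y * x := by
  rcases hJ with rfl | rfl <;> obtain ⟨w, rfl⟩ := hx <;> obtain ⟨u, rfl⟩ := hy <;>
    rw [← map_mul, ← map_mul, mul_comm]

/-- An involution keeping the involutions of the unitriangular group is one of them. -/
theorem mem_invB_of_conj {m : P3 F} (hm : Invol m) (h : MulAut.conj m '' invB F = invB F) : m ∈ invB F := by
  obtain ⟨v, f, hv⟩ := exists_tv hm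
  have h01 : rt 0 1 (by decide) (1 : F) ∈ invB F := A1_invB (rt01_A1 1) (rt_ne one_ne_zero)
  have h12 : rt 1 2 (by decide) (1 : F) ∈ invB F := A2_invB (rt12_A2 1) (rt_ne one_ne_zero)
  have hz : rt 0 2 (by decide) (1 : F) ∈ invB F := A1_invB (rt02_A1 1) (rt_ne one_ne_zero)
  have hzc : ∀ y ∈ invB F, rt 0 2 (by decide) (1 : F) * y = y * rt 0 2 (by decide) (1 : F) := fun y hy =>
    (invB_cases hy).elim (plane_comm (Or.inl rfl) (rt02_A1 1)) (plane_comm (Or.inr rfl) (rt02_A2 1))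
  set z := MulAut.conj m (rt 0 2 (by decide) (1 : F)) with hz'
  have hzB : z ∈ invB F := h ▸ ⟨_, hz, rfl⟩
  have hzall : ∀ y ∈ invB F, z * y = y * z := by
    intro y hy
    rw [← h] at hy
    obtain ⟨y', hy', rfl⟩ := hy
    rw [hz', ← map_mul, ← map_mul, hzc y' hy']
  have hA : z ∈ A1 F ∧ z ∈ A2 F := by
    rcases invB_cases hzB with e | e
    · exact ⟨e, (comm_planes e (rt12_A2 1) (hzall _ h12)).resolve_right rt12_not_A1⟩
    · exact ⟨(comm_planes (rt01_A1 1) e (hzall _ h01).symm).resolve_left rt01_not_A2, e⟩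
  obtain ⟨h0, -, -, hmv⟩ := id hv
  have ht := (IsTv.xx (F := F) 0 2 (by decide) one_ne_zero).conj (PSLn.tv v f h0)
  rw [hmv] at ht
  change IsTv z _ _ at ht
  obtain ⟨c1, c2⟩ := A1_centre hA.1 ht
  obtain ⟨d0, d1⟩ := A2_axis hA.2 ht
  have hti : ((PSLn.tv v f h0)⁻¹).1 = 1 + vecMulVec v f := by
    rw [tv_inv, coe_tv, neg_vecMulVec, CharTwo.neg_eq]
  rw [hti] at d0 d1
  simp [Matrix.mulVec, dotProduct, Fin.sum_univ_three, coe_tv, vecMulVec_apply] at c1 c2
  simp [Matrix.vecMul, dotProduct, Fin.sum_univ_three, vecMulVec_apply] at d0 d1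
  have h0' := h0
  rw [dotProduct, Fin.sum_univ_three] at h0'
  refine ⟨v, f, hv, ?_, ?_⟩
  · by_contra hf
    rw [c1.resolve_right hf, c2.resolve_right hf, mul_zero, mul_zero, add_zero, add_zero, mul_eq_zero] at h0'
    exact hv.centre_ne (funext fun i => by
      fin_cases i <;> simp [c1.resolve_right hf, c2.resolve_right hf, h0'.resolve_left hf])
  · by_contra hw
    rw [d0.resolve_left hw, d1.resolve_left hw, zero_mul, zero_mul, zero_add, zero_add, mul_eq_zero] at h0'
    exact hv.axis_ne (funext fun i => by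
      fin_cases i <;> simp [d0.resolve_left hw, d1.resolve_left hw, h0'.resolve_right hw])

end CfsgLib.PlaneStab
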