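import Cfsg.Agent.Lib.PlaneStab.Semi
import Cfsg.Agent.Lib.PlaneStab.BAut

/-!
The shape of a flag: a member at a second point fixes the same points as a member at the first.

Blueprint: `blueprint/S3727.md`, section 4.
-/

set_option autoImplicit false
set_option linter.unusedSectionVars false

namespace CfsgLib.PlaneStab

open Matrix MulAction CfsgLib.PSLn CfsgLib.RankOnePoint

universe u v

variable {F : Type} [Field F] [Fintype F] [CharP F 2]

local notation "Inn" => (MonoidHom.range (MulAut.conj : P3 F →* MulAut (P3 F)))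

theorem field_two_or (F : Type) [Field F] [Fintype F] [CharP F 2] : Fintype.card F = 2 ∨ 4 ≤ Fintype.card F := by
  obtain ⟨f, -, hf⟩ := FiniteField.card F 2
  have hpos := f.pos
  rcases Nat.lt_or_ge (f : ℕ) 2 with h | h
  · left; rw [hf, show (f : ℕ) = 1 by omega, pow_one]
  · right; rw [hf]; exact (show (4 : ℕ) = 2 ^ 2 by norm_num) ▸ Nat.pow_le_pow_right (by norm_num) h

/-- The involutions of the unitriangular group commuting with all of them are the root elements. -/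
theorem centre_B {y : P3 F} (hy : y ∈ invB F) (hc : ∀ x ∈ invB F, y * x = x * y) :
    ∃ c : F, c ≠ 0 ∧ y = rt 0 2 (by decide) c := by
  have h01 : rt 0 1 (by decide) (1 : F) ∈ invB F := A1_invB (rt01_A1 1) (rt_ne one_ne_zero)
  have h12 : rt 1 2 (by decide) (1 : F) ∈ invB F := A2_invB (rt12_A2 1) (rt_ne one_ne_zero)
  have hA : y ∈ A1 F ∧ y ∈ A2 F := by
    rcases invB_cases hy with e | e
    · exact ⟨e, (comm_planes e (rt12_A2 1) (hc _ h12)).resolve_right rt12_not_A1⟩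
    · exact ⟨(comm_planes (rt01_A1 1) e (hc _ h01).symm).resolve_left rt01_not_A2, e⟩
  have hy1 : y ≠ 1 := by obtain ⟨v, f, h, -⟩ := hy; exact h.mk_ne
  obtain ⟨w, hw, hwy, ht⟩ := mem_A1 hA.1 hy1
  have h1 := (A2_axis hA.2 ht).2
  simp at h1
  refine ⟨w.2, fun e => hw (Prod.ext h1 e), ?_⟩
  rw [← hwy, show w = (0, w.2) from Prod.ext h1 rfl]
  show rt 0 1 _ (0 : F) * rt 0 2 _ w.2 = _
  rw [rt_zero, one_mul]

variable {G : Type u} {Ω : Type v} [Group G] [MulAction G Ω]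

/-- The points fixed by a subgroup. -/
def fx (Ω : Type v) [MulAction G Ω] (A : Subgroup G) : Set Ω := {c | ∀ x ∈ A, x • c = c}

/-- A group of `q²` elements, all but the identity involutions of the conjugate at `d` fixing `e`. -/
def OnPl (F : Type) [Field F] [Fintype F] (a : Ω) (N : Subgroup G) (d e : Ω) (A : Subgroup G) : Prop :=
  Nat.card A = Fintype.card F ^ 2 ∧ ∀ x ∈ A, x ≠ 1 → Invol x ∧ At a N d x ∧ x • e = e

/-- The points fixed by all involutions of the conjugate at `d` fixing `e`. -/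
def blk (a : Ω) (N : Subgroup G) (d e : Ω) : Set Ω :=
  {c | ∀ x : G, Invol x → At a N d x → x • e = e → x • c = c}

variable {a : Ω} {N : Subgroup G}

theorem fix_conj (g : G) {x : G} {c : Ω} : (g * x * g⁻¹) • (g • c) = g • c ↔ x • c = c := by
  simp [mul_smul]

theorem fx_conj (g : G) {A : Subgroup G} {c : Ω} :
    g • c ∈ fx Ω (A.map (MulAut.conj g).toMonoidHom) ↔ c ∈ fx Ω A := by
  constructor
  · intro hc x hx
    exact (fix_conj g).mp (hc _ ⟨x, hx, rfl⟩)
  · rintro hc _ ⟨x, hx, rfl⟩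
    exact (fix_conj g).mpr (hc x hx)

theorem OnPl.conj {d e : Ω} {A : Subgroup G} (hA : OnPl F a N d e A) (g : G) :
    OnPl F a N (g • d) (g • e) (A.map (MulAut.conj g).toMonoidHom) := by
  refine ⟨?_, ?_⟩
  · rw [← Nat.card_congr (A.equivMapOfInjective _ (MulAut.conj g).injective).toEquiv, hA.1]
  · rintro _ ⟨x, hx, rfl⟩ h1
    obtain ⟨hi, hat, he⟩ := hA.2 x hx fun e0 => h1 (by rw [e0, map_one])
    exact ⟨hi.conj g, hat.conj g, (fix_conj g).mpr he⟩

theorem blk_conj (g : G) {d e c : Ω} : g • c ∈ blk a N (g • d) (g • e) ↔ c ∈ blk a N d e := by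
  constructor
  · intro hc x hi hat he
    exact (fix_conj g).mp (hc _ (hi.conj g) (hat.conj g) ((fix_conj g).mpr he))
  · intro hc x hi hat he
    have hx : g * (g⁻¹ * x * g) * g⁻¹ = x := by group
    have := hc (g⁻¹ * x * g) (by simpa using hi.conj g⁻¹) (by simpa [inv_smul_smul] using hat.conj g⁻¹)
      ((fix_conj g).mp (by rw [hx]; exact he))
    rw [← hx]; exact (fix_conj g).mpr this

namespace Hyp

variable (h : Hyp G a N F)

/-- The hypotheses read through an automorphism. -/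
def twist (φ : MulAut (P3 F)) : Hyp G a N F where
  pt := h.pt
  e := (φ : P3 F ≃* P3 F).trans h.e
  even := h.even

theorem twist_emb (φ : MulAut (P3 F)) (x : P3 F) : (h.twist φ).emb x = h.emb (φ x) := rfl

theorem twist_inv (φ : MulAut (P3 F)) (b : Ω) : (h.twist φ).inv b = (φ⁻¹ : MulAut (P3 F)) '' h.inv b := by
  ext x
  constructor
  · intro hx
    exact ⟨φ x, ⟨(Invol.map (f := φ.toMonoidHom) φ.injective).mpr hx.1, hx.2⟩, MulAut.inv_apply_self _ _ _⟩
  · rintro ⟨y, hy, rfl⟩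
    refine ⟨(Invol.map (f := φ⁻¹.toMonoidHom) φ⁻¹.injective).mpr hy.1, ?_⟩
    show h.emb (φ (φ⁻¹ y)) • b = b
    rw [MulAut.apply_inv_self]; exact hy.2

theorem twist_B (φ : MulAut (P3 F)) (hB : ∀ b, b ≠ a → ShB (h.inv b)) :
    ∀ b, b ≠ a → ShB ((h.twist φ).inv b) := fun b hb => by
  obtain ⟨ψ, e⟩ := hB b hb
  exact ⟨φ⁻¹ * ψ, by rw [twist_inv, e, mem_image_mul]⟩

variable [Finite G] [Finite Ω] [FaithfulSMul G Ω] (hB : ∀ b, b ≠ a → ShB (h.inv b))
include h hB

omit hB in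
theorem inv_of_emb {b : Ω} {m : P3 F} (hm : Invol (h.emb m)) (hb : h.emb m • b = b) : m ∈ h.inv b :=
  ⟨(Invol.map h.emb_inj).mp hm, hb⟩

/-- The involutions of every second point lie in planes. -/
theorem plane_base {b : Ω} (hb : b ≠ a) {m : P3 F} (hm : m ∈ h.inv b) :
    ∃ A, OnPl F a N a b A ∧ h.emb m ∈ A := by
  obtain ⟨φ, hφ⟩ := hB b hb
  rw [hφ] at hm
  obtain ⟨m₀, hm₀, rfl⟩ := hm
  obtain ⟨J, hJ, hmJ⟩ := invB_exists m₀ hm₀
  have hfi : Function.Injective (h.emb.comp φ.toMonoidHom) := h.emb_inj.comp φ.injective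
  refine ⟨J.map (h.emb.comp φ.toMonoidHom), ⟨?_, ?_⟩, m₀, hmJ, rfl⟩
  · rw [← Nat.card_congr (J.equivMapOfInjective _ hfi).toEquiv, (plane_prop hJ).2]
  · rintro _ ⟨x, hx, rfl⟩ h1
    have hx1 : x ≠ 1 := fun e => h1 (by rw [e, map_one])
    have h2 : φ x ∈ h.inv b := by rw [hφ]; exact ⟨x, (plane_prop hJ).1 x hx hx1, rfl⟩
    exact ⟨(Invol.map h.emb_inj).mpr h2.1, h.pt.at_base.mpr (h.emb_mem _), h2.2⟩

theorem plane_exists {d e : Ω} (hde : d ≠ e) {x : G} (hi : Invol x) (hat : At a N d x) (he : x • e = e) :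
    ∃ A, OnPl F a N d e A ∧ x ∈ A := by
  obtain ⟨b, hb⟩ := h.pt.exists_ne
  obtain ⟨g, hga, hgb⟩ := h.pt.trans a b d e hb.symm hde
  have hx : g * (g⁻¹ * x * g) * g⁻¹ = x := by group
  obtain ⟨m, hm⟩ := h.emb_surj ((h.pt.at_iff hga).mp hat)
  have hfb : h.emb m • b = b := by
    rw [hm, ← fix_conj g, hx, hgb]; exact he
  have hmi : Invol (h.emb m) := by rw [hm]; simpa using hi.conj g⁻¹
  obtain ⟨A, hA, hmA⟩ := h.plane_base hB hb (h.inv_of_emb hmi hfb)
  refine ⟨A.map (MulAut.conj g).toMonoidHom, hga ▸ hgb ▸ hA.conj g, h.emb m, hmA, ?_⟩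
  rw [hm]; exact hx

theorem act_ne {b : Ω} {y : G} (hi : Invol y) (hat : At a N b y) (hya : y • a = a) :
    h.act ⟨y, mem_stabilizer_iff.mpr hya⟩ ≠ 1 := fun e =>
  h.cent_no_member (Or.inr hB) (h.pt.at_cls hi hat) ((h.mem_cent_act hya).mpr e)

theorem inner_four (hq : 4 ≤ Fintype.card F) {b : Ω} (hb : b ≠ a) {y : G} (hi : Invol y) (hat : At a N b y)
    (hya : y • a = a) : h.act ⟨y, mem_stabilizer_iff.mpr hya⟩ ∈ Inn := by
  obtain ⟨A, hA, hyA⟩ := h.plane_exists hB hb hi hat hya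
  obtain ⟨φ, hφ⟩ := hB b hb
  have hstab : A ≤ stabilizer G a := fun x hx => by
    rcases eq_or_ne x 1 with rfl | h1
    · exact one_mem _
    · exact mem_stabilizer_iff.mpr (hA.2 x hx h1).2.2
  set κ : A →* MulAut (P3 F) :=
    (MulAut.conj φ⁻¹).toMonoidHom.comp (h.act.comp (Subgroup.inclusion hstab)) with hκ
  have hsq : ∀ ψ ∈ κ.range, ψ * ψ = 1 := by
    rintro _ ⟨x, rfl⟩
    rw [← map_mul, show x * x = 1 from Subtype.ext (by
      rcases eq_or_ne (x : G) 1 with e | h1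
      · simp [e]
      · exact (hA.2 x x.2 h1).1.2), map_one]
  have hinv : ∀ ψ ∈ κ.range, ψ '' invB F = invB F := by
    rintro _ ⟨x, rfl⟩
    show (φ⁻¹ * h.act (Subgroup.inclusion hstab x) * φ⁻¹⁻¹ : MulAut (P3 F)) '' invB F = invB F
    have hxb : (x : G) • b = b := by
      rcases eq_or_ne (x : G) 1 with e | h1
      · rw [e, one_smul]
      · exact h.pt.at_fix (hA.2 x x.2 h1).2.1
    rw [inv_inv, mem_image_mul, mem_image_mul, ← hφ, ← h.inv_conj]
    show (φ⁻¹ : MulAut (P3 F)) '' h.inv ((x : G) • b) = _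
    rw [hxb, hφ, ← mem_image_mul, inv_mul_cancel, MulAut.coe_one, Set.image_id]
  have hinj : Function.Injective κ := by
    rw [← MonoidHom.ker_eq_bot_iff]
    refine (Subgroup.eq_bot_iff_forall _).mpr fun x hx => ?_
    by_contra h1
    have h1' : (x : G) ≠ 1 := fun e => h1 (Subtype.ext e)
    obtain ⟨hxi, hxat, hxa⟩ := hA.2 x x.2 h1'
    refine h.act_ne hB hxi hxat hxa ((MulAut.conj φ⁻¹).injective ?_)
    rw [map_one]; exact hx
  have hle := elem_inner (E := κ.range) hsq hinv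
    (by rw [← Nat.card_congr (MonoidHom.ofInjective hinj).toEquiv, hA.1]) hq
  obtain ⟨m, hm⟩ := hle ⟨⟨y, hyA⟩, rfl⟩
  refine ⟨φ m, ?_⟩
  apply (MulAut.conj φ⁻¹).injective
  show _ = κ ⟨y, hyA⟩
  rw [← hm]
  ext z
  simp [mul_assoc]

theorem exists_centre {c : Ω} (hc : c ≠ a) (hq : Fintype.card F = 2) :
    ∃! z, z ∈ h.inv c ∧ ∀ x ∈ h.inv c, z * x = x * z := by
  obtain ⟨φ, hφ⟩ := hB c hc
  have h02 : rt 0 2 (by decide) (1 : F) ∈ invB F := A1_invB (rt02_A1 1) (rt_ne one_ne_zero)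
  refine ⟨φ (rt 0 2 (by decide) 1), ⟨by rw [hφ]; exact ⟨_, h02, rfl⟩, fun x hx => ?_⟩, fun z hz => ?_⟩
  · rw [hφ] at hx
    obtain ⟨x, hx, rfl⟩ := hx
    rw [← map_mul, ← map_mul]
    exact congrArg φ ((invB_cases hx).elim (plane_comm (Or.inl rfl) (rt02_A1 1))
      (plane_comm (Or.inr rfl) (rt02_A2 1)))
  · obtain ⟨hz, hzc⟩ := hz
    rw [hφ] at hz hzc
    obtain ⟨z, hz, rfl⟩ := hz
    obtain ⟨k, hk, rfl⟩ := centre_B hz fun x hx => φ.injective (by
      rw [map_mul, map_mul]; exact hzc _ ⟨x, hx, rfl⟩)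
    haveI : Subsingleton Fˣ := by
      classical exact Fintype.card_le_one_iff_subsingleton.mp (by rw [Fintype.card_units, hq])
    rw [show k = 1 from congrArg Units.val (Subsingleton.elim (Units.mk0 k hk) 1)]

/-- For two elements the involutions fixing a second point are those commuting with their central one. -/
theorem inv_eq_centralizer (hq : Fintype.card F = 2) {c : Ω} (hc : c ≠ a) {z : P3 F}
    (hz : z ∈ h.inv c ∧ ∀ x ∈ h.inv c, z * x = x * z) : h.inv c = {x | Invol x ∧ x * z = z * x} := by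
  refine Set.Subset.antisymm (fun x hx => ⟨hx.1, (hz.2 x hx).symm⟩) ?_
  rintro x ⟨hxi, hxz⟩
  obtain ⟨φ, hφ⟩ := hB c hc
  have e : z = φ (rt 0 2 (by decide) 1) := (h.exists_centre hB hc hq).unique hz ⟨by
    rw [hφ]; exact ⟨_, A1_invB (rt02_A1 1) (rt_ne one_ne_zero), rfl⟩, fun y hy => by
    rw [hφ] at hy
    obtain ⟨y, hy, rfl⟩ := hy
    rw [← map_mul, ← map_mul]
    exact congrArg φ ((invB_cases hy).elim (plane_comm (Or.inl rfl) (rt02_A1 1))
      (plane_comm (Or.inr rfl) (rt02_A2 1)))⟩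
  rw [hφ]
  refine ⟨φ⁻¹ x, cent_rt02 ((Invol.map (f := φ⁻¹.toMonoidHom) φ⁻¹.injective).mpr hxi) (φ.injective ?_),
    MulAut.apply_inv_self _ _ _⟩
  rw [map_mul, map_mul, MulAut.apply_inv_self, ← e]
  exact hxz

theorem inner_two (hq : Fintype.card F = 2) {b : Ω} (hb : b ≠ a) {y : G} (hi : Invol y) (hat : At a N b y)
    (hya : y • a = a) : h.act ⟨y, mem_stabilizer_iff.mpr hya⟩ ∈ Inn := by
  classical
  haveI : Finite (P3 F) := Quotient.finite _
  by_contra hn
  set τ := h.act ⟨y, mem_stabilizer_iff.mpr hya⟩ with hτ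
  have h2 : τ * τ = 1 := by
    rw [hτ, ← map_mul]
    exact (congrArg h.act (Subtype.ext hi.2)).trans (map_one _)
  have hfix := outer_fix hq h2 hn
  choose ζ hζ hζu using fun c : {c : Ω // c ≠ a} => h.exists_centre hB c.2 hq
  -- the fibres have equal sizes
  have hn' : ∀ z z' : P3 F, Invol z → Invol z' →
      Nat.card {c // ζ c = z} ≤ Nat.card {c // ζ c = z'} := by
    intro z z' hz hz'
    obtain ⟨m, hm⟩ := one_class hz hz'
    have hma : ∀ c : {c : Ω // c ≠ a}, h.emb m • (c : Ω) ≠ a := fun c e =>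
      c.2 (MulAction.injective (h.emb m) (e.trans (h.emb_fix m).symm))
    refine Nat.card_le_card_of_injective (fun c => ⟨⟨h.emb m • (c.1 : Ω), hma c.1⟩, ?_⟩) ?_
    · obtain ⟨c, rfl⟩ := c
      refine ((hζu _ _) ?_).symm
      have e1 : h.inv (h.emb m • (c : Ω)) = MulAut.conj m '' h.inv c := by
        rw [← h.act_emb, ← h.inv_conj]
      dsimp only
      rw [e1]
      refine ⟨⟨ζ c, (hζ c).1, by rw [MulAut.conj_apply, hm]⟩, ?_⟩
      rintro _ ⟨x, hx, rfl⟩
      rw [← hm, ← MulAut.conj_apply, ← map_mul, ← map_mul, (hζ c).2 x hx]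
    · intro c c' e
      exact Subtype.ext (Subtype.ext (MulAction.injective (h.emb m)
        (congrArg (fun u => ((u : {c // ζ c = z'}).1 : Ω)) e)))
  set z₀ := ζ ⟨b, hb⟩ with hz₀
  have hz₀i : Invol z₀ := (hζ ⟨b, hb⟩).1.1
  set n := Nat.card {c // ζ c = z₀}
  have hn1 : 0 < n := Nat.card_pos_iff.mpr ⟨⟨⟨⟨b, hb⟩, rfl⟩⟩, inferInstance⟩
  have hcount : ∀ S : Set (P3 F), (∀ z ∈ S, Invol z) → Nat.card {c // ζ c ∈ S} = Nat.card S * n := by
    intro S hS
    haveI := Fintype.ofFinite S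
    rw [← Nat.card_congr (Equiv.sigmaSubtypeFiberEquivSubtype ζ (p := fun c => ζ c ∈ S) (q := (· ∈ S))
      fun c => Iff.rfl), Nat.card_sigma, Finset.sum_congr rfl fun z _ =>
        le_antisymm (hn' z.1 z₀ (hS _ z.2) hz₀i) (hn' z₀ z.1 hz₀i (hS _ z.2)),
      Finset.sum_const, Finset.card_univ, smul_eq_mul, ← Nat.card_eq_fintype_card]
  -- the points fixed by `y`
  have hy : Nat.card {c : {c : Ω // c ≠ a} // y • (c : Ω) = c} ≤ 3 * n := by
    refine le_trans ?_ (Nat.mul_le_mul_right n hfix)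
    rw [show Nat.card {z : P3 F // Invol z ∧ τ z = z} = Nat.card ({z | Invol z ∧ τ z = z} : Set (P3 F)) from rfl,
      ← hcount _ fun z hz => hz.1]
    refine Nat.card_le_card_of_injective (fun c => ⟨c.1, (hζ c.1).1.1, ?_⟩) fun c c' e =>
      Subtype.ext (congrArg (fun u => u.1) e)
    have e1 : τ '' h.inv c.1 = h.inv c.1 := by
      rw [hτ, ← h.inv_conj]; exact congrArg h.inv c.2
    refine hζu c.1 _ ⟨e1 ▸ ⟨_, (hζ c.1).1, rfl⟩, fun x hx => ?_⟩
    rw [← e1] at hx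
    obtain ⟨x, hx, rfl⟩ := hx
    rw [← map_mul, ← map_mul, (hζ c.1).2 x hx]
  -- the points fixed by the central involution of `b`
  have hx : Nat.card {c : {c : Ω // c ≠ a} // h.emb z₀ • (c : Ω) = c} = 5 * n := by
    have h5 : Nat.card (h.inv b) = 5 := by
      obtain ⟨φ, hφ⟩ := hB b hb
      rw [hφ, Nat.card_image_of_injective φ.injective]
      have := invB_val (F := F)
      rw [hq] at this
      omega
    rw [← h5, ← hcount _ fun z hz => hz.1]
    refine Nat.card_congr (Equiv.subtypeEquivRight fun c => ?_)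
    rw [h.inv_eq_centralizer hB hq hb (hζ ⟨b, hb⟩)]
    have e := h.inv_eq_centralizer hB hq c.2 (hζ c)
    constructor
    · intro hc
      have h3 : z₀ ∈ h.inv c.1 := ⟨hz₀i, hc⟩
      rw [e] at h3
      exact ⟨(hζ c).1.1, h3.2.symm⟩
    · intro hc
      have h3 : z₀ ∈ h.inv c.1 := by rw [e]; exact ⟨hz₀i, hc.2.symm⟩
      exact h3.2
  have hF := h.pt.numF_eq (Ω := Ω) (h.pt.at_cls hi hat)
    (h.pt.mem_cls (h.emb_mem z₀) ((Invol.map h.emb_inj).mpr hz₀i))
  have key : ∀ w : G, w • a = a → numF Ω w = Nat.card {c : {c : Ω // c ≠ a} // w • (c : Ω) = c} + 1 := by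
    intro w hw
    rw [numF, ← Nat.card_unique (α := PUnit.{1}), ← Nat.card_sum]
    refine Nat.card_congr
      { toFun := fun c => if hca : c.1 = a then Sum.inr PUnit.unit else Sum.inl ⟨⟨c.1, hca⟩, c.2⟩
        invFun := Sum.elim (fun c => ⟨c.1.1, c.2⟩) (fun _ => ⟨a, hw⟩)
        left_inv := fun c => by
          dsimp only
          split_ifs with hca
          · exact Subtype.ext hca.symm
          · rfl
        right_inv := fun c => by
          rcases c with c | c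
          · simp [c.1.2]
          · simp }
  rw [key y hya, key _ (h.emb_fix z₀), hx] at hF
  omega

/-- The members at a second point fixing the first act by inner automorphisms. -/
theorem inner {b : Ω} (hb : b ≠ a) {y : G} (hi : Invol y) (hat : At a N b y) (hya : y • a = a) :
    h.act ⟨y, mem_stabilizer_iff.mpr hya⟩ ∈ Inn :=
  (field_two_or F).elim (fun hq => h.inner_two hB hq hb hi hat hya) fun hq => h.inner_four hB hq hb hi hat hya

/-- A member at a second point fixes the points fixed by a member at the first. -/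
theorem member_fix {b : Ω} (hb : b ≠ a) {y : G} (hi : Invol y) (hat : At a N b y) (hya : y • a = a) {m : P3 F}
    (hm : MulAut.conj m = h.act ⟨y, mem_stabilizer_iff.mpr hya⟩) :
    m ∈ h.inv b ∧ ∀ c : Ω, y • c = c ↔ h.emb m • c = c := by
  classical
  have hmi : Invol m := by
    refine ⟨fun e => h.act_ne hB hi hat hya (by rw [← hm, e, map_one]), conj_injective ?_⟩
    rw [map_mul, map_one, hm, ← map_mul]
    exact (congrArg h.act (Subtype.ext hi.2)).trans (map_one _)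
  have hsub : ∀ c : Ω, y • c = c → h.emb m • c = c := by
    intro c hc
    by_cases hca : c = a
    · rw [hca]; exact h.emb_fix m
    obtain ⟨φ, hφ⟩ := hB c hca
    have e1 : MulAut.conj m '' h.inv c = h.inv c := by
      rw [hm, ← h.inv_conj]; exact congrArg h.inv hc
    have hmB : φ⁻¹ m ∈ invB F := by
      refine mem_invB_of_conj ((Invol.map (f := φ⁻¹.toMonoidHom) φ⁻¹.injective).mpr hmi) ?_
      have e2 : MulAut.conj (φ⁻¹ m) = φ⁻¹ * MulAut.conj m * φ := by ext z; simp [mul_assoc]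
      rw [e2, mem_image_mul, mem_image_mul, ← hφ, e1, hφ, ← mem_image_mul, inv_mul_cancel, MulAut.coe_one,
        Set.image_id]
    have : m ∈ h.inv c := by rw [hφ]; exact ⟨_, hmB, MulAut.apply_inv_self _ _ _⟩
    exact this.2
  refine ⟨⟨hmi, hsub b (h.pt.at_fix hat)⟩, fun c => ⟨hsub c, fun hc => ?_⟩⟩
  have hF := h.pt.numF_eq (Ω := Ω) (h.pt.at_cls hi hat) (h.pt.mem_cls (h.emb_mem m) ((Invol.map h.emb_inj).mpr hmi))
  have e : {c : Ω | y • c = c} = {c : Ω | h.emb m • c = c} :=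
    Set.eq_of_subset_of_ncard_le hsub (by rw [← Nat.card_coe_set_eq, ← Nat.card_coe_set_eq]; exact hF.ge)
  exact (Set.ext_iff.mp e c).mpr hc

theorem img_base {b : Ω} (hb : b ≠ a) {A : Subgroup G} (hA : OnPl F a N b a A) :
    ∃ B, OnPl F a N a b B ∧ fx Ω B = fx Ω A ∧
      ∀ x ∈ A, x ≠ 1 → ∃ x' ∈ B, x' ≠ 1 ∧ ∀ c : Ω, x' • c = c ↔ x • c = c := by
  have hstab : A ≤ stabilizer G a := fun x hx => by
    rcases eq_or_ne x 1 with rfl | h1
    · exact one_mem _
    · exact mem_stabilizer_iff.mpr (hA.2 x hx h1).2.2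
  set κ : A →* MulAut (P3 F) := h.act.comp (Subgroup.inclusion hstab)
  have hinn : κ.range ≤ Inn := by
    rintro _ ⟨x, rfl⟩
    rcases eq_or_ne (x : G) 1 with e | h1
    · rw [show x = 1 from Subtype.ext e, map_one]; exact one_mem _
    · exact h.inner hB hb (hA.2 x x.2 h1).1 (hA.2 x x.2 h1).2.1 (hA.2 x x.2 h1).2.2
  have hinj : Function.Injective κ := by
    rw [← MonoidHom.ker_eq_bot_iff]
    refine (Subgroup.eq_bot_iff_forall _).mpr fun x hx => ?_
    by_contra h1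
    have h1' : (x : G) ≠ 1 := fun e => h1 (Subtype.ext e)
    obtain ⟨hxi, hxat, hxa⟩ := hA.2 x x.2 h1'
    exact h.act_ne hB hxi hxat hxa hx
  have hcard : Nat.card (κ.range.comap MulAut.conj) = Fintype.card F ^ 2 := by
    rw [Nat.card_congr ((κ.range.comap MulAut.conj).equivMapOfInjective _ conj_injective).toEquiv,
      Subgroup.map_comap_eq_self hinn, ← Nat.card_congr (MonoidHom.ofInjective hinj).toEquiv, hA.1]
  have hkey : ∀ x, ∀ hx : x ∈ A, ∀ m : P3 F, MulAut.conj m = h.act ⟨x, hstab hx⟩ → x ≠ 1 →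
      m ∈ h.inv b ∧ ∀ c : Ω, x • c = c ↔ h.emb m • c = c := fun x hx m hm h1 =>
    h.member_fix hB hb (hA.2 x hx h1).1 (hA.2 x hx h1).2.1 (hA.2 x hx h1).2.2 hm
  refine ⟨(κ.range.comap MulAut.conj).map h.emb, ⟨?_, ?_⟩, ?_, ?_⟩
  · rw [← Nat.card_congr ((κ.range.comap MulAut.conj).equivMapOfInjective _ h.emb_inj).toEquiv, hcard]
  · rintro _ ⟨m, hm, rfl⟩ h1
    obtain ⟨x, hx⟩ := hm
    have hx1 : (x : G) ≠ 1 := fun e => h1 (by
      rw [show x = 1 from Subtype.ext e, map_one] at hx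
      rw [conj_injective (hx.symm.trans (map_one _).symm), map_one])
    obtain ⟨hmb, -⟩ := hkey x x.2 m hx.symm hx1
    exact ⟨(Invol.map h.emb_inj).mpr hmb.1, h.pt.at_base.mpr (h.emb_mem m), hmb.2⟩
  · ext c
    constructor
    · intro hc x hx
      rcases eq_or_ne x 1 with rfl | h1
      · exact one_smul _ _
      obtain ⟨m, hm⟩ := hinn ⟨⟨x, hx⟩, rfl⟩
      exact ((hkey x hx m hm h1).2 c).mpr (hc _ ⟨m, ⟨⟨x, hx⟩, hm.symm⟩, rfl⟩)
    · rintro hc _ ⟨m, hm, rfl⟩
      obtain ⟨x, hx⟩ := hm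
      by_cases h1 : (x : G) = 1
      · rw [show x = 1 from Subtype.ext h1, map_one] at hx
        rw [conj_injective (hx.symm.trans (map_one _).symm), map_one, one_smul]
      · exact ((hkey x x.2 m hx.symm h1).2 c).mp (hc x x.2)
  · intro x hx h1
    obtain ⟨m, hm⟩ := hinn ⟨⟨x, hx⟩, rfl⟩
    obtain ⟨hmb, hfix⟩ := hkey x hx m hm h1
    exact ⟨_, ⟨m, ⟨⟨x, hx⟩, hm.symm⟩, rfl⟩, ((Invol.map h.emb_inj).mpr hmb.1).1, fun c => (hfix c).symm⟩

/-- **The conjugates at two points.** -/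
theorem img {d e : Ω} (hde : d ≠ e) {A : Subgroup G} (hA : OnPl F a N d e A) :
    ∃ B, OnPl F a N e d B ∧ fx Ω B = fx Ω A ∧
      ∀ x ∈ A, x ≠ 1 → ∃ x' ∈ B, x' ≠ 1 ∧ ∀ c : Ω, x' • c = c ↔ x • c = c := by
  haveI := h.pt.pretrans
  obtain ⟨g, rfl⟩ := exists_smul_eq G a e
  obtain ⟨b, rfl⟩ : ∃ b, g • b = d := ⟨g⁻¹ • d, smul_inv_smul _ _⟩
  have hb : b ≠ a := fun e1 => hde (congrArg (g • ·) e1)
  have hA' := hA.conj g⁻¹
  rw [inv_smul_smul, inv_smul_smul] at hA'
  obtain ⟨B, hB', hfx, hpt⟩ := h.img_base hB hb hA'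
  refine ⟨B.map (MulAut.conj g).toMonoidHom, hB'.conj g, ?_, fun x hx h1 => ?_⟩
  · ext c
    obtain ⟨c, rfl⟩ : ∃ c', g • c' = c := ⟨g⁻¹ • c, smul_inv_smul _ _⟩
    rw [fx_conj, hfx]
    conv_rhs => rw [← fx_conj g⁻¹, inv_smul_smul]
  · obtain ⟨x', hx', hx'1, hc⟩ := hpt (g⁻¹ * x * g) ⟨x, hx, by simp⟩
      (fun e0 => h1 (by simpa [mul_assoc, mul_eq_one_iff_eq_inv, inv_mul_eq_iff_eq_mul] using e0))
    refine ⟨g * x' * g⁻¹, ⟨x', hx', rfl⟩, fun e0 => hx'1 (conj_eq_one_iff.mp e0), fun c => ?_⟩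
    obtain ⟨c, rfl⟩ : ∃ c', g • c' = c := ⟨g⁻¹ • c, smul_inv_smul _ _⟩
    have hx2 : g * (g⁻¹ * x * g) * g⁻¹ = x := by group
    rw [fix_conj, hc, ← fix_conj g, hx2]

theorem member_img {d e : Ω} (hde : d ≠ e) {x : G} (hi : Invol x) (hat : At a N d x) (he : x • e = e) :
    ∃ x', Invol x' ∧ At a N e x' ∧ x' • d = d ∧ ∀ c : Ω, x' • c = c ↔ x • c = c := by
  obtain ⟨A, hA, hxA⟩ := h.plane_exists hB hde hi hat he
  obtain ⟨B, hB', -, hpt⟩ := h.img hB hde hA
  obtain ⟨x', hx', h1, hc⟩ := hpt x hxA hi.1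
  obtain ⟨hi', hat', hd⟩ := hB'.2 x' hx' h1
  exact ⟨x', hi', hat', hd, hc⟩

omit hB in
theorem mem_blk (d e : Ω) : d ∈ blk a N d e ∧ e ∈ blk a N d e :=
  ⟨fun _ _ hat _ => h.pt.at_fix hat, fun _ _ _ he => he⟩

theorem blk_symm {d e : Ω} (hde : d ≠ e) : blk a N d e = blk a N e d := by
  suffices key : ∀ d e : Ω, d ≠ e → blk a N e d ⊆ blk a N d e from
    Set.Subset.antisymm (key e d hde.symm) (key d e hde)
  intro d e hde c hc x hi hat he
  obtain ⟨x', hi', hat', hd, hfix⟩ := h.member_img hB hde hi hat he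
  exact (hfix c).mp (hc x' hi' hat' hd)

omit hB in
theorem members_eq {d e c : Ω} (hde : d ≠ e) (hdc : d ≠ c) (hc : c ∈ blk a N d e) :
    ∀ x, Invol x → At a N d x → (x • c = c ↔ x • e = e) := by
  intro x hi hat
  obtain ⟨g, hgd, hge⟩ := h.pt.trans d e d c hde hdc
  set S := {x : G | Invol x ∧ At a N d x ∧ x • e = e}
  set T := {x : G | Invol x ∧ At a N d x ∧ x • c = c}
  have hST : S ⊆ T := fun x hx => ⟨hx.1, hx.2.1, hc x hx.1 hx.2.1 hx.2.2⟩
  have hTS : T.ncard ≤ S.ncard := by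
    refine Set.ncard_le_ncard_of_injOn (fun x => g⁻¹ * x * g) ?_ (fun x _ y _ e1 => by simpa using e1)
      (Set.toFinite _)
    rintro x ⟨hxi, hxat, hxc⟩
    refine ⟨by simpa using hxi.conj g⁻¹, ?_, ?_⟩
    · have := hxat.conj g⁻¹
      rwa [inv_smul_eq_iff.mpr hgd.symm, inv_inv] at this
    · rw [← fix_conj g, show g * (g⁻¹ * x * g) * g⁻¹ = x by group, hge]; exact hxc
  have hST' := Set.eq_of_subset_of_ncard_le hST hTS
  exact ⟨fun hx => ((Set.ext_iff.mp hST' x).mpr ⟨hi, hat, hx⟩).2.2, fun hx => (hST ⟨hi, hat, hx⟩).2.2⟩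

omit hB in
theorem blk_eq {d e c : Ω} (hde : d ≠ e) (hdc : d ≠ c) (hc : c ∈ blk a N d e) : blk a N d c = blk a N d e := by
  have hm := h.members_eq hde hdc hc
  ext z
  exact ⟨fun hz x hi hat he => hz x hi hat ((hm x hi hat).mpr he),
    fun hz x hi hat hx => hz x hi hat ((hm x hi hat).mp hx)⟩

/-- Two points of a block determine it. -/
theorem blk_pair {d e c c' : Ω} (hde : d ≠ e) (hcc : c ≠ c') (hc : c ∈ blk a N d e) (hc' : c' ∈ blk a N d e) :
    blk a N c c' = blk a N d e := by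
  by_cases hdc : d = c
  · subst hdc; exact h.blk_eq hde hcc hc'
  have e1 : blk a N c d = blk a N d e := by rw [h.blk_symm hB (Ne.symm hdc), h.blk_eq hde hdc hc]
  rw [← e1] at hc' ⊢
  exact h.blk_eq (Ne.symm hdc) hcc hc'

/-- The fixed points of a member contain the blocks of their pairs. -/
theorem blk_sub {d : Ω} {x : G} (hi : Invol x) (hat : At a N d x) {c c' : Ω}
    (hc : x • c = c) (hc' : x • c' = c') : blk a N c c' ⊆ {z | x • z = z} := by
  intro z hz
  by_cases hdc : d = c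
  · subst hdc; exact hz x hi hat hc'
  obtain ⟨x', hi', hat', -, hfix⟩ := h.member_img hB hdc hi hat hc
  exact (hfix z).mp (hz x' hi' hat' ((hfix c').mpr hc'))

theorem fx_sub {d e : Ω} {A : Subgroup G} (hA : OnPl F a N d e A) {c c' : Ω} (hc : c ∈ fx Ω A) (hc' : c' ∈ fx Ω A) :
    blk a N c c' ⊆ fx Ω A := by
  intro z hz x hx
  rcases eq_or_ne x 1 with rfl | h1
  · exact one_smul _ _
  · exact h.blk_sub hB (hA.2 x hx h1).1 (hA.2 x hx h1).2.1 (hc x hx) (hc' x hx) hz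

end Hyp

end CfsgLib.PlaneStab
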