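import Cfsg.Agent.Lib.PlaneStab.BType
import Mathlib.GroupTheory.Transfer
import Mathlib.GroupTheory.SpecificGroups.Cyclic

/-!
The shape of a flag does not occur.

Blueprint: `blueprint/S3727.md`, section 4.
-/

set_option autoImplicit false
set_option linter.unusedSectionVars false

namespace CfsgLib.PlaneStab

open Matrix MulAction CfsgLib.PSLn CfsgLib.RankOnePoint

universe u v

variable {F : Type} [Field F] [Fintype F] [CharP F 2]

theorem A1_of_centre {x : P3 F} {v f : Fin 3 → F} (h : IsTv x v f) (hf : f 0 = 0) (hv1 : v 1 = 0) (hv2 : v 2 = 0) :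
    x ∈ A1 F := by
  rcases invB_cases ⟨v, f, h, hf, hv2⟩ with e | e
  · exact e
  obtain ⟨w, hw, hwx, ht⟩ := mem_A2 e h.mk_ne
  obtain ⟨c, hc, e1, -⟩ := ht.unique h
  have a1 := congrFun e1 1
  simp [hv1, hc] at a1
  rw [← hwx, show w = (0, w.2) from Prod.ext a1 rfl]
  show rt 1 2 _ (0 : F) * rt 0 2 _ w.2 ∈ _
  rw [rt_zero, one_mul]; exact rt02_A1 _

theorem A2_of_axis {x : P3 F} {v f : Fin 3 → F} (h : IsTv x v f) (hv : v 2 = 0) (hf0 : f 0 = 0) (hf1 : f 1 = 0) :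
    x ∈ A2 F := by
  rcases invB_cases ⟨v, f, h, hf0, hv⟩ with e | e
  swap
  · exact e
  obtain ⟨w, hw, hwx, ht⟩ := mem_A1 e h.mk_ne
  obtain ⟨c, hc, -, e1⟩ := ht.unique h
  have a1 := congrFun e1 1
  simp [hf1, hc] at a1
  rw [← hwx, show w = (0, w.2) from Prod.ext a1 rfl]
  show rt 0 1 _ (0 : F) * rt 0 2 _ w.2 ∈ _
  rw [rt_zero, one_mul]; exact rt02_A2 _

theorem rt21_A1 (k : F) {x : P3 F} (hx : x ∈ A1 F) :
    rt 2 1 (by decide) k * x * (rt 2 1 (by decide) k)⁻¹ ∈ A1 F := by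
  rcases eq_or_ne x 1 with rfl | h1
  · rw [mul_one, mul_inv_cancel]; exact one_mem _
  obtain ⟨w, -, -, ht⟩ := mem_A1 hx h1
  have h2 := ht.conj (PSLn.xx 2 1 (by decide) k)
  have hi : ((PSLn.xx (n := 3) 2 1 (by decide) k)⁻¹).1 = 1 + Matrix.single 2 1 k := by
    rw [xx_inv, coe_xx, CharTwo.neg_eq]
  rw [hi] at h2
  refine A1_of_centre h2 ?_ ?_ ?_ <;>
    simp [Matrix.mulVec, Matrix.vecMul, dotProduct, Fin.sum_univ_three, coe_xx, Matrix.single_apply]

theorem rt10_A2 (k : F) {x : P3 F} (hx : x ∈ A2 F) :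
    rt 1 0 (by decide) k * x * (rt 1 0 (by decide) k)⁻¹ ∈ A2 F := by
  rcases eq_or_ne x 1 with rfl | h1
  · rw [mul_one, mul_inv_cancel]; exact one_mem _
  obtain ⟨w, -, -, ht⟩ := mem_A2 hx h1
  have h2 := ht.conj (PSLn.xx 1 0 (by decide) k)
  have hi : ((PSLn.xx (n := 3) 1 0 (by decide) k)⁻¹).1 = 1 + Matrix.single 1 0 k := by
    rw [xx_inv, coe_xx, CharTwo.neg_eq]
  rw [hi] at h2
  refine A2_of_axis h2 ?_ ?_ ?_ <;>
    simp [Matrix.mulVec, Matrix.vecMul, dotProduct, Fin.sum_univ_three, coe_xx, Matrix.single_apply]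

theorem rt21_not_invB {k : F} (hk : k ≠ 0) : rt 2 1 (by decide) k ∉ invB F := by
  rintro ⟨v, f, h, -, hv⟩
  obtain ⟨c, hc, e, -⟩ := h.unique (IsTv.xx 2 1 (by decide) hk)
  have := congrFun e 2
  simp [hv] at this
  exact hk this

theorem rt10_not_invB {k : F} (hk : k ≠ 0) : rt 1 0 (by decide) k ∉ invB F := by
  rintro ⟨v, f, h, hf, -⟩
  obtain ⟨c, hc, -, e⟩ := h.unique (IsTv.xx 1 0 (by decide) hk)
  have := congrFun e 0
  simp [hf] at this

/-- For two elements the centraliser of a root element is the unitriangular group. -/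
theorem cent_two (hq : Fintype.card F = 2) {m : P3 F}
    (hc : m * rt 0 2 (by decide) (1 : F) = rt 0 2 (by decide) (1 : F) * m) : m ∈ (upperHom F 3).range := by
  haveI : Subsingleton Fˣ := by
    classical exact Fintype.card_le_one_iff_subsingleton.mp (by rw [Fintype.card_units, hq])
  have h01 : ∀ c : F, c ≠ 0 → c = 1 := fun c hc =>
    congrArg Units.val (Subsingleton.elim (Units.mk0 c hc) 1)
  obtain ⟨A, rfl⟩ := mk_surjective m
  have h := (IsTv.xx (F := F) 0 2 (by decide) one_ne_zero).conj A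
  rw [show PSLn.mk (PSLn.xx 0 2 (by decide) (1 : F)) = rt 0 2 (by decide) 1 from rfl, hc, mul_inv_cancel_right] at h
  obtain ⟨c, hc0, e1, e2⟩ := (IsTv.xx (F := F) 0 2 (by decide) one_ne_zero).unique h
  rw [h01 c hc0, one_smul] at e1
  rw [h01 c hc0, inv_one, one_smul] at e2
  rw [one_smul, Matrix.mulVec_single_one] at e1
  have a : ∀ i, A.1 i 0 = (Pi.single 0 1 : Fin 3 → F) i := fun i => congrFun e1 i
  have e3 : (Pi.single 2 1 : Fin 3 → F) ᵥ* A.1 = Pi.single 2 1 := by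
    conv_lhs => rw [← e2]
    rw [vecMul_vecMul, show (A⁻¹).1 * A.1 = 1 from congrArg Subtype.val (inv_mul_cancel A), vecMul_one]
  rw [Matrix.single_one_vecMul] at e3
  have b : ∀ j, A.1 2 j = (Pi.single 2 1 : Fin 3 → F) j := fun j => congrFun e3 j
  have d : A.1 1 1 = 1 := by
    refine h01 _ fun e => ?_
    have := A.2
    rw [Matrix.det_fin_three, a 0, a 1, a 2, b 1, b 2, e] at this
    simp at this
  refine ⟨⟨A, fun i j hij => ?_⟩, rfl⟩
  fin_cases i <;> fin_cases j <;> first | exact absurd hij (by decide) | simp [a, b, d]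

variable {G : Type u} {Ω : Type v} [Group G] [MulAction G Ω] {a : Ω} {N : Subgroup G}

theorem arith_two {i j k : ℕ} (hk : k ≤ 4) (hj : j ≤ k + 1) (he : i * 2 ^ j = 2 * (21 * 2 ^ k))
    (hm : i % 11 = 1 % 11) : j = 0 := by
  interval_cases k <;> interval_cases j <;> omega

/-- The two planes of a member at `d`. -/
def Star (F : Type) [Field F] [Fintype F] (a : Ω) (N : Subgroup G) (d : Ω) (x : G) : Prop :=
  ∃ (e : Ω) (A B : Subgroup G), e ≠ d ∧ OnPl F a N d e A ∧ OnPl F a N d e B ∧ x ∈ A ∧ x ∈ B ∧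
    (∀ c, x • c = c → c ∈ fx Ω A ∨ c ∈ fx Ω B) ∧ fx Ω A ∩ fx Ω B ⊆ blk a N d e ∧
    (∀ e' J, OnPl F a N d e' J → x ∈ J → J = A ∨ J = B) ∧
    Fintype.card F - 1 ≤ (fx Ω A \ blk a N d e).ncard ∧ Fintype.card F - 1 ≤ (fx Ω B \ blk a N d e).ncard

theorem Star.conj [Finite Ω] {d : Ω} {x : G} (hs : Star F a N d x) (g : G) : Star F a N (g • d) (g * x * g⁻¹) := by
  obtain ⟨e, A, B, hed, hA, hB, hxA, hxB, hcov, hint, hun, hnA, hnB⟩ := hs
  refine ⟨g • e, A.map (MulAut.conj g).toMonoidHom, B.map (MulAut.conj g).toMonoidHom,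
    fun e1 => hed (MulAction.injective g e1), hA.conj g, hB.conj g, ⟨x, hxA, rfl⟩, ⟨x, hxB, rfl⟩, ?_, ?_, ?_, ?_, ?_⟩
  · intro c hc
    obtain ⟨c, rfl⟩ : ∃ c', g • c' = c := ⟨g⁻¹ • c, smul_inv_smul _ _⟩
    rw [fx_conj, fx_conj]
    exact hcov c ((fix_conj g).mp hc)
  · rintro c ⟨h1, h2⟩
    obtain ⟨c, rfl⟩ : ∃ c', g • c' = c := ⟨g⁻¹ • c, smul_inv_smul _ _⟩
    rw [blk_conj]
    rw [fx_conj] at h1 h2
    exact hint ⟨h1, h2⟩
  · intro e' J hJ hxJ
    have h1 := hJ.conj g⁻¹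
    rw [inv_smul_smul] at h1
    have h2 := hun _ _ h1 ⟨_, hxJ, by simp [mul_assoc]⟩
    have h3 : ∀ K : Subgroup G, J.map (MulAut.conj g⁻¹).toMonoidHom = K → J = K.map (MulAut.conj g).toMonoidHom := by
      rintro _ rfl
      rw [Subgroup.map_map]
      conv_lhs => rw [← Subgroup.map_id J]
      congr 1
      ext z
      simp [mul_assoc]
    exact h2.imp (h3 A) (h3 B)
  · refine hnA.trans (Set.ncard_le_ncard_of_injOn (g • ·) (fun c hc => ?_) (MulAction.injective g).injOn (Set.toFinite _))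
    exact ⟨fx_conj g |>.mpr hc.1, fun h' => hc.2 ((blk_conj g).mp h')⟩
  · refine hnB.trans (Set.ncard_le_ncard_of_injOn (g • ·) (fun c hc => ?_) (MulAction.injective g).injOn (Set.toFinite _))
    exact ⟨fx_conj g |>.mpr hc.1, fun h' => hc.2 ((blk_conj g).mp h')⟩

namespace Hyp

variable [Finite G] [Finite Ω] [FaithfulSMul G Ω] (h : Hyp G a N F) (hB : ∀ b, b ≠ a → ShB (h.inv b))
include h hB

omit hB in
theorem inv_conj_emb (m : P3 F) (b : Ω) : h.inv (h.emb m • b) = MulAut.conj m '' h.inv b := by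
  rw [← h.act_emb, ← h.inv_conj]

omit hB in
theorem side {b : Ω} (hb : b ≠ a) (hinv : h.inv b = invB F) (r : F → P3 F) (J : Subgroup (P3 F))
    (hJ : J = A1 F ∨ J = A2 F) (hr : ∀ k l, r (k + l) = r k * r l) (hrJ : ∀ k, ∀ x ∈ J, r k * x * (r k)⁻¹ ∈ J)
    (hrn : ∀ k, k ≠ 0 → r k ∉ invB F) (hri : ∀ k, k ≠ 0 → Invol (r k)) :
    Fintype.card F - 1 ≤ (fx Ω (J.map h.emb) \ blk a N a b).ncard := by
  classical
  have hr0 : r 0 = 1 := by have := hr 0 0; rwa [add_zero, left_eq_mul] at this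
  have hrinv : ∀ k, (r k)⁻¹ = r k := fun k => by
    rcases eq_or_ne k 0 with rfl | hk
    · rw [hr0, inv_one]
    · exact inv_eq_of_mul_eq_one_right (hri k hk).2
  have hne : ∀ k, k ≠ 0 → h.inv (h.emb (r k) • b) ≠ h.inv b := by
    intro k hk e
    rw [h.inv_conj_emb, hinv] at e
    exact hrn k hk (mem_invB_of_conj (hri k hk) e)
  rw [← Fintype.card_units, ← Nat.card_eq_fintype_card, ← Nat.card_coe_set_eq]
  refine Nat.card_le_card_of_injective (fun k : Fˣ => ⟨h.emb (r k) • b, ?_, ?_⟩) fun k l e => ?_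
  · rintro _ ⟨x, hx, rfl⟩
    rcases eq_or_ne x 1 with rfl | h1
    · rw [map_one, one_smul]
    have hx' : r k * x * (r k)⁻¹ ∈ h.inv b := by
      rw [hinv]
      exact (plane_prop hJ).1 _ (hrJ k x hx) fun e => h1 (conj_eq_one_iff.mp e)
    have h2 := hx'.2
    rw [← fix_conj (h.emb (r k))] at h2
    rw [← map_inv, ← map_mul, ← map_mul] at h2
    rwa [show r k * (r k * x * (r k)⁻¹) * (r k)⁻¹ = x by
      rw [hrinv]
      rcases eq_or_ne (k : F) 0 with h0 | h0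
      · exact absurd h0 k.ne_zero
      · calc r k * (r k * x * r k) * r k = r k * r k * x * (r k * r k) := by simp only [mul_assoc]
          _ = x := by rw [(hri k h0).2, one_mul, mul_one]] at h2
  · intro hc
    have hca : h.emb (r k) • b ≠ a := fun e => hb (MulAction.injective (h.emb (r k)) (e.trans (h.emb_fix _).symm))
    refine hne k k.ne_zero (Set.ext fun x => ⟨fun hx => ⟨hx.1, ?_⟩, fun hx => ⟨hx.1, ?_⟩⟩)
    · exact (h.members_eq hb.symm hca.symm hc _ ((Invol.map h.emb_inj).mpr hx.1) (h.pt.at_base.mpr (h.emb_mem x))).mp hx.2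
    · exact (h.members_eq hb.symm hca.symm hc _ ((Invol.map h.emb_inj).mpr hx.1) (h.pt.at_base.mpr (h.emb_mem x))).mpr hx.2
  · by_contra hne'
    have hk : (k : F) + l ≠ 0 := fun e0 => hne' (Units.ext (CharTwo.add_eq_zero.mp e0))
    refine hne _ hk (congrArg h.inv ?_)
    have e' : h.emb (r k) • b = h.emb (r l) • b := congrArg Subtype.val e
    rw [add_comm, hr, map_mul, mul_smul, e', ← mul_smul, ← map_mul]
    rcases eq_or_ne (l : F) 0 with h0 | h0
    · exact absurd h0 l.ne_zero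
    · rw [(hri l h0).2, map_one, one_smul]

theorem star_base {b : Ω} (hb : b ≠ a) (hinv : h.inv b = invB F) :
    Star F a N a (h.emb (rt 0 2 (by decide) 1)) := by
  haveI : Finite (P3 F) := Quotient.finite _
  have hcard : ∀ J : Subgroup (P3 F), Nat.card (J.map h.emb) = Nat.card J := fun J =>
    (Nat.card_congr (J.equivMapOfInjective _ h.emb_inj).toEquiv).symm
  have hon : ∀ J : Subgroup (P3 F), J = A1 F ∨ J = A2 F → OnPl F a N a b (J.map h.emb) := by
    intro J hJ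
    refine ⟨(hcard J).trans (plane_prop hJ).2, ?_⟩
    rintro _ ⟨x, hx, rfl⟩ h1
    have hx' : x ∈ h.inv b := hinv ▸ (plane_prop hJ).1 x hx fun e => h1 (by rw [e, map_one])
    exact ⟨(Invol.map h.emb_inj).mpr hx'.1, h.pt.at_base.mpr (h.emb_mem x), hx'.2⟩
  refine ⟨b, (A1 F).map h.emb, (A2 F).map h.emb, hb, hon _ (Or.inl rfl), hon _ (Or.inr rfl),
    ⟨_, rt02_A1 1, rfl⟩, ⟨_, rt02_A2 1, rfl⟩, ?_, ?_, ?_, ?_, ?_⟩
  · intro c hc
    by_cases hca : c = a
    · left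
      rintro _ ⟨x, -, rfl⟩
      rw [hca]; exact h.emb_fix x
    obtain ⟨φ, hφ⟩ := hB c hca
    have hz : rt 0 2 (by decide) (1 : F) ∈ h.inv c := ⟨(IsTv.xx 0 2 (by decide) one_ne_zero).invol, hc⟩
    rw [hφ] at hz
    obtain ⟨x₀, hx₀, e⟩ := hz
    obtain ⟨J, hJ, hxJ⟩ := invB_exists x₀ hx₀
    have hsub : ∀ x ∈ J.map φ.toMonoidHom, x ≠ 1 → x ∈ invB F := by
      rintro _ ⟨x, hx, rfl⟩ h1
      have hxB : x ∈ invB F := (plane_prop hJ).1 x hx fun e1 => h1 (by rw [e1, map_one])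
      have h2 : φ x ∈ h.inv c := hφ ▸ ⟨x, hxB, rfl⟩
      refine cent_rt02 h2.1 ?_
      show φ x * _ = _ * φ x
      rw [← e, ← map_mul, ← map_mul, plane_comm hJ hx hxJ]
    have hc' : ∀ x ∈ J.map φ.toMonoidHom, h.emb x • c = c := by
      rintro _ ⟨x, hx, rfl⟩
      rcases eq_or_ne x 1 with rfl | h1
      · rw [map_one, map_one, one_smul]
      · have h2 : φ x ∈ h.inv c := hφ ▸ ⟨x, (plane_prop hJ).1 x hx h1, rfl⟩
        exact h2.2
    have hcJ : Nat.card (J.map φ.toMonoidHom) = Fintype.card F ^ 2 :=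
      (Nat.card_congr (J.equivMapOfInjective _ φ.injective).toEquiv).symm.trans (plane_prop hJ).2
    rcases plane_eq hsub hcJ with e' | e' <;> rw [e'] at hc'
    · left; rintro _ ⟨x, hx, rfl⟩; exact hc' x hx
    · right; rintro _ ⟨x, hx, rfl⟩; exact hc' x hx
  · rintro c ⟨h1, h2⟩ x hi hat hxb
    obtain ⟨m, rfl⟩ := h.emb_surj (h.pt.at_base.mp hat)
    have hm : m ∈ invB F := hinv ▸ h.inv_of_emb hi hxb
    exact (invB_cases hm).elim (fun e => h1 _ ⟨m, e, rfl⟩) (fun e => h2 _ ⟨m, e, rfl⟩)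
  · intro e' J hJ hxJ
    set K := J.comap h.emb
    have hJK : K.map h.emb = J := by
      refine Subgroup.map_comap_eq_self fun x hx => ?_
      rcases eq_or_ne x 1 with rfl | h1
      · exact one_mem _
      · exact h.emb_surj (h.pt.at_base.mp (hJ.2 x hx h1).2.1)
    have hJc : ∀ x ∈ J, ∀ y ∈ J, x * y = y * x := by
      have hsq : ∀ x ∈ J, x * x = 1 := fun x hx => by
        rcases eq_or_ne x 1 with rfl | h1
        · exact one_mul _
        · exact (hJ.2 x hx h1).1.2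
      intro x hx y hy
      calc x * y = x * y * (y * x * (y * x)) := by rw [hsq _ (mul_mem hy hx), mul_one]
        _ = x * (y * y) * x * y * x := by group
        _ = y * x := by rw [hsq y hy, mul_one, hsq x hx, one_mul]
    have hK : ∀ m ∈ K, m ≠ 1 → m ∈ invB F := by
      intro m hm h1
      refine cent_rt02 ((Invol.map h.emb_inj).mp (hJ.2 _ hm fun e => h1 (h.emb_inj (e.trans (map_one _).symm))).1) ?_
      apply h.emb_inj
      rw [map_mul, map_mul]
      exact hJc _ hm _ hxJ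
    have hKc : Nat.card K = Fintype.card F ^ 2 := by rw [← hcard, hJK, hJ.1]
    rw [← hJK]
    exact (plane_eq hK hKc).imp (fun e => by rw [e]) (fun e => by rw [e])
  · exact h.side hb hinv (fun k => rt 2 1 (by decide) k) _ (Or.inl rfl) (fun k l => rt_add _ _ _ _ _)
      (fun k x hx => rt21_A1 k hx) (fun k hk => rt21_not_invB hk) (fun k hk => rt_invol hk)
  · exact h.side hb hinv (fun k => rt 1 0 (by decide) k) _ (Or.inr rfl) (fun k l => rt_add _ _ _ _ _)
      (fun k x hx => rt10_A2 k hx) (fun k hk => rt10_not_invB hk) (fun k hk => rt_invol hk)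

theorem star {d : Ω} {x : G} (hi : Invol x) (hat : At a N d x) : Star F a N d x := by
  haveI := h.pt.pretrans
  obtain ⟨b, hb⟩ := h.pt.exists_ne
  obtain ⟨φ, hφ⟩ := hB b hb
  have hinv : (h.twist φ).inv b = invB F := by
    rw [h.twist_inv, hφ, ← mem_image_mul, inv_mul_cancel, MulAut.coe_one, Set.image_id]
  have hs := (h.twist φ).star_base (h.twist_B φ hB) hb hinv
  obtain ⟨g, hg⟩ := exists_smul_eq G a d
  obtain ⟨n, hn, e⟩ := h.pt.one_class ((h.twist φ).emb (rt 0 2 (by decide) 1)) ((h.twist φ).emb_mem _)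
    (g⁻¹ * x * g) ((h.pt.at_iff hg).mp hat) ((Invol.map (h.twist φ).emb_inj).mpr (rt_invol one_ne_zero))
    (by simpa using hi.conj g⁻¹)
  have h2 := hs.conj (g * n)
  rw [mul_smul, h.pt.fix hn, hg] at h2
  rwa [show g * n * (h.twist φ).emb (rt 0 2 (by decide) 1) * (g * n)⁻¹ = x by
    calc _ = g * (n * (h.twist φ).emb (rt 0 2 (by decide) 1) * n⁻¹) * g⁻¹ := by group
      _ = x := by rw [e]; group] at h2

/-- **All blocks have two points.** -/
theorem blk_two {d e : Ω} (hde : d ≠ e) {z : Ω} (hz : z ∈ blk a N d e) : z = d ∨ z = e := by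
  obtain ⟨x, hx, hxi⟩ := h.pt.exists_invol
  obtain ⟨e₀, A, B, he₀, hA, hB', hxA, hxB, hcov, hint, -, hnA, hnB⟩ := h.star hB hxi (h.pt.at_base.mpr hx)
  have hq1 : 0 < Fintype.card F - 1 := Nat.sub_pos_of_lt Fintype.one_lt_card
  obtain ⟨b₁, hb₁A, hb₁0⟩ := Set.nonempty_of_ncard_ne_zero (hq1.trans_le hnA).ne'
  have hb₁a : b₁ ≠ a := fun e1 => hb₁0 (e1 ▸ (h.mem_blk a e₀).1)
  have hb₁B : b₁ ∉ fx Ω B := fun e1 => hb₁0 (hint ⟨hb₁A, e1⟩)
  obtain ⟨A', hA', hfA, hpt⟩ := h.img hB hb₁a.symm (e := b₁) (A := A)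
    ⟨hA.1, fun y hy h1 => ⟨(hA.2 y hy h1).1, (hA.2 y hy h1).2.1, hb₁A y hy⟩⟩
  obtain ⟨x', hx', hx'1, hxx⟩ := hpt x hxA hxi.1
  obtain ⟨hx'i, hx'at, -⟩ := hA'.2 x' hx' hx'1
  obtain ⟨e₁, C, D, he₁, hC, hD, hxC, hxD, hcov', hint', hun, hnC, hnD⟩ := h.star hB hx'i hx'at
  -- name the pieces
  obtain ⟨D₁, hD₁, hxD₁, hcov₁, hint₁, hnD₁⟩ : ∃ D₁, OnPl F a N b₁ e₁ D₁ ∧ x' ∈ D₁ ∧
      (∀ c, x' • c = c → c ∈ fx Ω A ∨ c ∈ fx Ω D₁) ∧ fx Ω A ∩ fx Ω D₁ ⊆ blk a N b₁ e₁ ∧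
      Fintype.card F - 1 ≤ (fx Ω D₁ \ blk a N b₁ e₁).ncard := by
    rcases hun a A' hA' hx' with e | e
    · rw [← e, hfA] at hcov' hint'
      exact ⟨D, hD, hxD, hcov', hint', hnD⟩
    · rw [← e, hfA] at hcov' hint'
      exact ⟨C, hC, hxC, fun c hc => (hcov' c hc).symm, fun c hc => hint' ⟨hc.2, hc.1⟩, hnC⟩
  obtain ⟨c, hcD, hc1⟩ := Set.nonempty_of_ncard_ne_zero (hq1.trans_le hnD₁).ne'
  have hb₁c : b₁ ≠ c := fun e1 => hc1 (e1 ▸ (h.mem_blk b₁ e₁).1)
  have hb₁D : b₁ ∈ fx Ω D₁ := fun y hy => by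
    rcases eq_or_ne y 1 with rfl | h1
    · exact one_smul _ _
    · exact h.pt.at_fix (hD₁.2 y hy h1).2.1
  -- the other points of the line of `b₁` and `c` lie in the second piece of `a`
  have hmB : ∀ z ∈ blk a N b₁ c, z ≠ b₁ → z ∈ fx Ω B := by
    intro z hz hzb
    have hzD : z ∈ fx Ω D₁ := h.fx_sub hB hD₁ hb₁D hcD hz
    refine (hcov z ((hxx z).mp (hzD x' hxD₁))).resolve_left fun hzA => hc1 ?_
    have hzΔ : z ∈ blk a N b₁ e₁ := hint₁ ⟨hzA, hzD⟩
    rw [← h.blk_eq he₁.symm hzb.symm hzΔ, h.blk_eq hb₁c hzb.symm hz]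
    exact (h.mem_blk b₁ c).2
  have hline : ∀ z ∈ blk a N b₁ c, z = b₁ ∨ z = c := by
    intro z hz
    by_contra hne
    push Not at hne
    refine hb₁B (h.fx_sub hB hB' (hmB z hz hne.1) (hmB c (h.mem_blk b₁ c).2 hb₁c.symm) ?_)
    rw [h.blk_pair hB hb₁c hne.2 hz (h.mem_blk b₁ c).2]
    exact (h.mem_blk b₁ c).1
  -- all blocks are alike
  obtain ⟨g, hgd, hge⟩ := h.pt.trans b₁ c d e hb₁c hde
  obtain ⟨z', rfl⟩ : ∃ z', g • z' = z := ⟨g⁻¹ • z, smul_inv_smul _ _⟩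
  rw [← hgd, ← hge, blk_conj] at hz
  rw [← hgd, ← hge]
  exact (hline z' hz).imp (congrArg (g • ·)) (congrArg (g • ·))

/-- Two planes at a point fix at most one further point. -/
theorem planes_meet {d e e' : Ω} (hde : d ≠ e) (hde' : d ≠ e') {P Q : Subgroup G} (hP : OnPl F a N d e P)
    (hQ : OnPl F a N d e Q) (hne : fx Ω P ≠ fx Ω Q) (h1 : e' ∈ fx Ω P) (h2 : e' ∈ fx Ω Q) : e' = e := by
  haveI := h.pt.pretrans
  suffices key : e' ∈ blk a N d e by
    exact (h.blk_two hB hde key).resolve_left hde'.symm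
  obtain ⟨g, rfl⟩ := exists_smul_eq G a d
  obtain ⟨b, rfl⟩ : ∃ b, g • b = e := ⟨g⁻¹ • e, smul_inv_smul _ _⟩
  obtain ⟨b', rfl⟩ : ∃ b', g • b' = e' := ⟨g⁻¹ • e', smul_inv_smul _ _⟩
  have hb : b ≠ a := fun e1 => hde (congrArg (g • ·) e1.symm)
  obtain ⟨φ, hφ⟩ := hB b hb
  have hcast : ∀ P : Subgroup G, OnPl F a N (g • a) (g • b) P → ∃ J, (J = A1 F ∨ J = A2 F) ∧
      P = (J.map (h.emb.comp φ.toMonoidHom)).map (MulAut.conj g).toMonoidHom := by
    intro P hP
    have hP' := hP.conj g⁻¹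
    rw [inv_smul_smul, inv_smul_smul] at hP'
    set P' := P.map (MulAut.conj g⁻¹).toMonoidHom with hP'def
    set J := P'.comap (h.emb.comp φ.toMonoidHom)
    have hfi : Function.Injective (h.emb.comp φ.toMonoidHom) := h.emb_inj.comp φ.injective
    have hJP : J.map (h.emb.comp φ.toMonoidHom) = P' := by
      refine Subgroup.map_comap_eq_self fun y hy => ?_
      rcases eq_or_ne y 1 with rfl | h1
      · exact one_mem _
      · obtain ⟨m, hm⟩ := h.emb_surj (h.pt.at_base.mp (hP'.2 y hy h1).2.1)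
        exact ⟨φ⁻¹ m, by show h.emb (φ (φ⁻¹ m)) = y; rw [MulAut.apply_inv_self, hm]⟩
    refine ⟨J, plane_eq (fun m hm h1 => ?_) ?_, ?_⟩
    · obtain ⟨hi, -, hfix⟩ := hP'.2 _ hm fun e1 => h1 (hfi (e1.trans (map_one _).symm))
      have h3 : φ m ∈ h.inv b := h.inv_of_emb hi hfix
      rw [hφ] at h3
      obtain ⟨m', hm', e1⟩ := h3
      exact φ.injective e1 ▸ hm'
    · rw [Nat.card_congr (J.equivMapOfInjective _ hfi).toEquiv, hJP, hP'.1]
    · rw [hJP, hP'def, Subgroup.map_map]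
      conv_lhs => rw [← Subgroup.map_id P]
      congr 1
      ext z
      simp [mul_assoc]
  obtain ⟨J, hJ, rfl⟩ := hcast P hP
  obtain ⟨K, hK, rfl⟩ := hcast Q hQ
  rw [fx_conj] at h1 h2
  rw [blk_conj]
  intro x hi hat hxb
  obtain ⟨m, rfl⟩ := h.emb_surj (h.pt.at_base.mp hat)
  have hm : m ∈ h.inv b := h.inv_of_emb hi hxb
  rw [hφ] at hm
  obtain ⟨m, hm, rfl⟩ := hm
  have hJK : J ≠ K := fun e1 => hne (by rw [e1])
  rcases invB_cases hm with e1 | e1 <;> rcases hJ with rfl | rfl <;> rcases hK with rfl | rfl <;>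
    first
      | exact absurd rfl hJK
      | exact h1 _ ⟨m, e1, rfl⟩
      | exact h2 _ ⟨m, e1, rfl⟩

theorem not_four (hq : 4 ≤ Fintype.card F) : False := by
  obtain ⟨x, hx, hxi⟩ := h.pt.exists_invol
  obtain ⟨e₀, A, B, he₀, hA, hB', hxA, hxB, hcov, hint, -, hnA, hnB⟩ := h.star hB hxi (h.pt.at_base.mpr hx)
  obtain ⟨b₁, hb₁A, hb₁0⟩ := Set.nonempty_of_ncard_ne_zero (show (fx Ω A \ blk a N a e₀).ncard ≠ 0 by omega)
  have hb₁a : b₁ ≠ a := fun e1 => hb₁0 (e1 ▸ (h.mem_blk a e₀).1)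
  have hb₁B : b₁ ∉ fx Ω B := fun e1 => hb₁0 (hint ⟨hb₁A, e1⟩)
  obtain ⟨A', hA', hfA, hpt⟩ := h.img hB hb₁a.symm (e := b₁) (A := A)
    ⟨hA.1, fun y hy h1 => ⟨(hA.2 y hy h1).1, (hA.2 y hy h1).2.1, hb₁A y hy⟩⟩
  obtain ⟨x', hx', hx'1, hxx⟩ := hpt x hxA hxi.1
  obtain ⟨hx'i, hx'at, -⟩ := hA'.2 x' hx' hx'1
  obtain ⟨e₁, C, D, he₁, hC, hD, hxC, hxD, hcov', hint', hun, hnC, hnD⟩ := h.star hB hx'i hx'at
  obtain ⟨D₁, hD₁, hxD₁, hcov₁⟩ : ∃ D₁, OnPl F a N b₁ e₁ D₁ ∧ x' ∈ D₁ ∧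
      (∀ c, x' • c = c → c ∈ fx Ω A ∨ c ∈ fx Ω D₁) := by
    rcases hun a A' hA' hx' with e | e
    · rw [← e, hfA] at hcov'
      exact ⟨D, hD, hxD, hcov'⟩
    · rw [← e, hfA] at hcov'
      exact ⟨C, hC, hxC, fun c hc => (hcov' c hc).symm⟩
  have hb₁D : b₁ ∈ fx Ω D₁ := fun y hy => by
    rcases eq_or_ne y 1 with rfl | h1
    · exact one_smul _ _
    · exact h.pt.at_fix (hD₁.2 y hy h1).2.1
  have haB : a ∈ fx Ω B := fun y hy => by
    rcases eq_or_ne y 1 with rfl | h1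
    · exact one_smul _ _
    · exact h.pt.at_fix (hB'.2 y hy h1).2.1
  have hS : ∀ z ∈ fx Ω B \ blk a N a e₀, z ∈ fx Ω D₁ := by
    rintro z ⟨hz, hz0⟩
    exact (hcov₁ z ((hxx z).mpr (hz x hxB))).resolve_left fun hzA => hz0 (hint ⟨hzA, hz⟩)
  obtain ⟨c, c', c'', hc, hc', hc'', h12, h13, h23⟩ :=
    (Set.two_lt_ncard_iff (Set.toFinite (fx Ω B \ blk a N a e₀))).mp (by omega)
  have hca : c ≠ a := fun e1 => hc.2 (e1 ▸ (h.mem_blk a e₀).1)
  have hcb : c ≠ b₁ := fun e1 => hb₁B (e1 ▸ hc.1)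
  obtain ⟨P, hP, hfP, -⟩ := h.img hB hca.symm (e := c) (A := B)
    ⟨hB'.1, fun y hy h1 => ⟨(hB'.2 y hy h1).1, (hB'.2 y hy h1).2.1, hc.1 y hy⟩⟩
  obtain ⟨Q, hQ, hfQ, -⟩ := h.img hB hcb.symm (e := c) (A := D₁)
    ⟨hD₁.1, fun y hy h1 => ⟨(hD₁.2 y hy h1).1, (hD₁.2 y hy h1).2.1, hS c hc y hy⟩⟩
  have hre : ∀ (R : Subgroup G) {d₀ : Ω} (R₀ : Subgroup G), OnPl F a N c d₀ R → fx Ω R = fx Ω R₀ →
      c' ∈ fx Ω R₀ → OnPl F a N c c' R := fun R _ R₀ hR e hR₀ =>
    ⟨hR.1, fun y hy h1 => ⟨(hR.2 y hy h1).1, (hR.2 y hy h1).2.1, (e ▸ hR₀ : c' ∈ fx Ω R) y hy⟩⟩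
  have := h.planes_meet hB h12 h13 (hre P B hP hfP hc'.1) (hre Q D₁ hQ hfQ (hS c' hc'))
    (by rw [hfP, hfQ]; exact fun e => hb₁B (e ▸ hb₁D)) (hfP ▸ hc''.1) (hfQ ▸ hS c'' hc'')
  exact h23 this.symm

theorem not_two (hq : Fintype.card F = 2) : False := by
  classical
  haveI : Finite (P3 F) := Quotient.finite _
  haveI := h.pt.pretrans
  haveI : Fact (Nat.Prime 11) := ⟨by norm_num⟩
  haveI : Fact (Nat.Prime 2) := ⟨Nat.prime_two⟩
  choose ζ hζ hζu using fun c : {c : Ω // c ≠ a} => h.exists_centre hB c.2 hq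
  have hinj : ∀ c c' : {c : Ω // c ≠ a}, ζ c = ζ c' → c = c' := by
    intro c c' e
    have e1 : h.inv c.1 = h.inv c'.1 := by
      rw [h.inv_eq_centralizer hB hq c.2 (hζ c), h.inv_eq_centralizer hB hq c'.2 (hζ c'), e]
    refine Subtype.ext ((h.blk_two hB c.2.symm ?_).resolve_left c'.2).symm
    intro x hi hat hx
    obtain ⟨m, rfl⟩ := h.emb_surj (h.pt.at_base.mp hat)
    exact (e1 ▸ h.inv_of_emb hi hx : m ∈ h.inv c'.1).2
  have heq : ∀ (g : stabilizer G a) (c : {c : Ω // c ≠ a}) (hc : (g : G) • (c : Ω) ≠ a),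
      ζ ⟨(g : G) • (c : Ω), hc⟩ = h.act g (ζ c) := by
    intro g c hc
    refine ((hζu _ _) ?_).symm
    show h.act g (ζ c) ∈ h.inv ((g : G) • (c : Ω)) ∧ ∀ x ∈ h.inv ((g : G) • (c : Ω)), _ * x = x * _
    rw [h.inv_conj]
    refine ⟨⟨_, (hζ c).1, rfl⟩, ?_⟩
    rintro _ ⟨x, hx, rfl⟩
    rw [← map_mul, ← map_mul, (hζ c).2 x hx]
  have hmove : ∀ (g : G), g • a = a → ∀ c : Ω, c ≠ a → g • c ≠ a := fun g hg c hc e =>
    hc (MulAction.injective g (e.trans hg.symm))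
  obtain ⟨b, hb⟩ := h.pt.exists_ne
  -- there are 21 second points
  have hcard : Nat.card {c : Ω // c ≠ a} = 21 := by
    have hsurj : ∀ z, Invol z → ∃ c, ζ c = z := by
      intro z hz
      obtain ⟨m, hm⟩ := one_class (hζ ⟨b, hb⟩).1.1 hz
      refine ⟨⟨h.emb m • b, hmove _ (h.emb_fix m) b hb⟩, ?_⟩
      rw [heq ⟨h.emb m, mem_stabilizer_iff.mpr (h.emb_fix m)⟩ ⟨b, hb⟩, h.act_emb, MulAut.conj_apply, hm]
    have h21 : Nat.card {z : P3 F // Invol z} = 21 := by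
      have := invol_val (F := F)
      rw [hq] at this
      omega
    rw [← h21]
    exact Nat.card_eq_of_bijective (fun c => (⟨ζ c, (hζ c).1.1⟩ : {z // Invol z}))
      ⟨fun c c' e => hinj c c' (congrArg Subtype.val e), fun z => (hsurj z.1 z.2).imp fun c e => Subtype.ext e⟩
  have hv : Nat.card Ω = 22 := by
    rw [← Nat.card_congr (Equiv.sumCompl fun c : Ω => c = a), Nat.card_sum, Nat.card_unique, hcard]
  -- the two-point stabiliser is a 2-group of order at most 16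
  have hfaith : ∀ g : stabilizer G a, h.act g = 1 → g = 1 := by
    intro g hg
    refine Subtype.ext (eq_of_smul_eq_smul (α := Ω) fun c => ?_)
    rw [Subgroup.coe_one, one_smul]
    by_cases hc : c = a
    · rw [hc]; exact mem_stabilizer_iff.mp g.2
    · have := heq g ⟨c, hc⟩ (hmove _ (mem_stabilizer_iff.mp g.2) c hc)
      rw [hg, MulAut.one_apply] at this
      exact congrArg Subtype.val (hinj _ _ this)
  set H : Subgroup (stabilizer G a) := stabilizer (stabilizer G a) b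
  have hHU : ∀ g ∈ H, ∀ m, MulAut.conj m = h.act g → ∃ φ : MulAut (P3 F), φ m ∈ (upperHom F 3).range ∧
      φ (ζ ⟨b, hb⟩) = rt 0 2 (by decide) 1 := by
    intro g hg m hm
    have hgb : (g : G) • b = b := hg
    obtain ⟨φ, hφ⟩ := hB b hb
    have hz : φ⁻¹ (ζ ⟨b, hb⟩) = rt 0 2 (by decide) 1 := by
      have h02 : rt 0 2 (by decide) (1 : F) ∈ invB F := A1_invB (rt02_A1 1) (rt_ne one_ne_zero)
      rw [← hζu ⟨b, hb⟩ (φ (rt 0 2 (by decide) 1)) ⟨by rw [hφ]; exact ⟨_, h02, rfl⟩, fun x hx => by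
        rw [hφ] at hx
        obtain ⟨x, hx, rfl⟩ := hx
        rw [← map_mul, ← map_mul]
        exact congrArg φ ((invB_cases hx).elim (plane_comm (Or.inl rfl) (rt02_A1 1))
          (plane_comm (Or.inr rfl) (rt02_A2 1)))⟩, MulAut.inv_apply_self]
    refine ⟨φ⁻¹, cent_two hq ?_, hz⟩
    have h1 := heq g ⟨b, hb⟩ (hgb.symm ▸ hb)
    have h2 : ζ ⟨(g : G) • b, hgb.symm ▸ hb⟩ = ζ ⟨b, hb⟩ := congrArg ζ (Subtype.ext hgb)
    rw [h2, ← hm, MulAut.conj_apply] at h1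
    rw [← hz, ← map_mul, ← map_mul]
    congr 1
    exact (mul_inv_eq_iff_eq_mul.mp h1.symm)
  set Hi : Subgroup (stabilizer G a) := H ⊓ (MulAut.conj : P3 F →* MulAut (P3 F)).range.comap h.act
  have hU : IsPGroup 2 (upperHom F 3).range := by
    rw [← coe_upperSylow 2]
    exact (upperSylow (F := F) (n := 3) 2).2
  have hU8 : Nat.card (upperHom F 3).range ≤ 8 := by
    have hle : ∀ u : (upperHom F 3).range, ∃ t : F × F × F,
        (u : P3 F) = rt 1 2 (by decide) t.1 * rt 0 2 (by decide) t.2.1 * rt 0 1 (by decide) t.2.2 := by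
      rintro ⟨_, ⟨A, hA⟩, rfl⟩
      refine ⟨(A.1 1 2, A.1 0 2, A.1 0 1), ?_⟩
      show PSLn.mk A = _
      rw [rt, rt, rt, ← map_mul, ← map_mul]
      congr 1
      apply Subtype.ext
      show A.1 = (PSLn.xx 1 2 _ _).1 * (PSLn.xx 0 2 _ _).1 * (PSLn.xx 0 1 _ _).1
      have hA' : ∀ i j, j ≤ i → A.1 i j = (1 : Matrix (Fin 3) (Fin 3) F) i j := hA
      rw [coe_xx, coe_xx, coe_xx]
      ext i j
      fin_cases i <;> fin_cases j <;>
        simp [Matrix.mul_apply, Fin.sum_univ_three, Matrix.single_apply,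
          hA' _ _ (by decide : (0 : Fin 3) ≤ 0), hA' _ _ (by decide : (0 : Fin 3) ≤ 1),
          hA' _ _ (by decide : (0 : Fin 3) ≤ 2), hA' _ _ (by decide : (1 : Fin 3) ≤ 1),
          hA' _ _ (by decide : (1 : Fin 3) ≤ 2), hA' _ _ (by decide : (2 : Fin 3) ≤ 2)]
    choose t ht using hle
    calc Nat.card (upperHom F 3).range ≤ Nat.card (F × F × F) :=
          Nat.card_le_card_of_injective t fun u u' e => Subtype.ext (by rw [ht, ht, e])
      _ = 8 := by simp [Nat.card_eq_fintype_card, hq]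
  have hprod : ∀ x ∈ H, ∀ y ∈ H, x ∉ Hi → y ∉ Hi → x * y ∈ Hi := by
    intro x hx y hy hxn hyn
    refine ⟨mul_mem hx hy, ?_⟩
    show h.act (x * y) ∈ (MulAut.conj : P3 F →* MulAut (P3 F)).range
    rw [map_mul]
    exact typ_inner hq (typ_mul (fun e => hxn ⟨hx, typ_inner hq e⟩) (fun e => hyn ⟨hy, typ_inner hq e⟩))
  have hHi : Nat.card Hi ≤ 8 := by
    refine le_trans ?_ hU8
    choose m hm using fun g : Hi => (show h.act g.1 ∈ (MulAut.conj : P3 F →* MulAut (P3 F)).range from g.2.2)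
    obtain ⟨φ, hφ⟩ : ∃ φ : MulAut (P3 F), ∀ g : Hi, φ (m g) ∈ (upperHom F 3).range := by
      obtain ⟨φ, hφ⟩ := hB b hb
      refine ⟨φ⁻¹, fun g => ?_⟩
      obtain ⟨ψ, hψ, hψz⟩ := hHU g.1 g.2.1 (m g) (hm g)
      apply cent_two hq
      have h1 : φ (rt 0 2 (by decide) 1) = ζ ⟨b, hb⟩ := hζu ⟨b, hb⟩ _ ⟨by
        rw [hφ]; exact ⟨_, A1_invB (rt02_A1 1) (rt_ne one_ne_zero), rfl⟩, fun x hx => by
        rw [hφ] at hx
        obtain ⟨x, hx, rfl⟩ := hx
        rw [← map_mul, ← map_mul]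
        exact congrArg φ ((invB_cases hx).elim (plane_comm (Or.inl rfl) (rt02_A1 1))
          (plane_comm (Or.inr rfl) (rt02_A2 1)))⟩
      apply φ.injective
      rw [map_mul, map_mul, MulAut.apply_inv_self, h1]
      have hgb : ((g : stabilizer G a) : G) • b = b := g.2.1
      have h3 := heq g.1 ⟨b, hb⟩ (hgb.symm ▸ hb)
      have h4 : ζ ⟨((g : stabilizer G a) : G) • b, hgb.symm ▸ hb⟩ = ζ ⟨b, hb⟩ := congrArg ζ (Subtype.ext hgb)
      rw [h4, ← hm g, MulAut.conj_apply] at h3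
      exact mul_inv_eq_iff_eq_mul.mp h3.symm
    refine Nat.card_le_card_of_injective (fun g => (⟨φ (m g), hφ g⟩ : (upperHom F 3).range)) fun g g' e => ?_
    have e1 : m g = m g' := φ.injective (congrArg Subtype.val e)
    have e2 : h.act g.1 = h.act g'.1 := by rw [← hm g, ← hm g', e1]
    exact Subtype.ext (mul_inv_eq_one.mp (hfaith _ (by rw [map_mul, map_inv, e2, mul_inv_cancel])))
  have hH16 : Nat.card H ≤ 16 := by
    have := card_le_two (H := Hi) (K := H) hprod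
    have h8 : Nat.card (H ⊓ Hi : Subgroup _) ≤ 8 := (Subgroup.card_le_of_le inf_le_right).trans hHi
    omega
  have hH2 : IsPGroup 2 H := by
    intro g
    have hg2 : (g : stabilizer G a) * g ∈ Hi := by
      by_cases hgi : (g : stabilizer G a) ∈ Hi
      · exact mul_mem hgi hgi
      · exact hprod _ g.2 _ g.2 hgi hgi
    obtain ⟨m, hm⟩ := hg2.2
    obtain ⟨φ, hφ, -⟩ := hHU _ hg2.1 m hm
    obtain ⟨k, hk⟩ := hU ⟨_, hφ⟩
    refine ⟨k + 1, Subtype.ext (hfaith _ ?_)⟩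
    have hk' : m ^ 2 ^ k = 1 := φ.injective (by rw [map_pow, map_one]; simpa [Subtype.ext_iff] using hk)
    rw [pow_succ', pow_mul, SubgroupClass.coe_pow, SubgroupClass.coe_pow, pow_two, map_pow, ← hm, ← map_pow, hk',
      map_one]
  obtain ⟨k, hk⟩ := hH2.exists_card_eq
  have hk4 : k ≤ 4 := by
    by_contra hh
    have : 2 ^ 5 ≤ 2 ^ k := Nat.pow_le_pow_right (by norm_num) (by omega)
    omega
  have hGa : Nat.card (stabilizer G a) = 21 * 2 ^ k := by
    have h1 := Subgroup.index_mul_card H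
    rw [hk, MulAction.index_stabilizer] at h1
    have e : orbit (stabilizer G a) b = {c | c ≠ a} := by
      ext c
      constructor
      · rintro ⟨g, rfl⟩
        exact hmove _ (mem_stabilizer_iff.mp g.2) b hb
      · intro hc
        obtain ⟨g, hga, hgb⟩ := h.pt.stab_move hb hc
        exact ⟨⟨g, hga⟩, hgb⟩
    rw [e, ← Nat.card_coe_set_eq, show Nat.card {c | c ≠ a} = 21 from hcard] at h1
    exact h1.symm
  have hG : Nat.card G = 22 * (21 * 2 ^ k) := by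
    rw [← hGa, ← hv, ← index_stabilizer_of_transitive G a, Subgroup.index_mul_card]
  -- elements of order three or seven fix one point
  have hfix1 : ∀ p, (p = 3 ∨ p = 7) → ∀ x : G, orderOf x = p → ∃ c : Ω, x • c = c ∧ ∀ d, x • d = d → d = c := by
    intro p hp x hx
    haveI : Fact p.Prime := ⟨by rcases hp with rfl | rfl <;> norm_num⟩
    have hpg : IsPGroup p (Subgroup.zpowers x) := IsPGroup.of_card (n := 1) (by rw [Nat.card_zpowers, hx, pow_one])
    obtain ⟨c, hc⟩ := hpg.nonempty_fixed_point_of_prime_not_dvd_card Ω (by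
      rw [hv]; rcases hp with rfl | rfl <;> norm_num)
    refine ⟨c, hc ⟨x, Subgroup.mem_zpowers x⟩, fun d hd => ?_⟩
    by_contra hdc
    obtain ⟨g, hgc, hgd⟩ := h.pt.trans c d a b (Ne.symm hdc) hb.symm
    have h1 : g * x * g⁻¹ ∈ stabilizer G a := by
      rw [mem_stabilizer_iff, ← hgc]; exact (fix_conj g).mpr (hc ⟨x, Subgroup.mem_zpowers x⟩)
    have h2 : (⟨_, h1⟩ : stabilizer G a) ∈ H := by
      show (g * x * g⁻¹) • b = b
      rw [← hgd]; exact (fix_conj g).mpr hd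
    obtain ⟨j, hj⟩ := hH2 ⟨_, h2⟩
    have h3 : (g * x * g⁻¹) ^ 2 ^ j = 1 := by
      simpa [Subtype.ext_iff] using hj
    rw [conj_pow, conj_eq_one_iff] at h3
    have h4 := orderOf_dvd_of_pow_eq_one h3
    rw [hx] at h4
    rcases hp with rfl | rfl
    · exact absurd (Nat.Prime.dvd_of_dvd_pow (by norm_num) h4) (by norm_num)
    · exact absurd (Nat.Prime.dvd_of_dvd_pow (by norm_num) h4) (by norm_num)
  -- the Sylow 11-subgroup
  obtain ⟨P⟩ : Nonempty (Sylow 11 G) := inferInstance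
  have hP : Nat.card (P : Subgroup G) = 11 := by
    rw [P.card_eq_multiplicity, hG]
    have : (22 * (21 * 2 ^ k)).factorization 11 = 1 := by
      rw [show 22 * (21 * 2 ^ k) = 11 * (42 * 2 ^ k) by ring, Nat.factorization_mul (by norm_num) (by positivity),
        Finsupp.add_apply, Nat.Prime.factorization_self (by norm_num), Nat.factorization_eq_zero_of_not_dvd]
      interval_cases k <;> norm_num
    rw [this, pow_one]
  set R := Subgroup.normalizer ((P : Subgroup G) : Set G) with hR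
  have hPR : (P : Subgroup G) ≤ R := Subgroup.le_normalizer
  have hno : ∀ p, (p = 3 ∨ p = 7) → ¬ p ∣ Nat.card R := by
    intro p hp hd
    haveI : Fact p.Prime := ⟨by rcases hp with rfl | rfl <;> norm_num⟩
    obtain ⟨x, hx⟩ := exists_prime_orderOf_dvd_card' p hd
    have hxo : orderOf (x : G) = p := by rw [Subgroup.orderOf_coe, hx]
    haveI : IsCyclic (P : Subgroup G) := isCyclic_of_prime_card hP
    have hcomm : ∀ r ∈ (P : Subgroup G), (x : G) * r = r * x := by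
      set f : Subgroup.zpowers (x : G) →* MulAut (P : Subgroup G) :=
        (Subgroup.normalizerMonoidHom (P : Subgroup G)).comp
          (Subgroup.inclusion (show Subgroup.zpowers (x : G) ≤ R from Subgroup.zpowers_le.mpr x.2))
      have hf : f ⟨x, Subgroup.mem_zpowers _⟩ = 1 := by
        have h1 : orderOf (f ⟨x, Subgroup.mem_zpowers _⟩) ∣ p := by
          refine (orderOf_map_dvd f _).trans (dvd_of_eq ?_)
          rw [← hxo, ← Subgroup.orderOf_coe]
        have h2 : orderOf (f ⟨x, Subgroup.mem_zpowers _⟩) ∣ 10 := by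
          refine (orderOf_dvd_natCard _).trans (dvd_of_eq ?_)
          rw [IsCyclic.card_mulAut, hP, Nat.totient_prime (by norm_num)]
        have h3 : Nat.Coprime p 10 := by rcases hp with rfl | rfl <;> norm_num
        exact orderOf_eq_one_iff.mp (Nat.eq_one_of_dvd_coprimes h3 h1 h2)
      intro r hr
      have := congrArg (fun φ : MulAut (P : Subgroup G) => (φ ⟨r, hr⟩ : G)) hf
      simp [f] at this
      exact mul_inv_eq_iff_eq_mul.mp this
    obtain ⟨c, hc, hcu⟩ := hfix1 p hp x hxo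
    obtain ⟨r, hr⟩ := exists_prime_orderOf_dvd_card' 11 (show 11 ∣ Nat.card (P : Subgroup G) by rw [hP])
    have hrc : (r : G) • c = c := hcu _ (by rw [← mul_smul, hcomm r r.2, mul_smul, hc])
    have h1 := orderOf_dvd_natCard (⟨r, mem_stabilizer_iff.mpr hrc⟩ : stabilizer G c)
    have hGc : Nat.card (stabilizer G c) = 21 * 2 ^ k := by
      have h2 := Subgroup.index_mul_card (stabilizer G c)
      rw [index_stabilizer_of_transitive G c, hv, hG] at h2
      exact Nat.eq_of_mul_eq_mul_left (by norm_num) h2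
    rw [← Subgroup.orderOf_coe, Subgroup.coe_mk, Subgroup.orderOf_coe, hr, hGc] at h1
    interval_cases k <;> omega
  have hmod := card_sylow_modEq_one 11 G
  rw [Sylow.card_eq_index_normalizer P] at hmod
  change R.index ≡ 1 [MOD 11] at hmod
  have hi := Subgroup.index_mul_card R
  rw [hG] at hi
  have h11 : 11 ∣ Nat.card R := hP ▸ Subgroup.card_dvd_of_le hPR
  obtain ⟨t, ht⟩ := h11
  have hRt : R.index * t = 2 * (21 * 2 ^ k) := by rw [ht] at hi; linarith
  have htd : t ∣ 2 * (21 * 2 ^ k) := ⟨R.index, by rw [← hRt]; ring⟩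
  have ht2 : t ∣ 2 ^ (k + 1) := by
    have h3 : Nat.Coprime t 21 := by
      have e : (21 : ℕ) = 3 * 7 := rfl
      rw [e]
      refine Nat.Coprime.mul_right ?_ ?_
      · exact ((Nat.Prime.coprime_iff_not_dvd (by norm_num)).mpr fun e => hno 3 (Or.inl rfl) (ht ▸ e.mul_left 11)).symm
      · exact ((Nat.Prime.coprime_iff_not_dvd (by norm_num)).mpr fun e => hno 7 (Or.inr rfl) (ht ▸ e.mul_left 11)).symm
    refine h3.dvd_of_dvd_mul_left ?_
    rw [pow_succ']
    rwa [show 21 * (2 * 2 ^ k) = 2 * (21 * 2 ^ k) by ring]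
  obtain ⟨j, hj, rfl⟩ := (Nat.dvd_prime_pow Nat.prime_two).mp ht2
  have hRP : Nat.card R = 11 := by
    rw [ht, arith_two hk4 hj hRt hmod, pow_zero, mul_one]
  -- Burnside's transfer
  have hRe : (P : Subgroup G) = R := Subgroup.eq_of_le_of_card_ge hPR (by rw [hRP, hP])
  have hcen : R ≤ Subgroup.centralizer ((P : Subgroup G) : Set G) := by
    rw [← hRe]
    intro r hr r' hr'
    haveI : IsCyclic (P : Subgroup G) := isCyclic_of_prime_card hP
    letI : CommGroup (P : Subgroup G) := IsCyclic.commGroup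
    exact congrArg Subtype.val (mul_comm (⟨r', hr'⟩ : (P : Subgroup G)) ⟨r, hr⟩)
  have hc := MonoidHom.ker_transferSylow_isComplement' P hcen
  set L := (MonoidHom.transferSylow P hcen).ker
  have hL := hc.card_mul
  rw [hP, hG] at hL
  have hLne : L ≠ ⊥ := fun e => by rw [e, Subgroup.card_bot] at hL; interval_cases k <;> omega
  haveI := h.pt.normal_trans (L := L) hLne
  have h22 : 22 ∣ Nat.card L := by
    rw [← hv, ← index_stabilizer_of_transitive L a]
    exact Subgroup.index_dvd_card _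
  obtain ⟨w, hw⟩ := h22
  rw [hw] at hL
  interval_cases k <;> omega

/-- **The shape of a flag does not occur.** -/
theorem not_B : False :=
  (field_two_or F).elim (fun hq => h.not_two hB hq) fun hq => h.not_four hB hq

end Hyp

end CfsgLib.PlaneStab
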