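import Cfsg.Agent.Lib.PlaneStab.Setup

/-!
The numbers of involutions, and: no member at another point centralises `N`.

Blueprint: `blueprint/S3727.md`, section 2.
-/

set_option autoImplicit false
set_option linter.unusedSectionVars false

namespace CfsgLib.PlaneStab

open MulAction CfsgLib.RankOnePoint

universe u v

variable {G : Type u} {Ω : Type v} [Group G] [MulAction G Ω] {a : Ω} {N : Subgroup G} {F : Type} [Field F]
  [Fintype F] [CharP F 2]

theorem invol_val : Nat.card {x : P3 F // Invol x} + (Fintype.card F + 1) =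
    (Fintype.card F + 1) * Fintype.card F ^ 3 := by
  have h := card_invol (F := F)
  have hq : 2 ≤ Fintype.card F := Fintype.one_lt_card
  set q := Fintype.card F
  set i := Nat.card {x : P3 F // Invol x}
  have h3 : 1 ≤ q ^ 3 := Nat.one_le_pow _ _ (by omega)
  have h2 : 1 ≤ q ^ 2 := Nat.one_le_pow _ _ (by omega)
  zify [h3, h2, show 1 ≤ q by omega] at h ⊢
  have hne : ((q : ℤ) - 1) ≠ 0 := by omega
  refine mul_right_cancel₀ hne ?_
  linear_combination h

theorem invP_val : Nat.card (invP F) + (Fintype.card F + 1) =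
    (Fintype.card F + 1) * Fintype.card F ^ 2 := by
  have h := card_invP (F := F)
  have hq : 2 ≤ Fintype.card F := Fintype.one_lt_card
  set q := Fintype.card F
  set i := Nat.card (invP F)
  have h2 : 1 ≤ q ^ 2 := Nat.one_le_pow _ _ (by omega)
  zify [h2, show 1 ≤ q by omega] at h ⊢
  have hne : ((q : ℤ) - 1) ≠ 0 := by omega
  refine mul_right_cancel₀ hne ?_
  linear_combination h

theorem invB_val : Nat.card (invB F) + Fintype.card F + 1 = 2 * Fintype.card F ^ 2 := by
  have h := card_invB (F := F)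
  have hq : 2 ≤ Fintype.card F := Fintype.one_lt_card
  set q := Fintype.card F
  set i := Nat.card (invB F)
  have h2 : 1 ≤ q ^ 2 := Nat.one_le_pow _ _ (by omega)
  have h3 : q ≤ q ^ 2 := Nat.le_self_pow (by norm_num) q
  zify [h2, h3, show 1 ≤ q by omega] at h ⊢
  have hne : ((q : ℤ) - 1) ≠ 0 := by omega
  refine mul_right_cancel₀ hne ?_
  linear_combination h

theorem arith_P {q i I o m f w : ℕ} (hq : 2 ≤ q) (hi : i + (q + 1) = (q + 1) * q ^ 3)
    (hI : I + (q + 1) = (q + 1) * q ^ 2) (ho : I * o = i * m) (hof : o ∣ f) (hk : f * w + I = i) : False := by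
  set s := q * q + q + 1 with hs
  zify at hi hI ho hk hs
  have e1 : (i : ℤ) = ((q : ℤ) - 1) * (q + 1) * s := by linear_combination hi - ((q : ℤ) - 1) * (q + 1) * hs
  have e2 : (I : ℤ) = ((q : ℤ) - 1) * (q + 1) * (q + 1) := by linear_combination hI
  have hne : ((q : ℤ) - 1) * (q + 1) ≠ 0 := mul_ne_zero (by omega) (by omega)
  have e3 : ((q : ℤ) + 1) * o = s * m := by
    refine mul_left_cancel₀ hne ?_
    rw [e1, e2] at ho
    linear_combination ho
  have e4 : (q + 1) * o = s * m := by exact_mod_cast e3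
  have hs' : s = q * (q + 1) + 1 := by zify; linear_combination hs
  have hc1 : Nat.Coprime s (q + 1) := by
    rw [hs', Nat.coprime_mul_right_add_left]; exact Nat.coprime_one_left _
  have hc2 : Nat.Coprime s q := by
    rw [hs', Nat.coprime_mul_left_add_left]; exact Nat.coprime_one_left _
  have hso : s ∣ o := hc1.dvd_of_dvd_mul_left ⟨m, e4⟩
  have e5 : (f : ℤ) * w = (q + 1) * ((q : ℤ) * q) * (q - 1) := by linear_combination hk + hi - hI
  have e6 : f * w = (q + 1) * (q * q) * (q - 1) := by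
    zify [show 1 ≤ q by omega]; exact e5
  have h7 : s ∣ (q + 1) * (q * q) * (q - 1) := e6 ▸ Dvd.dvd.mul_right (hso.trans hof) w
  have h8 : s ∣ q - 1 := (Nat.Coprime.mul_right hc1 (Nat.Coprime.mul_right hc2 hc2)).dvd_of_dvd_mul_left h7
  have h9 := Nat.le_of_dvd (by omega) h8
  have : q ≤ q * q := Nat.le_mul_self q
  omega

theorem arith_B {q i I o m f w : ℕ} (hq : 2 ≤ q) (hi : i + (q + 1) = (q + 1) * q ^ 3)
    (hI : I + q + 1 = 2 * q ^ 2) (ho : I * o = i * m) (hof : o ∣ f) (hk : f * w + I = i) : False := by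
  zify at hi hI ho hk
  have e2 : (I : ℤ) = (2 * (q : ℤ) + 1) * (q - 1) := by linear_combination hI
  have hne : ((q : ℤ) - 1) ≠ 0 := by omega
  have e3 : (2 * (q : ℤ) + 1) * o = (q + 1) * (((q : ℤ) * q + q + 1) * m) := by
    refine mul_left_cancel₀ hne ?_
    rw [e2] at ho
    linear_combination ho + (m : ℤ) * hi
  have e4 : (2 * q + 1) * o = (q + 1) * ((q * q + q + 1) * m) := by exact_mod_cast e3
  have hc : Nat.Coprime (q + 1) (2 * q + 1) := by
    rw [show 2 * q + 1 = q + (q + 1) by ring, Nat.coprime_add_self_right]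
    simp
  have h1 : q + 1 ∣ o := hc.dvd_of_dvd_mul_left ⟨_, e4⟩
  have h2 : ((q : ℤ) + 1) ∣ (f : ℤ) * w := by exact_mod_cast (h1.trans hof).mul_right w
  obtain ⟨t, ht⟩ := h2
  have h3 : ((q : ℤ) + 1) ∣ 2 :=
    ⟨(q : ℤ) ^ 3 - 2 * q + 2 - t, by linear_combination -ht + hk + hi - hI⟩
  have := Int.le_of_dvd (by omega) h3
  omega

namespace Hyp

variable [Finite G] [Finite Ω] [FaithfulSMul G Ω] (h : Hyp G a N F)
include h

theorem numI_eq : numI N = Nat.card {x : P3 F // Invol x} := by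
  refine (Nat.card_congr (Equiv.ofBijective (fun x : {x : P3 F // Invol x} =>
    (⟨h.emb x.1, h.emb_mem _, (Invol.map h.emb_inj).mpr x.2⟩ : {x : G // x ∈ N ∧ Invol x})) ⟨?_, ?_⟩)).symm
  · exact fun x y e => Subtype.ext (h.emb_inj (congrArg Subtype.val e :))
  · rintro ⟨x, hx, hi⟩
    obtain ⟨y, rfl⟩ := h.emb_surj hx
    exact ⟨⟨y, (Invol.map h.emb_inj).mp hi⟩, rfl⟩

theorem numX_eq (b : Ω) : numX N b = Nat.card (h.inv b) := by
  refine (Nat.card_congr (Equiv.ofBijective (fun x : h.inv b =>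
    (⟨h.emb x.1, ⟨h.emb_mem _, (Invol.map h.emb_inj).mpr x.2.1⟩, x.2.2⟩ :
      {x : G // (x ∈ N ∧ Invol x) ∧ x • b = b})) ⟨?_, ?_⟩)).symm
  · exact fun x y e => Subtype.ext (h.emb_inj (congrArg Subtype.val e :))
  · rintro ⟨x, ⟨hx, hi⟩, hb⟩
    obtain ⟨y, rfl⟩ := h.emb_surj hx
    exact ⟨⟨y, (Invol.map h.emb_inj).mp hi, hb⟩, rfl⟩

/-- The size of the orbit of a second point under `N` times the involutions fixing it: involutions of `N` times
their fixed points in the orbit. -/
theorem orbit_count {c : Ω} (hc : c ≠ a) : ∃ m, numX N c * Nat.card (orbit N c) = numI N * m := by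
  classical
  obtain ⟨z, hz, hzi⟩ := h.pt.exists_invol
  refine ⟨Nat.card {d : orbit N c // z • (d : Ω) = d}, ?_⟩
  have hoa : ∀ d : orbit N c, (d : Ω) ≠ a := by
    rintro ⟨d, n, rfl⟩ e
    exact hc (MulAction.injective (n : G) ((show (n : G) • c = a from e).trans (h.pt.fix n.2).symm))
  rw [mul_comm, numI, ← card_prod_fibre (fun (d : orbit N c) (x : {x : G // x ∈ N ∧ Invol x}) => x.1 • (d : Ω) = d)
      (c := numX N c) (fun d => ?_),
    ← card_prod_fibre (fun (x : {x : G // x ∈ N ∧ Invol x}) (d : orbit N c) => x.1 • (d : Ω) = d)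
      (c := Nat.card {d : orbit N c // z • (d : Ω) = d}) (fun x => ?_)]
  · exact Nat.card_congr ((Equiv.prodComm _ _).subtypeEquiv fun _ => Iff.rfl)
  · obtain ⟨g, hg, hgx⟩ := h.pt.one_class z hz x.1 x.2.1 hzi x.2.2
    refine (Nat.card_congr ((MulAction.toPerm (⟨g, hg⟩ : N)).subtypeEquiv fun d => ?_)).symm
    show z • (d : Ω) = d ↔ x.1 • g • (d : Ω) = g • (d : Ω)
    rw [← hgx, mul_smul, mul_smul, inv_smul_smul, smul_left_cancel_iff]
  · rw [← h.pt.numX_eq (hoa d) hc, numX]
    exact Nat.card_congr (Equiv.subtypeSubtypeEquivSubtypeInter (fun x : G => x ∈ N ∧ Invol x)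
      (fun x => x • (d : Ω) = d))

variable (hsh : (∀ b, b ≠ a → ShP (h.inv b)) ∨ ∀ b, b ≠ a → ShB (h.inv b))
include hsh

/-- **No member fixing the point centralises `N`.** -/
theorem no_central {y : G} (hy : y ∈ cls N) (hc : ∀ x ∈ N, x * y = y * x) : False := by
  classical
  haveI := h.pt.pretrans
  have hyN : y ∉ N := by
    intro hN
    obtain ⟨x, hx, x', hx', hi, hi', hne, -⟩ := h.pt.four
    have hyi : Invol y := hy.1
    have key : ∀ z ∈ N, Invol z → z = y := by
      intro z hz hzi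
      obtain ⟨g, hg, e⟩ := h.pt.one_class y hN z hz hyi hzi
      rw [← e, hc g hg, mul_inv_cancel_right]
    exact hne ((key x hx hi).trans (key x' hx' hi').symm)
  set P := {c : Ω | At a N c y}
  have hPN : ∀ (n : N) (c : Ω), c ∈ P → (n : G) • c ∈ P := fun n c hcP => by
    have := At.conj hcP (n : G)
    rwa [hc n n.2, mul_inv_cancel_right] at this
  obtain ⟨c, hcP⟩ : ∃ c, c ∈ P := ⟨hy.2.choose • a, hy.2.choose, rfl, hy.2.choose_spec⟩
  have hca : ∀ d ∈ P, d ≠ a := fun d hd e => by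
    have hd' : At a N d y := hd
    rw [e] at hd'
    exact hyN (h.pt.at_base.mp hd')
  have hk := h.pt.key (hca c hcP) hy
  obtain ⟨m, hm⟩ := h.orbit_count (hca c hcP)
  -- all orbits in `P` have the same size
  have hsame : ∀ d ∈ P, Nat.card (orbit N d) = Nat.card (orbit N c) := by
    intro d hd
    obtain ⟨g, hga, hgd⟩ := h.pt.stab_move (hca c hcP) (hca d hd)
    refine (Nat.card_congr ((MulAction.toPerm g).subtypeEquiv fun e => ?_)).symm
    show e ∈ orbit N c ↔ g • e ∈ orbit N d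
    constructor
    · rintro ⟨n, rfl⟩
      refine ⟨⟨g * n * g⁻¹, h.pt.conj g hga n n.2⟩, ?_⟩
      show (g * n * g⁻¹) • d = g • (n : G) • c
      rw [← hgd, mul_smul, mul_smul, inv_smul_smul]
    · rintro ⟨n, hn⟩
      refine ⟨⟨g⁻¹ * n * g, by simpa using h.pt.conj g⁻¹ (inv_mem hga) n n.2⟩, ?_⟩
      show (g⁻¹ * n * g) • c = e
      rw [mul_smul, mul_smul, hgd, inv_smul_eq_iff]
      exact hn
  have hdvd : Nat.card (orbit N c) ∣ numP a N y := by
    letI : MulAction N P :=
      { smul := fun n d => ⟨(n : G) • (d : Ω), hPN n d d.2⟩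
        one_smul := fun d => Subtype.ext (one_smul G (d : Ω))
        mul_smul := fun n n' d => Subtype.ext (mul_smul (n : G) n' (d : Ω)) }
    haveI := Fintype.ofFinite (orbitRel.Quotient N P)
    rw [show numP a N y = Nat.card P from rfl, Nat.card_congr (selfEquivSigmaOrbits N P), Nat.card_sigma]
    refine Finset.dvd_sum fun ω _ => ?_
    rw [← hsame ω.out.1 ω.out.2]
    refine dvd_of_eq (Nat.card_congr (Equiv.ofBijective
      (fun d : orbit N (ω.out.1 : Ω) => (⟨⟨d.1, ?_⟩, ?_⟩ : orbit N ω.out)) ⟨?_, ?_⟩))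
    · obtain ⟨n, hn⟩ := d.2
      exact hn ▸ hPN n _ ω.out.2
    · obtain ⟨n, hn⟩ := d.2
      exact ⟨n, Subtype.ext hn⟩
    · exact fun d d' e => Subtype.ext (congrArg (fun x : orbit N ω.out => (x.1 : Ω)) e)
    · rintro ⟨d, n, hn⟩
      exact ⟨⟨d.1, n, congrArg Subtype.val hn⟩, rfl⟩
  have hI := h.numX_eq c
  have hi := h.numI_eq
  rw [hI, hi] at hm hk
  have hP := invP_val (F := F)
  have hB := invB_val (F := F)
  have hV := invol_val (F := F)
  rcases hsh with hs | hs
  · obtain ⟨φ, -, e⟩ := hs c (hca c hcP)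
    rw [e, Nat.card_image_of_injective φ.injective] at hm hk
    exact arith_P Fintype.one_lt_card hV hP hm hdvd hk
  · obtain ⟨φ, e⟩ := hs c (hca c hcP)
    rw [e, Nat.card_image_of_injective φ.injective] at hm hk
    exact arith_B Fintype.one_lt_card hV hB hm hdvd hk

end Hyp

end CfsgLib.PlaneStab
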