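import Cfsg.Agent.Lib.PlaneStab.PSmall
import Cfsg.Agent.Lib.GolayUnique.Model
import Cfsg.Agent.Lib.SimpleM22.Steiner
import Cfsg.Agent.S1663
import Mathlib.LinearAlgebra.CrossProduct

/-!
Four elements and one point over each point of the projective plane: the planes form a Steiner system with parameters
`(3, 6, 22)`.

Blueprint: `blueprint/S3727.md`, section 5.
-/

set_option autoImplicit false
set_option linter.unusedSectionVars false

namespace CfsgLib.PlaneStab

open Matrix MulAction Cfsg CfsgLib.PSLn CfsgLib.RankOnePoint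

universe u v

variable {F : Type} [Field F] [Fintype F] [CharP F 2]

local notation "V" => (Fin 3 → F)

omit [CharP F 2] in
theorem card_psl_four (hq : Fintype.card F = 4) : Nat.card (P3 F) = 20160 := by
  classical
  have h1 := CfsgLib.SLCard.gcd_mul_card_PSL (F := F) (n := 3) (by norm_num)
  have h2 := CfsgLib.SLCard.card_units_mul_card_SL (F := F) (n := 3) (by norm_num)
  rw [Matrix.card_GL_field, Fin.prod_univ_three, hq] at h2
  rw [hq] at h1
  simp at h1 h2
  show Nat.card (Matrix.ProjectiveSpecialLinearGroup (Fin 3) F) = 20160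
  rw [Nat.card_eq_fintype_card]; omega

variable {G : Type u} {Ω : Type v} [Group G] [MulAction G Ω] {a : Ω} {N : Subgroup G}

namespace PCtx

variable [Finite G] [Finite Ω] [FaithfulSMul G Ω] {h : Hyp G a N F} (hC : PCtx h)
include hC

/-- A translate of the plane through `a`. -/
theorem plane_at {g : G} (ha : a ∈ (g • ·) '' pl h) : ∃ (m : P3 F) (u f : V), IsTv m u f ∧
    (g • ·) '' pl h = {c | h.emb m • c = c} := by
  obtain ⟨p, hp, hpa : g • p = a⟩ := ha
  obtain ⟨g1, hg1, hg1a⟩ : ∃ g1 ∈ gpl h, g1 • a = p := by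
    by_cases hpe : p = a
    · exact ⟨1, one_mem _, by rw [one_smul, hpe]⟩
    · obtain ⟨g1, hg1, e, -⟩ := hC.pl_trans (self_pl h) hp (Ne.symm hpe) hp (self_pl h) hpe
      exact ⟨g1, hg1, e⟩
  have hk : (g * g1) • a = a := by rw [mul_smul, hg1a, hpa]
  set x := rt 1 2 (by decide) (1 : F)
  set m := h.act ⟨g * g1, hk⟩ x
  have hm : Invol m := (Invol.map (f := (h.act ⟨g * g1, hk⟩).toMonoidHom) (h.act _).injective).mpr
    (rt_invol one_ne_zero)
  obtain ⟨u, f, ht⟩ := exists_tv hm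
  refine ⟨m, u, f, ht, Set.ext fun c => ?_⟩
  have e : h.emb m = g * g1 * h.emb x * (g * g1)⁻¹ := h.emb_act _ _
  rw [Set.mem_setOf_eq, e, mul_smul, mul_smul]
  have h3 : h.emb x • (g * g1)⁻¹ • c = (g * g1)⁻¹ • c ↔ (g * g1)⁻¹ • c ∈ pl h :=
    hC.pl_eq_fix (rt12_A2 1) (rt_ne one_ne_zero)
  constructor
  · rintro ⟨d, hd, rfl⟩
    have hd' : (g * g1)⁻¹ • g • d ∈ pl h := by
      rw [_root_.mul_inv_rev, mul_smul, inv_smul_smul]
      exact ((gpl h).inv_mem hg1 d).mpr hd
    rw [h3.mpr hd', smul_inv_smul]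
  · intro hc
    have hd := h3.mp (MulAction.injective (g * g1) (by dsimp only; rw [hc, smul_inv_smul]))
    refine ⟨g1 • (g * g1)⁻¹ • c, (hg1 _).mpr hd, ?_⟩
    show g • g1 • (g * g1)⁻¹ • c = c
    rw [← mul_smul g, smul_inv_smul]

/-- The planes form a Steiner system. -/
theorem steiner [DecidableEq Ω] (hq : Fintype.card F = 4) (hk : kk h = 1) :
    IsSteinerSystem 3 6 {S : Finset Ω | ∃ g : G, (S : Set Ω) = (g • ·) '' pl h} := by
  classical
  haveI := Fintype.ofFinite Ω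
  haveI := h.pt.pretrans
  have h6 : ∀ g : G, ∀ S : Finset Ω, (S : Set Ω) = (g • ·) '' pl h → S.card = 6 := by
    intro g S hS
    rw [← Set.ncard_coe_finset, hS, Set.ncard_image_of_injective _ (MulAction.injective g),
      ← Nat.card_coe_set_eq, hC.card_pl, hk, hq]
  refine ⟨fun S ⟨g, hS⟩ => h6 g S hS, ?_⟩
  -- triples through `a`
  have key : ∀ c d : Ω, c ≠ a → d ≠ a → c ≠ d → ∃! T : Set Ω, (∃ g : G, T = (g • ·) '' pl h) ∧ a ∈ T ∧ c ∈ T ∧ d ∈ T := by
    intro c d hc hd hcd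
    obtain ⟨v, hv, ev⟩ := hC.vec hc
    obtain ⟨w, hw, ew⟩ := hC.vec hd
    have hli : LinearIndependent F ![v, w] := by
      rw [LinearIndependent.pair_iff' hv]
      intro k hkw
      have hk0 : k ≠ 0 := fun e => hw (by rw [← hkw, e, zero_smul])
      exact hcd (hC.eq_of_inv hk hc hd (by rw [ev, ew, ← hkw, invAt_smul hk0]))
    have hn : crossProduct v w ≠ 0 := crossProduct_ne_zero_iff_linearIndependent.mpr hli
    obtain ⟨u, hu, hfu⟩ := exists_centre_of_axis hn
    have ht : IsTv (PSLn.mk (PSLn.tv u (crossProduct v w) hfu)) u (crossProduct v w) := ⟨hfu, hu, hn, rfl⟩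
    obtain ⟨k, hkm⟩ := one_class (rt_invol (i := (1 : Fin 3)) (j := 2) (h := by decide) (one_ne_zero (α := F))) ht.invol
    set T₀ : Set Ω := {p | h.emb (PSLn.mk (PSLn.tv u (crossProduct v w) hfu)) • p = p}
    have hcT : c ∈ T₀ := (fix_iff ev ht).mpr (by rw [dotProduct_comm, dot_self_cross])
    have hdT : d ∈ T₀ := (fix_iff ew ht).mpr (by rw [dotProduct_comm, dot_cross_self])
    have hT₀ : T₀ = (h.emb k • ·) '' pl h := by
      ext p
      show h.emb _ • p = p ↔ _
      rw [← hkm, map_mul, map_mul, map_inv, mul_smul, mul_smul]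
      have h3 : h.emb (rt 1 2 (by decide) (1 : F)) • (h.emb k)⁻¹ • p = (h.emb k)⁻¹ • p ↔ (h.emb k)⁻¹ • p ∈ pl h :=
        hC.pl_eq_fix (rt12_A2 1) (rt_ne one_ne_zero)
      constructor
      · intro e
        exact ⟨_, h3.mp (MulAction.injective (h.emb k) (by dsimp only; rw [e, smul_inv_smul])), smul_inv_smul _ _⟩
      · rintro ⟨q, hq', rfl⟩
        have hq'' : (h.emb k)⁻¹ • h.emb k • q ∈ pl h := by rw [inv_smul_smul]; exact hq'
        rw [h3.mpr hq'', smul_inv_smul]
    refine ⟨T₀, ⟨⟨_, hT₀⟩, h.emb_fix _, hcT, hdT⟩, ?_⟩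
    rintro T ⟨⟨g, rfl⟩, haT, hcT', hdT'⟩
    obtain ⟨m, u', f', ht', e⟩ := hC.plane_at haT
    rw [e] at hcT' hdT' ⊢
    have hfv : f' ⬝ᵥ v = 0 := (fix_iff ev ht').mp hcT'
    have hfw : f' ⬝ᵥ w = 0 := (fix_iff ew ht').mp hdT'
    have hdep : crossProduct f' (crossProduct v w) = 0 := by
      rw [cross_cross_eq_smul_sub_smul', hfw, dotProduct_comm v, hfv, zero_smul, zero_smul, sub_zero]
    have hnl : ¬ LinearIndependent F ![f', crossProduct v w] := fun e => crossProduct_ne_zero_iff_linearIndependent.mpr e hdep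
    rw [LinearIndependent.pair_iff' ht'.axis_ne] at hnl
    push Not at hnl
    obtain ⟨l, hl⟩ := hnl
    have hl0 : l ≠ 0 := fun e => hn (by rw [← hl, e, zero_smul])
    ext p
    show h.emb m • p = p ↔ h.emb _ • p = p
    by_cases hp : p = a
    · rw [hp]; exact iff_of_true (h.emb_fix _) (h.emb_fix _)
    obtain ⟨z, -, ez⟩ := hC.vec hp
    rw [fix_iff ez ht', fix_iff ez ht, ← hl, smul_dotProduct, smul_eq_mul, mul_eq_zero, or_iff_right hl0]
  intro s hs
  obtain ⟨x, y, z, hxy, hxz, hyz, rfl⟩ := Finset.card_eq_three.mp hs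
  obtain ⟨g, hg⟩ := exists_smul_eq G x a
  have hya : g • y ≠ a := fun e => hxy (MulAction.injective g (hg.trans e.symm))
  have hza : g • z ≠ a := fun e => hxz (MulAction.injective g (hg.trans e.symm))
  have hyz' : g • y ≠ g • z := fun e => hyz (MulAction.injective g e)
  obtain ⟨T, ⟨⟨k, rfl⟩, haT, hyT, hzT⟩, huni⟩ := key _ _ hya hza hyz'
  have hcomp : ∀ (j : G) (t : Ω), t ∈ ((g⁻¹ * j) • ·) '' pl h ↔ g • t ∈ (j • ·) '' pl h := by
    intro j t
    constructor
    · rintro ⟨p, hp, rfl⟩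
      exact ⟨p, hp, by dsimp only; rw [mul_smul, smul_inv_smul]⟩
    · rintro ⟨p, hp, e⟩
      exact ⟨p, hp, by dsimp only at e ⊢; rw [mul_smul, e, inv_smul_smul]⟩
  refine ⟨(((g⁻¹ * k) • ·) '' pl h).toFinset, ⟨⟨g⁻¹ * k, by simp⟩, ?_⟩, ?_⟩
  · intro t ht
    rw [Set.mem_toFinset, hcomp]
    simp only [Finset.mem_insert, Finset.mem_singleton] at ht
    rcases ht with rfl | rfl | rfl
    exacts [hg ▸ haT, hyT, hzT]
  · rintro S ⟨⟨j, hS⟩, hsub⟩
    have hmem : ∀ t ∈ ({x, y, z} : Finset Ω), g • t ∈ ((g * j) • ·) '' pl h := by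
      intro t ht
      obtain ⟨p, hp, e⟩ := hS ▸ (Finset.mem_coe.mpr (hsub ht))
      exact ⟨p, hp, by dsimp only at e ⊢; rw [mul_smul, e]⟩
    have e := huni _ ⟨⟨g * j, rfl⟩, hg ▸ hmem x (by simp), hmem y (by simp), hmem z (by simp)⟩
    ext t
    rw [Set.mem_toFinset, hcomp, ← e, ← hcomp, inv_mul_cancel_left, ← hS, Finset.mem_coe]

/-- **The Mathieu group.** -/
theorem m22 (hq : Fintype.card F = 4) (hk : kk h = 1) :
    Nat.card Ω = 22 ∧ (Cfsg.Spor.IsoM22 G ∨ ∃ H : Subgroup G, H.index = 2 ∧ Cfsg.Spor.IsoM22 H) := by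
  classical
  haveI := Fintype.ofFinite Ω
  have hv : Nat.card Ω = 22 := by rw [hC.card_omega, hk, hq]; norm_num
  refine ⟨hv, ?_⟩
  set B := {S : Finset Ω | ∃ g : G, (S : Set Ω) = (g • ·) '' pl h}
  obtain ⟨hA, -, H, hHi, hH⟩ := CfsgCode.aut_22 (α := Ω) (B := B) (by rw [← Nat.card_eq_fintype_card, hv]) (hC.steiner hq hk)
  have hmem : ∀ g : G, MulAction.toPerm g ∈ setSystemAut B := by
    intro g
    show (fun b : Finset Ω => b.image (MulAction.toPerm g)) '' B = B
    have hstep : ∀ (g : G) (S : Finset Ω), S ∈ B → S.image (MulAction.toPerm g) ∈ B := by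
      rintro g S ⟨j, hj⟩
      refine ⟨g * j, ?_⟩
      rw [Finset.coe_image, hj, Set.image_image]
      simp [mul_smul]
    refine Set.Subset.antisymm (by rintro _ ⟨S, hS, rfl⟩; exact hstep g S hS) fun S hS => ?_
    refine ⟨S.image (MulAction.toPerm g⁻¹), hstep g⁻¹ S hS, ?_⟩
    simp [Finset.image_image, Function.comp_def]
  let φ : G →* setSystemAut B := (MulAction.toPermHom G Ω).codRestrict _ hmem
  have hφ : Function.Injective φ := fun x y e => MulAction.toPerm_injective (congrArg Subtype.val e)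
  have hle : Nat.card φ.range = Nat.card G := (Nat.card_congr (MonoidHom.ofInjective hφ).toEquiv).symm
  have hdvd : Nat.card G ∣ 887040 := hA ▸ hle ▸ Subgroup.card_subgroup_dvd_card φ.range
  haveI := h.pt.pretrans
  have hmul : 22 * 20160 ∣ Nat.card G := by
    rw [← Nat.card_congr (orbitProdStabilizerEquivGroup G a), Nat.card_prod, orbit_eq_univ,
      Nat.card_congr (Equiv.Set.univ Ω), hv]
    exact mul_dvd_mul_left _ (card_psl_four hq ▸ (Nat.card_congr h.e.toEquiv).symm ▸ Subgroup.card_dvd_of_le h.pt.le)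
  have hpos : 0 < Nat.card G := Nat.card_pos
  haveI := hH.1
  have hcases : Nat.card G = 443520 ∨ Nat.card G = 887040 := by
    obtain ⟨r, hr⟩ := hmul
    obtain ⟨s, hs⟩ := hdvd
    rw [hr] at hs
    have h2 : r * s = 2 := Nat.eq_of_mul_eq_mul_left (show 0 < 22 * 20160 by norm_num) (by rw [← mul_assoc, ← hs])
    have : r ≤ 2 := Nat.le_of_dvd two_pos ⟨s, h2.symm⟩
    interval_cases r <;> omega
  rcases hcases with e | e
  · left
    have hR : H = φ.range := CfsgSimpleM22.eq_of_index_two hA hH.2 (hle.trans e) hH.1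
    let ψ : H ≃* G := (MulEquiv.subgroupCongr hR).trans (MonoidHom.ofInjective hφ).symm
    exact Cfsg.Agent.S1663.result ⟨ψ.symm.isSimpleGroup, e⟩
  · right
    have hbij : Function.Bijective φ := hφ.bijective_of_nat_card_le (by rw [hA, e])
    refine ⟨H.comap φ, by rw [Subgroup.index_comap_of_surjective _ hbij.2, hHi], ?_⟩
    let ψ : H.comap φ ≃* H := ((MulEquiv.ofBijective φ hbij).subgroupMap (H.comap φ)).trans
      (MulEquiv.subgroupCongr (Subgroup.map_comap_eq_self_of_surjective hbij.2 H))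
    exact Cfsg.Agent.S1663.result ⟨ψ.isSimpleGroup, by rw [Nat.card_congr ψ.toEquiv, hH.2]⟩

end PCtx

end CfsgLib.PlaneStab
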