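import Cfsg.Agent.Lib.PlaneStab.PPlane
import Cfsg.Agent.Lib.SLCard
import Cfsg.Agent.Lib.SmallOrders.RangeLow

/-!
One second point over each point of the projective plane; the field of two elements.

Blueprint: `blueprint/S3727.md`, section 5.
-/

set_option autoImplicit false
set_option linter.unusedSectionVars false

namespace CfsgLib.PlaneStab

open Matrix MulAction CfsgLib.PSLn CfsgLib.RankOnePoint

universe u v

variable {F : Type} [Field F] [Fintype F] [CharP F 2]

local notation "V" => (Fin 3 → F)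

omit [CharP F 2] in
theorem card_psl_two (hq : Fintype.card F = 2) : Nat.card (P3 F) = 168 := by
  classical
  have h1 := CfsgLib.SLCard.gcd_mul_card_PSL (F := F) (n := 3) (by norm_num)
  have h2 := CfsgLib.SLCard.card_units_mul_card_SL (F := F) (n := 3) (by norm_num)
  rw [Matrix.card_GL_field, Fin.prod_univ_three, hq] at h2
  rw [hq] at h1
  simp at h1 h2
  show Nat.card (Matrix.ProjectiveSpecialLinearGroup (Fin 3) F) = 168
  rw [Nat.card_eq_fintype_card]; omega

variable {G : Type u} {Ω : Type v} [Group G] [MulAction G Ω] {a : Ω} {N : Subgroup G}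

namespace PCtx

variable [Finite G] [Finite Ω] [FaithfulSMul G Ω] {h : Hyp G a N F} (hC : PCtx h)
include hC

/-- With one point over each point of the projective plane, a second point is determined by its shape. -/
theorem eq_of_inv (hk : kk h = 1) {c d : Ω} (hc : c ≠ a) (hd : d ≠ a) (e : h.inv c = h.inv d) : c = d := by
  obtain ⟨v, hv, ev⟩ := hC.vec hc
  have h1 := hC.card_fibre hv
  rw [hk] at h1
  haveI := (Nat.card_eq_one_iff_unique.mp h1).1
  exact congrArg Subtype.val (Subsingleton.elim (⟨c, hc, ev⟩ : {c : Ω // c ≠ a ∧ h.inv c = invAt v}) ⟨d, hd, e ▸ ev⟩)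

/-- `N` is transitive on the second points. -/
theorem trans_N_one (hk : kk h = 1) {x y : Ω} (hx : x ≠ a) (hy : y ≠ a) : ∃ g ∈ N, g • x = y := by
  obtain ⟨v, hv, ev⟩ := hC.vec hx
  obtain ⟨w, hw, ew⟩ := hC.vec hy
  obtain ⟨A, hA⟩ := exists_SL_vec hv
  obtain ⟨B, hB⟩ := exists_SL_vec hw
  refine ⟨h.emb (PSLn.mk (B * A⁻¹)), h.emb_mem _, hC.eq_of_inv hk (emb_ne hx _) hy ?_⟩
  rw [hC.inv_move _ ev, ew, ← hB, ← hA]
  show invAt ((B.1 * (A⁻¹).1) *ᵥ (A.1 *ᵥ Pi.single 0 1)) = _
  rw [mulVec_mulVec, Matrix.mul_assoc, show (A⁻¹).1 * A.1 = 1 from congrArg Subtype.val (inv_mul_cancel A),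
    Matrix.mul_one]

theorem act_injective_one (hk : kk h = 1) : Function.Injective h.act := by
  rw [← MonoidHom.ker_eq_bot_iff, Subgroup.eq_bot_iff_forall]
  intro g hg
  apply Subtype.ext
  refine eq_of_smul_eq_smul (α := Ω) fun c => ?_
  show (g : G) • c = (1 : G) • c
  rw [one_smul]
  by_cases hc : c = a
  · rw [hc]; exact g.2
  refine hC.eq_of_inv hk (fun e => hc (MulAction.injective (g : G) (e.trans (mem_stabilizer_iff.mp g.2).symm))) hc ?_
  rw [h.inv_conj, MonoidHom.mem_ker.mp hg]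
  simp

/-- **Two elements.** -/
theorem regular_two (hq : Fintype.card F = 2) : ∃ E : Subgroup G, E.Normal ∧ Nat.card E = Fintype.card F ^ 3 ∧
    (∀ x y : Ω, ∃ r ∈ E, r • x = y) ∧ ∀ x : Ω, ∀ r ∈ E, r • x = x → r = 1 := by
  classical
  have hk := hC.kk_two hq
  have hv : Nat.card Ω = 8 := by rw [hC.card_omega, hk, hq]; norm_num
  -- the point stabiliser is `N`
  have hstab : stabilizer G a = N := by
    refine le_antisymm (fun g hg => ?_) fun g hg => h.pt.fix hg
    set ω : stabilizer G a := ⟨g, hg⟩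
    obtain ⟨M, e, hM⟩ := hC.typ ω
    have he : e = 1 := by
      refine RingEquiv.ext fun x => ?_
      have hx : x = 0 ∨ x = 1 := by
        have : ({0, 1} : Finset F) = Finset.univ := Finset.eq_univ_of_card _ (by rw [Finset.card_pair zero_ne_one, hq])
        have := this.symm ▸ Finset.mem_univ x
        simpa using this
      rcases hx with rfl | rfl <;> simp
    rw [he, map_one, mul_one] at hM
    have hdet : GeneralLinearGroup.det M = 1 := by
      haveI : Subsingleton Fˣ := Fintype.card_le_one_iff_subsingleton.mp (by rw [Fintype.card_units, hq])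
      exact Subsingleton.elim _ _
    obtain ⟨A, hA⟩ := exists_toGL_of_det_one M hdet
    rw [← hA, diagAut_toGL, ← h.act_emb] at hM
    have := congrArg Subtype.val (hC.act_injective_one hk hM)
    exact (show g = _ from this) ▸ h.emb_mem _
  have htrans : IsPretransitive G Ω := h.pt.pretrans
  have hcard : Nat.card G = 1344 := by
    rw [← Nat.card_congr (orbitProdStabilizerEquivGroup G a), Nat.card_prod, hstab,
      Nat.card_congr h.e.symm.toEquiv, card_psl_two hq, orbit_eq_univ, Nat.card_congr (Equiv.Set.univ Ω), hv]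
  have hsimple : ¬ IsSimpleGroup G := by
    intro hs
    refine CfsgLib.SmallOrders.card_ne_1344 (fun hc => ?_) hcard
    have hnc := h.pt.nonsolv
    exact hnc (Group.isSolvable_of_comm fun x y => Subtype.ext (hc.is_comm.comm (x : G) y))
  haveI : Nontrivial G := Finite.one_lt_card_iff_nontrivial.mp (by rw [hcard]; norm_num)
  obtain ⟨M, hMn, hM1, hMt⟩ : ∃ M : Subgroup G, M.Normal ∧ M ≠ ⊥ ∧ M ≠ ⊤ := by
    by_contra hall
    push Not at hall
    exact hsimple ⟨fun M hM => or_iff_not_imp_left.mpr (hall M hM)⟩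
  haveI := hMn
  haveI := h.pt.normal_trans hM1
  have hmove : ∀ c, ∃ r ∈ M, r • a = c := fun c => by
    obtain ⟨r, hr⟩ := exists_smul_eq M a c
    exact ⟨r, r.2, hr⟩
  have htr : ∀ x y : Ω, ∃ r ∈ M, r • x = y := fun x y => by
    obtain ⟨r, hr, rfl⟩ := hmove x
    obtain ⟨s, hs, rfl⟩ := hmove y
    exact ⟨s * r⁻¹, mul_mem hs (inv_mem hr), by rw [mul_smul, inv_smul_smul]⟩
  have hfree : ∀ x : Ω, ∀ r ∈ M, r • x = x → r = 1 := by
    haveI : IsSimpleGroup (P3 F) := CfsgLib.SLPerfect.isSimpleGroup (F := F) (n := 3) le_rfl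
    rcases (inferInstance : IsSimpleGroup (P3 F)).eq_bot_or_eq_top_of_normal (M.comap h.emb) (hMn.comap _) with e | e
    · intro x r hr hrx
      obtain ⟨g, rfl⟩ := htrans.exists_smul_eq a x
      have h1 : g⁻¹ * r * g ∈ M := by simpa using hMn.conj_mem r hr g⁻¹
      have h2 : g⁻¹ * r * g ∈ stabilizer G a := mem_stabilizer_iff.mpr (by rw [mul_smul, mul_smul, hrx, inv_smul_smul])
      rw [hstab] at h2
      obtain ⟨y, hy⟩ := h.emb_surj h2
      have : y ∈ M.comap h.emb := show h.emb y ∈ M from hy ▸ h1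
      rw [e, Subgroup.mem_bot] at this
      rw [this, map_one] at hy
      calc r = g * (g⁻¹ * r * g) * g⁻¹ := by group
        _ = 1 := by rw [← hy]; group
    · refine absurd (eq_top_iff.mpr fun g _ => ?_) hMt
      obtain ⟨r, hr, hra⟩ := hmove (g • a)
      have h2 : r⁻¹ * g ∈ stabilizer G a := mem_stabilizer_iff.mpr (by rw [mul_smul, inv_smul_eq_iff, hra])
      rw [hstab] at h2
      obtain ⟨y, hy⟩ := h.emb_surj h2
      have : h.emb y ∈ M := (e ▸ Subgroup.mem_top y : y ∈ M.comap h.emb)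
      rw [hy] at this
      simpa using mul_mem hr this
  refine ⟨M, hMn, ?_, htr, hfree⟩
  rw [hq, show (2 : ℕ) ^ 3 = Nat.card Ω by rw [hv]; norm_num]
  refine Nat.card_eq_of_bijective (fun r : M => (r : G) • a) ⟨fun r r' e => ?_, fun y => ?_⟩
  · dsimp only at e
    have := hfree a _ (mul_mem (inv_mem r'.2) r.2) (by rw [mul_smul, e, inv_smul_smul])
    exact Subtype.ext (inv_mul_eq_one.mp this).symm
  · obtain ⟨r, hr, e⟩ := hmove y
    exact ⟨⟨r, hr⟩, e⟩

end PCtx

end CfsgLib.PlaneStab
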