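import Cfsg.Agent.Lib.PlaneStab.PTrans
import Cfsg.Agent.Lib.PlaneStab.PSmall
import Cfsg.Agent.Lib.PlaneStab.M22

/-!
A point stabiliser of a doubly transitive group of even degree with a normal `PSL₃(2^n)`.

Blueprint: `blueprint/S3727.md`.
-/

set_option autoImplicit false
set_option linter.unusedSectionVars false

namespace CfsgLib.PlaneStab

open MulAction CfsgLib.PSLn CfsgLib.RankOnePoint

universe u v

variable {F : Type} [Field F] [Fintype F] [CharP F 2]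
variable {G : Type u} {Ω : Type v} [Group G] [MulAction G Ω] {a : Ω} {N : Subgroup G}

theorem main [Finite G] [Finite Ω] [FaithfulSMul G Ω] (h2 : IsMultiplyPretransitive G Ω 2) (hev : Even (Nat.card Ω))
    (hNle : N ≤ stabilizer G a) (hN : ∀ g ∈ stabilizer G a, ∀ x ∈ N, g * x * g⁻¹ ∈ N) (e : P3 F ≃* N)
    {n : ℕ} (hq : Fintype.card F = 2 ^ n) :
    (∀ x y : Ω, x ≠ a → y ≠ a → ∃ g ∈ N, g • x = y) ∧
    ((Odd n ∧ ∃ E : Subgroup G, E.Normal ∧ Nat.card E = (2 ^ n) ^ 3 ∧ (∀ x y : Ω, ∃ r ∈ E, r • x = y) ∧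
        ∀ x : Ω, ∀ r ∈ E, r • x = x → r = 1) ∨
     (Nat.card Ω = 22 ∧ n = 2 ∧ (Cfsg.Spor.IsoM22 G ∨ ∃ H : Subgroup G, H.index = 2 ∧ Cfsg.Spor.IsoM22 ↥H))) := by
  obtain ⟨h₀⟩ := exists_hyp h2 hev hNle hN e
  obtain ⟨h, ⟨hsh, htyp⟩ | hB⟩ := h₀.normalise
  swap
  · exact (h.not_B hB).elim
  have hC : PCtx h := ⟨hsh, htyp⟩
  rcases eq_or_ne (Fintype.card F) 2 with h22 | h22
  · have hn : n = 1 := Nat.pow_right_injective le_rfl (show 2 ^ n = 2 ^ 1 by rw [← hq, h22, pow_one])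
    refine ⟨fun x y => hC.trans_N_one (hC.kk_two h22), Or.inl ⟨hn ▸ odd_one, ?_⟩⟩
    rw [← hq]
    exact hC.regular_two h22
  have h4 : 4 ≤ Fintype.card F := by
    have := Fintype.one_lt_card (α := F)
    match n with
    | 0 => omega
    | 1 => omega
    | k + 2 =>
      have := Nat.one_le_two_pow (n := k)
      rw [hq, pow_add]; omega
  rcases hC.plane_cases h4 with ⟨h4', hk⟩ | ⟨hk, R, hR, hnorm, htr, hreg, hsq⟩
  · obtain ⟨hv, hM⟩ := hC.m22 h4' hk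
    have hn : n = 2 := Nat.pow_right_injective le_rfl (show 2 ^ n = 2 ^ 2 by rw [← hq, h4'])
    exact ⟨fun x y => hC.trans_N_one hk, Or.inr ⟨hv, hn, hM⟩⟩
  · refine ⟨fun x y => hC.trans_N hk hnorm htr hreg hsq, Or.inl ⟨hC.n_odd hk hnorm htr hreg hsq hq, ?_⟩⟩
    rw [← hq]
    exact hC.regular_normal hk hR hnorm htr hreg hsq h4

end CfsgLib.PlaneStab
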