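import Cfsg.Agent.Lib.PlaneStab.PType
import Cfsg.Agent.Lib.PlaneStab.BType

/-!
The shape of a point: the points of the projective plane of the second points, the blocks, and the numbers.

Blueprint: `blueprint/S3727.md`, section 5.
-/

set_option autoImplicit false
set_option linter.unusedSectionVars false

namespace CfsgLib.PlaneStab

open Matrix MulAction CfsgLib.PSLn CfsgLib.RankOnePoint

universe u v

variable {F : Type} [Field F]

local notation "V" => (Fin 3 → F)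

/-- The involutions whose axis passes through the point of `v`. -/
def invAt (v : Fin 3 → F) : Set (P3 F) := {x | ∃ u f : Fin 3 → F, IsTv x u f ∧ f ⬝ᵥ v = 0}

theorem invP_eq_at : invP F = invAt (Pi.single 0 1) := by
  ext x
  simp [invP, invAt]

theorem mem_invAt {v u f : V} {x : P3 F} (h : IsTv x u f) : x ∈ invAt v ↔ f ⬝ᵥ v = 0 := by
  refine ⟨fun ⟨u', f', h', hf⟩ => ?_, fun hf => ⟨u, f, h, hf⟩⟩
  obtain ⟨c, -, -, rfl⟩ := h'.unique h
  rw [smul_dotProduct, hf, smul_zero]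

theorem invAt_smul {v : V} {c : F} (hc : c ≠ 0) : invAt (c • v) = invAt v := by
  ext x
  simp [invAt, hc]

variable [Fintype F] [CharP F 2]

theorem exists_centre_of_axis {f : V} (hf : f ≠ 0) : ∃ u : V, u ≠ 0 ∧ f ⬝ᵥ u = 0 := by
  have h : 0 < Nat.card {u : V // u ≠ 0 ∧ f ⬝ᵥ u = 0} := by
    rw [card_orth hf]
    have h2 := Fintype.one_lt_card (α := F)
    have : 2 ^ 2 ≤ Fintype.card F ^ 2 := Nat.pow_le_pow_left h2 2
    omega
  obtain ⟨⟨u, hu⟩⟩ := (Nat.card_pos_iff.mp h).1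
  exact ⟨u, hu⟩

theorem invAt_inj {v w : V} (hv : v ≠ 0) (hw : w ≠ 0) (h : invAt v = invAt w) : ∃ c : F, c ≠ 0 ∧ w = c • v := by
  obtain ⟨j, hj⟩ := Function.ne_iff.mp hv
  rw [Pi.zero_apply] at hj
  refine ⟨w j / v j, ?_⟩
  suffices key : w = (w j / v j) • v by
    exact ⟨fun e => hw (by rw [key, e, zero_smul]), key⟩
  funext i
  rw [Pi.smul_apply, smul_eq_mul]
  by_contra hne
  set f : V := Pi.single i (v j) - Pi.single j (v i) with hfdef
  have hfw : f ⬝ᵥ w ≠ 0 := fun e => hne (by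
    rw [hfdef, sub_dotProduct, single_dotProduct, single_dotProduct, sub_eq_zero] at e
    field_simp
    linear_combination e)
  have hfv : f ⬝ᵥ v = 0 := by
    rw [hfdef, sub_dotProduct, single_dotProduct, single_dotProduct]; ring
  have hf0 : f ≠ 0 := fun e => hfw (by rw [e, zero_dotProduct])
  obtain ⟨u, hu, hfu⟩ := exists_centre_of_axis hf0
  have hx : IsTv (PSLn.mk (PSLn.tv u f hfu)) u f := ⟨hfu, hu, hf0, rfl⟩
  exact hfw ((mem_invAt hx).mp (h ▸ (mem_invAt hx).mpr hfv))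

theorem mul_single_inv (g : GL (Fin 3) F) (v : V) : (g⁻¹).1 *ᵥ (g.1 *ᵥ v) = v := by
  rw [mulVec_mulVec, ← Units.val_mul, inv_mul_cancel, Units.val_one, one_mulVec]

theorem diag_invAt (g : GL (Fin 3) F) (v : V) : diagAut g '' invAt v = invAt (g.1 *ᵥ v) := by
  ext x
  constructor
  · rintro ⟨y, ⟨u, f, hy, hf⟩, rfl⟩
    refine ⟨_, _, hy.conjGL g, ?_⟩
    rw [← dotProduct_mulVec, mul_single_inv, hf]
  · rintro ⟨u, f, hx, hf⟩
    refine ⟨(diagAut g)⁻¹ x, ⟨(g⁻¹).1 *ᵥ u, f ᵥ* ((g⁻¹)⁻¹).1, ?_, ?_⟩, MulAut.apply_inv_self _ _ _⟩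
    · rw [← map_inv]; exact hx.conjGL g⁻¹
    · rw [inv_inv, ← dotProduct_mulVec, hf]

theorem conj_invAt (A : S3L F) (v : V) : MulAut.conj (PSLn.mk A) '' invAt v = invAt (A.1 *ᵥ v) := by
  rw [← diagAut_toGL, diag_invAt]
  rfl

theorem shP_vec {S : Set (P3 F)} (h : ShP S) : ∃ v : V, v ≠ 0 ∧ S = invAt v := by
  obtain ⟨φ, ⟨g, e, rfl⟩, rfl⟩ := h
  refine ⟨g.1 *ᵥ Pi.single 0 1, fun e0 => ?_, ?_⟩
  · have := congrArg (fun w => (g⁻¹).1 *ᵥ w) e0
    simp only [mul_single_inv, mulVec_zero] at this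
    simp at this
  · rw [mem_image_mul, field_P, invP_eq_at, diag_invAt]

/-- `SL₃` is transitive on the non-zero vectors. -/
theorem exists_SL_vec {v : V} (hv : v ≠ 0) : ∃ A : S3L F, A.1 *ᵥ Pi.single 0 1 = v := by
  obtain ⟨M, hM⟩ := exists_GL_mulVec (ι := Unit) (s := fun _ => (Pi.single 0 1 : V)) (t := fun _ => v)
    (linearIndependent_unique_iff.mpr (by simp)) (linearIndependent_unique_iff.mpr hv)
  have hd : M.1.det ≠ 0 := ((Matrix.isUnit_iff_isUnit_det _).mp M.isUnit).ne_zero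
  refine ⟨⟨M.1 * Matrix.diagonal ![1, 1, M.1.det⁻¹], ?_⟩, ?_⟩
  · rw [Matrix.det_mul, Matrix.det_diagonal, Fin.prod_univ_three]
    simp [mul_inv_cancel₀ hd]
  · show (M.1 * Matrix.diagonal ![1, 1, M.1.det⁻¹]) *ᵥ _ = v
    rw [← mulVec_mulVec, diagonal_mulVec_single, ← hM ()]
    simp

theorem X0P_move_axis {f f' : V} (hf : f ≠ 0) (hf' : f' ≠ 0) (h0 : f 0 = 0) (h0' : f' 0 = 0) :
    ∃ A : S3L F, A.1 *ᵥ Pi.single 0 1 = Pi.single 0 1 ∧ f ᵥ* A.1 = f' := by
  have main : ∀ f : V, f ≠ 0 → f 0 = 0 → ∃ A : S3L F, A.1 *ᵥ Pi.single 0 1 = Pi.single 0 1 ∧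
      (Pi.single 2 1 : V) ᵥ* A.1 = f := by
    intro f hf h0
    by_cases h2 : f 2 = 0
    · have h1 : f 1 ≠ 0 := fun e => hf (funext fun i => by fin_cases i <;> simp [h0, e, h2])
      refine ⟨⟨!![1, 0, 0; 0, 0, -(f 1)⁻¹; 0, f 1, 0], by simp [Matrix.det_fin_three, h1]⟩, ?_, ?_⟩
      · funext i; fin_cases i <;> simp [Matrix.mulVec_single_one]
      · funext i; fin_cases i <;> simp [Matrix.single_one_vecMul, h0, h2]
    · refine ⟨⟨!![1, 0, 0; 0, (f 2)⁻¹, 0; 0, f 1, f 2], by simp [Matrix.det_fin_three, h2]⟩, ?_, ?_⟩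
      · funext i; fin_cases i <;> simp [Matrix.mulVec_single_one]
      · funext i; fin_cases i <;> simp [Matrix.single_one_vecMul, h0]
  obtain ⟨A, hA, hAf⟩ := main f hf h0
  obtain ⟨B, hB, hBf⟩ := main f' hf' h0'
  have hAi : (A⁻¹).1 *ᵥ Pi.single 0 1 = Pi.single 0 1 := by
    have e : (A⁻¹).1 * A.1 = 1 := congrArg Subtype.val (inv_mul_cancel A)
    conv_lhs => rw [← hA]
    rw [mulVec_mulVec, e, one_mulVec]
  refine ⟨A⁻¹ * B, ?_, ?_⟩
  · show ((A⁻¹).1 * B.1) *ᵥ _ = _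
    rw [← mulVec_mulVec, hB, hAi]
  · show f ᵥ* ((A⁻¹).1 * B.1) = f'
    have e : A.1 * (A⁻¹).1 = 1 := congrArg Subtype.val (mul_inv_cancel A)
    rw [← vecMul_vecMul]
    conv_lhs => rw [← hAf, vecMul_vecMul (Pi.single 2 1 : V) A.1, e, vecMul_one]
    exact hBf

variable {G : Type u} {Ω : Type v} [Group G] [MulAction G Ω] {a : Ω} {N : Subgroup G}

/-- The standing hypotheses of the shape of a point. -/
structure PCtx (h : Hyp G a N F) : Prop where
  sh : ∀ b, b ≠ a → ShP (h.inv b)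
  typ : ∀ g, h.act g ∈ PlaneStab.typ F

namespace PCtx

variable [Finite G] [Finite Ω] [FaithfulSMul G Ω] {h : Hyp G a N F} (hC : PCtx h)
include hC

theorem vec {c : Ω} (hc : c ≠ a) : ∃ v : V, v ≠ 0 ∧ h.inv c = invAt v := shP_vec (hC.sh c hc)

theorem twist {φ : MulAut (P3 F)} (hφ : φ ∈ PlaneStab.typ F) : PCtx (h.twist φ) := by
  refine ⟨fun b hb => ?_, fun g => ?_⟩
  · rw [h.twist_inv]; exact (hC.sh b hb).image (inv_mem hφ)
  · have e : (h.twist φ).act g = φ⁻¹ * h.act g * φ := MulEquiv.ext fun x => (h.twist φ).emb_inj (by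
      rw [(h.twist φ).emb_act, h.twist_emb, h.twist_emb]
      simp only [MulAut.mul_apply, MulAut.apply_inv_self]
      exact (h.emb_act g (φ x)).symm)
    rw [e]
    exact mul_mem (mul_mem (inv_mem hφ) (hC.typ g)) hφ

/-- A member fixing a point is a member there. -/
theorem member_at {d e : Ω} {x : G} (hi : Invol x) (hat : At a N d x) (he : x • e = e) : At a N e x := by
  rcases eq_or_ne d e with rfl | hde
  · exact hat
  have h1 : x ∈ xo a N d e := Subgroup.subset_closure ⟨hi, hat, he⟩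
  rw [h.xo_sym hC.sh hde] at h1
  exact (xo_at h.pt h1).1

theorem blk_symm {d e : Ω} (hde : d ≠ e) : blk a N d e = blk a N e d := by
  suffices key : ∀ d e : Ω, d ≠ e → blk a N e d ⊆ blk a N d e from
    Set.Subset.antisymm (key e d hde.symm) (key d e hde)
  exact fun d e _ c hc x hi hat he => hc x hi (hC.member_at hi hat he) (h.pt.at_fix hat)

/-- Two points of a block determine it. -/
theorem blk_pair {d e c c' : Ω} (hde : d ≠ e) (hcc : c ≠ c') (hc : c ∈ blk a N d e) (hc' : c' ∈ blk a N d e) :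
    blk a N c c' = blk a N d e := by
  by_cases hdc : d = c
  · subst hdc; exact h.blk_eq hde hcc hc'
  have e1 : blk a N c d = blk a N d e := by rw [hC.blk_symm (Ne.symm hdc), h.blk_eq hde hdc hc]
  rw [← e1] at hc' ⊢
  exact h.blk_eq (Ne.symm hdc) hcc hc'

/-- The block of `a` and `b`: `a` and the points of the same shape. -/
theorem mem_blk_base {b c : Ω} (hb : b ≠ a) (hc : c ≠ a) : c ∈ blk a N a b ↔ h.inv c = h.inv b := by
  constructor
  · intro hcb
    ext x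
    have key : Invol x → (h.emb x • c = c ↔ h.emb x • b = b) := fun hx =>
      h.members_eq hb.symm hc.symm hcb _ ((Invol.map h.emb_inj).mpr hx) (h.pt.at_base.mpr (h.emb_mem x))
    exact ⟨fun hx => ⟨hx.1, (key hx.1).mp hx.2⟩, fun hx => ⟨hx.1, (key hx.1).mpr hx.2⟩⟩
  · intro e x hi hat hxb
    obtain ⟨m, rfl⟩ := h.emb_surj (h.pt.at_base.mp hat)
    exact (e ▸ h.inv_of_emb hi hxb : m ∈ h.inv c).2

omit hC in
theorem fix_iff {c : Ω} {v : V} (hv : h.inv c = invAt v) {m : P3 F} {u f : V} (hm : IsTv m u f) :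
    h.emb m • c = c ↔ f ⬝ᵥ v = 0 := by
  rw [← mem_invAt hm, ← hv]
  exact ⟨fun e => ⟨hm.invol, e⟩, fun e => e.2⟩

theorem inv_move (A : S3L F) {c : Ω} {v : V} (hv : h.inv c = invAt v) :
    h.inv (h.emb (PSLn.mk A) • c) = invAt (A.1 *ᵥ v) := by
  rw [← conj_invAt, ← hv, ← h.act_emb, ← h.inv_conj]

omit hC in
theorem emb_ne {c : Ω} (hc : c ≠ a) (m : P3 F) : h.emb m • c ≠ a := fun e =>
  hc (MulAction.injective (h.emb m) (e.trans (h.emb_fix m).symm))

/-- The second points over the standard point. -/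
theorem exists_std : ∃ b, b ≠ a ∧ h.inv b = invAt (Pi.single 0 1) := by
  obtain ⟨c, hc⟩ := h.pt.exists_ne
  obtain ⟨v, hv, e⟩ := hC.vec hc
  obtain ⟨A, hA⟩ := exists_SL_vec hv
  refine ⟨h.emb (PSLn.mk A⁻¹) • c, emb_ne hc _, ?_⟩
  rw [hC.inv_move A⁻¹ e]
  congr 1
  rw [← hA, mulVec_mulVec, show (A⁻¹).1 * A.1 = 1 from congrArg Subtype.val (inv_mul_cancel A), one_mulVec]

end PCtx

/-- The number of second points over a point of the projective plane. -/
noncomputable def kk (h : Hyp G a N F) : ℕ := Nat.card {c : Ω // c ≠ a ∧ h.inv c = invAt (Pi.single 0 1)}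

namespace PCtx

variable [Finite G] [Finite Ω] [FaithfulSMul G Ω] {h : Hyp G a N F} (hC : PCtx h)
include hC

theorem card_fibre {v : V} (hv : v ≠ 0) : Nat.card {c : Ω // c ≠ a ∧ h.inv c = invAt v} = kk h := by
  obtain ⟨A, rfl⟩ := exists_SL_vec hv
  refine (Nat.card_congr ((MulAction.toPerm (h.emb (PSLn.mk A))).subtypeEquiv fun c => ?_)).symm
  show c ≠ a ∧ _ ↔ h.emb (PSLn.mk A) • c ≠ a ∧ _
  refine and_congr ⟨fun hc => emb_ne hc _, fun hc e => hc (e.symm ▸ h.emb_fix _)⟩ ?_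
  constructor
  · exact fun e => hC.inv_move A e
  · intro e
    have := hC.inv_move A⁻¹ (c := h.emb (PSLn.mk A) • c) e
    rw [mulVec_mulVec, show (A⁻¹).1 * A.1 = 1 from congrArg Subtype.val (inv_mul_cancel A), one_mulVec, map_inv,
      map_inv, inv_smul_smul] at this
    exact this

theorem kk_pos : 0 < kk h := by
  obtain ⟨b, hb, e⟩ := hC.exists_std
  exact Nat.card_pos_iff.mpr ⟨⟨⟨b, hb, e⟩⟩, inferInstance⟩

/-- Second points over a set of vectors. -/
theorem count_pairs (T : Set V) (hT : ∀ (c : F) (v : V), c ≠ 0 → v ∈ T → c • v ∈ T) (h0 : (0 : V) ∉ T) :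
    Nat.card {c : Ω // c ≠ a ∧ ∃ v ∈ T, h.inv c = invAt v} * (Fintype.card F - 1) = Nat.card T * kk h := by
  classical
  haveI := Fintype.ofFinite Ω
  let X := {p : Ω × V // (p.1 ≠ a ∧ h.inv p.1 = invAt p.2) ∧ p.2 ∈ T}
  have e1 : Nat.card X = Nat.card T * kk h := by
    rw [Nat.card_congr (⟨fun p => ⟨⟨p.1.2, p.2.2⟩, p.1.1, p.2.1⟩, fun q => ⟨(q.2.1, q.1.1), q.2.2, q.1.2⟩,
      fun _ => rfl, fun _ => rfl⟩ : X ≃ Σ v : T, {c : Ω // c ≠ a ∧ h.inv c = invAt v.1}), Nat.card_sigma,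
      Finset.sum_congr rfl fun v _ => hC.card_fibre (fun e : v.1 = 0 => h0 (e ▸ v.2)), Finset.sum_const, Finset.card_univ,
      smul_eq_mul, ← Nat.card_eq_fintype_card]
  let Y := {c : Ω // c ≠ a ∧ ∃ v ∈ T, h.inv c = invAt v}
  have hfib : ∀ c : Y, Nat.card {v : V // h.inv c.1 = invAt v ∧ v ∈ T} = Fintype.card F - 1 := by
    rintro ⟨c, hc, v, hv, e⟩
    have hv0 : v ≠ 0 := fun e0 => h0 (e0 ▸ hv)
    rw [← Fintype.card_units, ← Nat.card_eq_fintype_card]
    refine (Nat.card_congr (Equiv.ofBijective (fun u : Fˣ =>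
      (⟨(u : F) • v, by rw [invAt_smul u.ne_zero]; exact e, hT u v u.ne_zero hv⟩ :
        {w : V // h.inv c = invAt w ∧ w ∈ T})) ⟨?_, ?_⟩)).symm
    · intro u u' e1
      exact Units.ext (smul_left_injective F hv0 (congrArg Subtype.val e1))
    · rintro ⟨w, hw, hwT⟩
      obtain ⟨k, hk, rfl⟩ := invAt_inj hv0 (fun e0 => h0 (e0 ▸ hwT)) (e.symm.trans hw)
      exact ⟨Units.mk0 k hk, rfl⟩
  rw [← e1, Nat.card_congr (⟨fun p => ⟨⟨p.1.1, p.2.1.1, p.1.2, p.2.2, p.2.1.2⟩, p.1.2, p.2.1.2, p.2.2⟩,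
    fun q => ⟨(q.1.1, q.2.1), ⟨q.1.2.1, q.2.2.1⟩, q.2.2.2⟩, fun _ => rfl, fun _ => rfl⟩ :
      X ≃ Σ c : Y, {v : V // h.inv c.1 = invAt v ∧ v ∈ T}), Nat.card_sigma,
    Finset.sum_congr rfl fun c _ => hfib c, Finset.sum_const, Finset.card_univ,
    smul_eq_mul, ← Nat.card_eq_fintype_card (α := Y)]

/-- The degree. -/
theorem card_omega : Nat.card Ω = 1 + kk h * (Fintype.card F ^ 2 + Fintype.card F + 1) := by
  classical
  have h1 := hC.count_pairs {v | v ≠ 0} (fun c v hc hv => smul_ne_zero hc hv) (by simp)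
  have e : Nat.card {c : Ω // c ≠ a ∧ ∃ v ∈ ({v | v ≠ 0} : Set V), h.inv c = invAt v} = Nat.card Ω - 1 := by
    rw [← card_ne a]
    exact Nat.card_congr (Equiv.subtypeEquivRight fun c => ⟨fun hc => hc.1, fun hc => ⟨hc, hC.vec hc⟩⟩)
  have hT : Nat.card ({v : V | v ≠ 0} : Set V) = Fintype.card F ^ 3 - 1 := by
    rw [Nat.card_coe_set_eq, show {v : V | v ≠ 0} = ({0} : Set V)ᶜ from rfl, Set.ncard_compl, Set.ncard_singleton,
      Nat.card_eq_fintype_card]
    simp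
  rw [e, hT] at h1
  have hq := Fintype.one_lt_card (α := F)
  have hn : 1 ≤ Nat.card Ω := Nat.one_le_iff_ne_zero.mpr fun e0 => by
    haveI : Nonempty Ω := ⟨a⟩
    exact Nat.card_pos.ne' e0
  have h3 : 1 ≤ Fintype.card F ^ 3 := Nat.one_le_pow _ _ (by omega)
  zify [hn, h3, show 1 ≤ Fintype.card F by omega] at h1 ⊢
  have hne : ((Fintype.card F : ℤ) - 1) ≠ 0 := by omega
  apply mul_left_cancel₀ hne
  linear_combination h1

/-- The size of a plane. -/
theorem card_plane {m : P3 F} {u f : V} (hm : IsTv m u f) :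
    Nat.card {c : Ω // h.emb m • c = c} = 1 + kk h * (Fintype.card F + 1) := by
  classical
  have h1 := hC.count_pairs {v | v ≠ 0 ∧ f ⬝ᵥ v = 0}
    (fun c v hc hv => ⟨smul_ne_zero hc hv.1, by rw [dotProduct_smul, hv.2, smul_zero]⟩) (by simp)
  have hT : Nat.card ({v : V | v ≠ 0 ∧ f ⬝ᵥ v = 0} : Set V) = Fintype.card F ^ 2 - 1 := card_orth hm.axis_ne
  have e : Nat.card {c : Ω // c ≠ a ∧ ∃ v ∈ ({v | v ≠ 0 ∧ f ⬝ᵥ v = 0} : Set V), h.inv c = invAt v} + 1 =
      Nat.card {c : Ω // h.emb m • c = c} := by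
    rw [← Nat.card_unique (α := PUnit.{1}), ← Nat.card_sum]
    refine Nat.card_congr
      { toFun := Sum.elim (fun c => ⟨c.1, ?_⟩) (fun _ => ⟨a, h.emb_fix m⟩)
        invFun := fun c => if hca : c.1 = a then Sum.inr PUnit.unit else Sum.inl ⟨c.1, hca, ?_⟩
        left_inv := fun c => by
          rcases c with c | c
          · simp [c.2.1]
          · simp
        right_inv := fun c => by
          dsimp only
          split_ifs with hca
          · exact Subtype.ext hca.symm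
          · rfl }
    · obtain ⟨v, ⟨-, hfv⟩, e⟩ := c.2.2
      exact (fix_iff e hm).mpr hfv
    · obtain ⟨v, hv, e⟩ := hC.vec hca
      exact ⟨v, ⟨hv, (fix_iff e hm).mp c.2⟩, e⟩
  rw [hT] at h1
  have hq := Fintype.one_lt_card (α := F)
  have h2 : 1 ≤ Fintype.card F ^ 2 := Nat.one_le_pow _ _ (by omega)
  zify [h2, show 1 ≤ Fintype.card F by omega] at h1 e ⊢
  have hne : ((Fintype.card F : ℤ) - 1) ≠ 0 := by omega
  apply mul_left_cancel₀ hne
  linear_combination h1 - ((Fintype.card F : ℤ) - 1) * e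

/-- The members carrying one point to another. -/
theorem card_swap {b : Ω} (hb : b ≠ a) :
    (1 + kk h * (Fintype.card F + 1)) * numW N a b + Fintype.card F ^ 2 =
      Fintype.card F ^ 2 * Fintype.card F ^ 2 := by
  have hm := IsTv.xx (F := F) 0 1 (by decide) one_ne_zero
  set m := PSLn.mk (PSLn.xx (0 : Fin 3) 1 (by decide) (1 : F)) with hmdef
  have hz : h.emb m ∈ cls N := h.pt.mem_cls (h.emb_mem _) ((Invol.map h.emb_inj).mpr hm.invol)
  have hk := h.pt.key hb hz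
  have hP : numP a N (h.emb m) = 1 + kk h * (Fintype.card F + 1) := by
    rw [← hC.card_plane hm]
    refine Nat.card_congr (Equiv.subtypeEquivRight fun c => ⟨fun hc => h.pt.at_fix hc, fun hc => ?_⟩)
    exact hC.member_at ((Invol.map h.emb_inj).mpr hm.invol) (h.pt.at_base.mpr (h.emb_mem _)) hc
  obtain ⟨φ, -, hφ⟩ := hC.sh b hb
  rw [hP, h.numX_eq, h.numI_eq, hφ, Nat.card_image_of_injective φ.injective] at hk
  have h1 := invol_val (F := F)
  have h2 := invP_val (F := F)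
  have hq := Fintype.one_lt_card (α := F)
  zify at hk h1 h2 ⊢
  linear_combination hk + h1 - h2

theorem kk_odd : Odd (kk h) := by
  have h1 := hC.card_omega
  obtain ⟨r, hr⟩ := h.even
  rw [hr] at h1
  rcases Nat.even_or_odd (kk h) with he | ho
  · obtain ⟨s, hs⟩ := he
    rw [hs] at h1
    have : (r + r) = 1 + 2 * (s * (Fintype.card F ^ 2 + Fintype.card F + 1)) := by rw [h1]; ring
    omega
  · exact ho

theorem kk_two (hq : Fintype.card F = 2) : kk h = 1 := by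
  obtain ⟨b, hb⟩ := h.pt.exists_ne
  have h1 := hC.card_swap hb
  rw [hq] at h1
  obtain ⟨s, hs⟩ := hC.kk_odd
  rw [hs] at h1 ⊢
  have hle : s ≤ 1 := by
    by_contra hlt
    push Not at hlt
    have : 1 + (2 * s + 1) * (2 + 1) ∣ 12 := ⟨numW N a b, by omega⟩
    have := Nat.le_of_dvd (by norm_num) this
    omega
  interval_cases s <;> omega

end PCtx

end CfsgLib.PlaneStab
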