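import Cfsg.Agent.Lib.PlaneStab.BPlanes

/-!
Centralisers of the planes, and: an automorphism of the point group centralising a plane and commuting with the torus is
trivial.

Blueprint: `blueprint/S3727.md`, section 5.
-/

set_option autoImplicit false
set_option linter.unusedSectionVars false

namespace CfsgLib.PlaneStab

open Matrix CfsgLib.PSLn CfsgLib.RankOnePoint

variable {F : Type} [Field F] [Fintype F] [CharP F 2]

local notation "V" => (Fin 3 → F)

/-- A type preserving automorphism centralising a plane is conjugation by one of its elements. -/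
theorem aut_fix_A2 {φ : MulAut (P3 F)} (hφ : φ ∈ typ F) (hfix : ∀ x ∈ A2 F, φ x = x) :
    ∃ q ∈ A2 F, MulAut.conj q = φ := by
  obtain ⟨g, e, rfl⟩ := hφ
  have key : ∀ (i : Fin 3) (hi : i ≠ 2) (c : F), g.1 * single i 2 (e c) = single i 2 c * g.1 := by
    intro i hi c
    rcases eq_or_ne c 0 with rfl | hc
    · simp
    refine single_comm_of_eq (hij := hi) (hkl := hi) (hfix _ ?_)
    fin_cases i
    · exact rt02_A2 c
    · exact rt12_A2 c
    · exact absurd rfl hi
  have k0 := key 0 (by decide)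
  have k1 := key 1 (by decide)
  have e0 := k0 1; have e1 := k1 1
  rw [map_one] at e0 e1
  have a10 : g.1 1 0 = 0 := by
    have := congrFun (congrFun e0 1) 2
    simpa [Matrix.mul_apply, Fin.sum_univ_three, Matrix.single_apply] using this
  have a20 : g.1 2 0 = 0 := by
    have := congrFun (congrFun e0 2) 2
    simpa [Matrix.mul_apply, Fin.sum_univ_three, Matrix.single_apply] using this
  have a21 : g.1 2 1 = 0 := by
    have := congrFun (congrFun e1 2) 2
    simpa [Matrix.mul_apply, Fin.sum_univ_three, Matrix.single_apply] using this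
  have a01 : g.1 0 1 = 0 := by
    have := congrFun (congrFun e1 0) 2
    simpa [Matrix.mul_apply, Fin.sum_univ_three, Matrix.single_apply] using this
  have d0 : g.1 0 0 = g.1 2 2 := by
    have := congrFun (congrFun e0 0) 2
    simpa [Matrix.mul_apply, Fin.sum_univ_three, Matrix.single_apply] using this
  have d1 : g.1 1 1 = g.1 2 2 := by
    have := congrFun (congrFun e1 1) 2
    simpa [Matrix.mul_apply, Fin.sum_univ_three, Matrix.single_apply] using this
  have hl : g.1 2 2 ≠ 0 := fun e2 => by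
    apply ((Matrix.isUnit_iff_isUnit_det _).mp g.isUnit).ne_zero
    exact Matrix.det_eq_zero_of_row_eq_zero 2 fun i => by fin_cases i <;> simp [a20, a21, e2]
  have he : e = 1 := RingEquiv.ext fun c => by
    have := congrFun (congrFun (k0 c) 0) 2
    simp [Matrix.mul_apply, Fin.sum_univ_three, Matrix.single_apply, d0] at this
    rw [RingAut.one_apply]
    exact mul_left_cancel₀ hl (by rw [this, mul_comm])
  subst he
  rw [map_one, mul_one]
  set x := g.1 0 2 / g.1 2 2
  set y := g.1 1 2 / g.1 2 2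
  refine ⟨PSLn.mk (PSLn.xx 1 2 (by decide) y * PSLn.xx 0 2 (by decide) x), ?_, ?_⟩
  · rw [map_mul]; exact mul_mem (rt12_A2 y) (rt02_A2 x)
  · rw [← diagAut_toGL]
    have hsc := diagAut_scalar (n := 3) (Units.map (Matrix.scalar (Fin 3)).toMonoidHom (Units.mk0 _ hl)) (g.1 2 2) rfl
    conv_lhs => rw [← mul_one (diagAut _), ← hsc, ← map_mul]
    congr 1
    apply Units.ext
    show ((PSLn.xx 1 2 _ y).1 * (PSLn.xx 0 2 _ x).1) * Matrix.scalar (Fin 3) (g.1 2 2) = g.1
    rw [coe_xx, coe_xx]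
    ext i j
    fin_cases i <;> fin_cases j <;>
      simp [Matrix.mul_apply, Fin.sum_univ_three, Matrix.single_apply, a10, a20, a21, a01, d0, d1, x, y, hl]

/-- An element of the point group centralising the plane of the point lies in it. -/
theorem cent_A1 {m : P3 F} (hm : m ∈ X0P F) (hfix : ∀ x ∈ A1 F, m * x * m⁻¹ = x) : m ∈ A1 F := by
  rw [X0P_eq] at hm
  obtain ⟨A, rfl, hA⟩ := hm
  have key : ∀ (j : Fin 3) (hj : (0 : Fin 3) ≠ j), rt 0 j hj (1 : F) ∈ A1 F →
      (Pi.single j 1 : V) ᵥ* A.1 = Pi.single j 1 := by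
    intro j hj hmem
    have h1 := (IsTv.xx (F := F) 0 j hj one_ne_zero).conj A
    rw [show PSLn.mk (PSLn.xx 0 j hj (1 : F)) = rt 0 j hj 1 from rfl, hfix _ hmem] at h1
    obtain ⟨c, hc, e1, e2⟩ := (IsTv.xx (F := F) 0 j hj one_ne_zero).unique h1
    rw [one_smul, hA] at e1
    have hc1 : c = 1 := by simpa [eq_comm] using congrFun e1 0
    rw [hc1, inv_one, one_smul] at e2
    conv_lhs => rw [← e2]
    rw [vecMul_vecMul, show (A⁻¹).1 * A.1 = 1 from congrArg Subtype.val (inv_mul_cancel A), vecMul_one]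
  have r1 := key 1 (by decide) (rt01_A1 1)
  have r2 := key 2 (by decide) (rt02_A1 1)
  rw [Matrix.single_one_vecMul] at r1 r2
  have e : A = PSLn.xx 0 1 (by decide) (A.1 0 1) * PSLn.xx 0 2 (by decide) (A.1 0 2) := by
    apply Subtype.ext
    show A.1 = (PSLn.xx 0 1 _ _).1 * (PSLn.xx 0 2 _ _).1
    rw [coe_xx, coe_xx]
    have h00 : A.1 0 0 = 1 := by
      have := congrFun hA 0
      rw [Matrix.mulVec_single_one] at this
      simpa using this
    have b1 : ∀ j, A.1 1 j = (Pi.single 1 1 : V) j := fun j => congrFun r1 j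
    have b2 : ∀ j, A.1 2 j = (Pi.single 2 1 : V) j := fun j => congrFun r2 j
    ext i j
    fin_cases i <;> fin_cases j <;> simp [Matrix.mul_apply, Fin.sum_univ_three, Matrix.single_apply, h00, b1, b2]
  rw [e, map_mul]
  exact mul_mem (rt01_A1 _) (rt02_A1 _)

/-- The torus of a point. -/
def tor0 (b : F) (hb : b ≠ 0) : S3L F := ⟨Matrix.diagonal ![1, b, b⁻¹], by
  rw [Matrix.det_diagonal, Fin.prod_univ_three]; simp [hb]⟩

theorem tor0_rt {b : F} (hb : b ≠ 0) {i j : Fin 3} (hij : i ≠ j) (c : F) :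
    PSLn.mk (tor0 b hb) * rt i j hij c * (PSLn.mk (tor0 b hb))⁻¹ =
      rt i j hij (![1, b, b⁻¹] i * c / ![1, b, b⁻¹] j) := by
  rw [rt, rt, mul_inv_eq_iff_eq_mul, ← map_mul, ← map_mul]
  congr 1
  apply Subtype.ext
  show (tor0 b hb).1 * (PSLn.xx i j hij c).1 = (PSLn.xx i j hij _).1 * (tor0 b hb).1
  have hne : ∀ k : Fin 3, (![1, b, b⁻¹] : V) k ≠ 0 := fun k => by fin_cases k <;> simp [hb]
  rw [coe_xx, coe_xx, tor0]
  dsimp only
  rw [Matrix.mul_add, Matrix.add_mul, Matrix.mul_one, Matrix.one_mul]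
  congr 1
  ext k l
  rw [Matrix.diagonal_mul, Matrix.mul_diagonal, Matrix.single_apply, Matrix.single_apply]
  split_ifs with hh
  · rw [← hh.1, ← hh.2, div_mul_cancel₀ _ (hne j)]
  · simp

theorem pl1_apply (a b : F) :
    pl1 F (Multiplicative.ofAdd (a, b)) = rt 0 1 (by decide) a * rt 0 2 (by decide) b := rfl

theorem pl2_apply (a b : F) :
    pl2 F (Multiplicative.ofAdd (a, b)) = rt 1 2 (by decide) a * rt 0 2 (by decide) b := rfl

theorem p_move (x c : F) : rt 1 2 (by decide) x * rt 0 1 (by decide) c * rt 1 2 (by decide) x =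
    rt 0 1 (by decide) c * rt 0 2 (by decide) (c * x) := by
  rw [rt, rt, rt, ← map_mul, ← map_mul, ← map_mul]
  congr 1
  apply Subtype.ext
  show (PSLn.xx 1 2 _ _).1 * (PSLn.xx 0 1 _ _).1 * (PSLn.xx 1 2 _ _).1 = (PSLn.xx 0 1 _ _).1 * (PSLn.xx 0 2 _ _).1
  rw [coe_xx, coe_xx, coe_xx]
  ext i j
  fin_cases i <;> fin_cases j <;>
    simp [Matrix.mul_apply, Fin.sum_univ_three, Matrix.single_apply, mul_comm, CharTwo.add_self_eq_zero]

theorem w_move (a b : F) :
    rt 0 1 (by decide) a * rt 0 2 (by decide) b *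
        (rt 1 2 (by decide) 1 * rt 2 1 (by decide) 1 * rt 1 2 (by decide) 1) =
      (rt 1 2 (by decide) 1 * rt 2 1 (by decide) 1 * rt 1 2 (by decide) 1) *
        (rt 0 1 (by decide) b * rt 0 2 (by decide) a) := by
  rw [rt, rt, rt, rt, rt, rt, ← map_mul, ← map_mul, ← map_mul, ← map_mul, ← map_mul, ← map_mul]
  congr 1
  apply Subtype.ext
  show (PSLn.xx 0 1 _ _).1 * (PSLn.xx 0 2 _ _).1 * ((PSLn.xx 1 2 _ _).1 * (PSLn.xx 2 1 _ _).1 * (PSLn.xx 1 2 _ _).1) =
    ((PSLn.xx 1 2 _ _).1 * (PSLn.xx 2 1 _ _).1 * (PSLn.xx 1 2 _ _).1) * ((PSLn.xx 0 1 _ _).1 * (PSLn.xx 0 2 _ _).1)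
  simp only [coe_xx]
  ext i j
  fin_cases i <;> fin_cases j <;>
    simp [Matrix.mul_apply, Fin.sum_univ_three, Matrix.single_apply, CharTwo.add_self_eq_zero] <;> ring_nf <;>
    simp [CharTwo.two_eq_zero]

theorem h_eq {x : F} (hx : x ≠ 0) :
    rt 1 2 (by decide) x * rt 2 1 (by decide) x⁻¹ * rt 1 2 (by decide) x *
        (rt 1 2 (by decide) 1 * rt 2 1 (by decide) 1 * rt 1 2 (by decide) 1) =
      PSLn.mk (tor0 x hx) := by
  rw [rt, rt, rt, rt, ← map_mul, ← map_mul, ← map_mul, ← map_mul, ← map_mul]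
  congr 1
  apply Subtype.ext
  show (PSLn.xx 1 2 _ _).1 * (PSLn.xx 2 1 _ _).1 * (PSLn.xx 1 2 _ _).1 *
    ((PSLn.xx 1 2 _ _).1 * (PSLn.xx 2 1 _ _).1 * (PSLn.xx 1 2 _ _).1) = (tor0 x hx).1
  simp only [coe_xx, tor0]
  ext i j
  have h2 : (2 : F) = 0 := CharTwo.two_eq_zero
  fin_cases i <;> fin_cases j <;>
    simp [Matrix.mul_apply, Fin.sum_univ_three, Matrix.single_apply, hx, CharTwo.add_self_eq_zero]

theorem r01_move (x a b : F) :
    rt 0 1 (by decide) x * (rt 1 2 (by decide) a * rt 0 2 (by decide) b) * rt 0 1 (by decide) x =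
      rt 1 2 (by decide) a * rt 0 2 (by decide) (b + x * a) := by
  rw [rt, rt, rt, rt, ← map_mul, ← map_mul, ← map_mul, ← map_mul]
  congr 1
  apply Subtype.ext
  show (PSLn.xx 0 1 _ _).1 * ((PSLn.xx 1 2 _ _).1 * (PSLn.xx 0 2 _ _).1) * (PSLn.xx 0 1 _ _).1 =
    (PSLn.xx 1 2 _ _).1 * (PSLn.xx 0 2 _ _).1
  simp only [coe_xx]
  ext i j
  fin_cases i <;> fin_cases j <;>
    simp [Matrix.mul_apply, Fin.sum_univ_three, Matrix.single_apply, CharTwo.add_self_eq_zero]

theorem r21_move (y a b : F) :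
    rt 2 1 (by decide) y * (rt 0 1 (by decide) a * rt 0 2 (by decide) b) * rt 2 1 (by decide) y =
      rt 0 1 (by decide) (a + b * y) * rt 0 2 (by decide) b := by
  rw [rt, rt, rt, rt, ← map_mul, ← map_mul, ← map_mul, ← map_mul]
  congr 1
  apply Subtype.ext
  show (PSLn.xx 2 1 _ _).1 * ((PSLn.xx 0 1 _ _).1 * (PSLn.xx 0 2 _ _).1) * (PSLn.xx 2 1 _ _).1 =
    (PSLn.xx 0 1 _ _).1 * (PSLn.xx 0 2 _ _).1
  simp only [coe_xx]
  ext i j
  fin_cases i <;> fin_cases j <;>
    simp [Matrix.mul_apply, Fin.sum_univ_three, Matrix.single_apply, CharTwo.add_self_eq_zero]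

theorem rt_self (i j : Fin 3) (hij : i ≠ j) (c : F) : rt i j hij c * rt i j hij c = 1 := by
  rw [← rt_add, CharTwo.add_self_eq_zero, rt_zero]

/-- **An endomorphism of the point group centralising a plane and commuting with the torus is trivial.** -/
theorem theta_trivial (θ : X0P F →* P3 F) (hrange : ∀ m, θ m ∈ X0P F)
    (hQ : ∀ m : X0P F, (m : P3 F) ∈ A2 F → θ m = m)
    (htor : ∀ (b : F) (hb : b ≠ 0) (m m' : X0P F),
      (m' : P3 F) = PSLn.mk (tor0 b hb) * m * (PSLn.mk (tor0 b hb))⁻¹ →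
      θ m' = PSLn.mk (tor0 b hb) * θ m * (PSLn.mk (tor0 b hb))⁻¹)
    (hq : 4 ≤ Fintype.card F) (hcube : ∀ l : F, l ^ 3 = 1 → l = 1) (m : X0P F) : θ m = m := by
  classical
  obtain ⟨g, hg, hg1⟩ : ∃ g : F, g ≠ 0 ∧ g ≠ 1 := by
    by_contra hh
    push Not at hh
    have hsub : (Finset.univ : Finset F) ⊆ {0, 1} := fun x _ => by
      by_cases hx : x = 0
      · simp [hx]
      · simp [hh x hx]
    have := Finset.card_le_card hsub
    rw [Finset.card_univ] at this
    have h2 := Finset.card_le_two (a := (0 : F)) (b := 1)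
    omega
  have hg1' : g + 1 ≠ 0 := fun e => hg1 (CharTwo.add_eq_zero.mp e)
  have hg2 : g ^ 2 + g + 1 ≠ 0 := fun e => hg1 (hcube g (by linear_combination (g - 1) * e))
  let r (i j : Fin 3) (hij : i ≠ j) (hj : j ≠ 0) (c : F) : X0P F := ⟨rt i j hij c, rt_invP hij hj c⟩
  have hrsq : ∀ i j hij hj c, θ (r i j hij hj c) * θ (r i j hij hj c) = 1 := fun i j hij hj c => by
    rw [← map_mul, ← map_one θ]; exact congrArg θ (Subtype.ext (rt_self i j hij c))
  have hradd : ∀ i j hij hj (x y : F), θ (r i j hij hj (x + y)) = θ (r i j hij hj x) * θ (r i j hij hj y) :=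
    fun i j hij hj x y => by rw [← map_mul]; exact congrArg θ (Subtype.ext (rt_add i j hij x y))
  have hconj : ∀ i j hij hj (b : F) (hb : b ≠ 0) (c : F),
      θ (r i j hij hj (![1, b, b⁻¹] i * c / ![1, b, b⁻¹] j)) =
        PSLn.mk (tor0 b hb) * θ (r i j hij hj c) * (PSLn.mk (tor0 b hb))⁻¹ := fun i j hij hj b hb c =>
    htor b hb _ _ (tor0_rt hb hij c).symm
  have hbij : ∀ x : F, ∃ y, y ^ 2 = x := fun x =>
    (Finite.injective_iff_surjective.mp (fun a b (e : a ^ 2 = b ^ 2) => by
      have : (a + b) ^ 2 = 0 := by rw [CharTwo.add_sq, e, CharTwo.add_self_eq_zero]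
      exact CharTwo.add_eq_zero.mp (pow_eq_zero_iff (by norm_num) |>.mp this))) x
  -- the root subgroup normalising the plane
  have h01 : ∀ x, θ (r 0 1 (by decide) (by decide) x) = rt 0 1 (by decide) x := by
    have hw : ∀ x, x ≠ 0 → ∃ w : F,
        θ (r 0 1 (by decide) (by decide) x) = rt 0 1 (by decide) x * rt 0 2 (by decide) w := by
      intro x hx
      set t := θ (r 0 1 (by decide) (by decide) x) with ht
      have hti : t⁻¹ = t := inv_eq_of_mul_eq_one_right (hrsq 0 1 (by decide) (by decide) x)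
      have hri : (rt 0 1 (by decide) x : P3 F)⁻¹ = rt 0 1 (by decide) x := inv_eq_of_mul_eq_one_right (rt_self _ _ _ _)
      have hfixy : ∀ y ∈ A2 F, MulAut.conj (rt 0 1 (by decide) x * t) y = y := by
        intro y hy
        have hyX : y ∈ X0P F := by
          rcases eq_or_ne y 1 with rfl | h1
          · exact one_mem _
          · obtain ⟨w, -, -, htv⟩ := mem_A2 hy h1
            exact Subgroup.subset_closure ⟨_, _, htv, by simp⟩
        have hnA : rt 0 1 (by decide) x * y * rt 0 1 (by decide) x ∈ A2 F := by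
          obtain ⟨w, rfl⟩ := hy
          show _ * (rt 1 2 (by decide) _ * rt 0 2 (by decide) _) * _ ∈ _
          rw [r01_move]
          exact mul_mem (rt12_A2 _) (rt02_A2 _)
        have h4 : θ (r 0 1 (by decide) (by decide) x * ⟨y, hyX⟩ * r 0 1 (by decide) (by decide) x) =
            rt 0 1 (by decide) x * y * rt 0 1 (by decide) x :=
          hQ (r 0 1 (by decide) (by decide) x * ⟨y, hyX⟩ * r 0 1 (by decide) (by decide) x) hnA
        rw [map_mul, map_mul, hQ ⟨y, hyX⟩ hy] at h4
        rw [MulAut.conj_apply, _root_.mul_inv_rev, hti, hri]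
        calc rt 0 1 (by decide) x * t * y * (t * rt 0 1 (by decide) x) = rt 0 1 (by decide) x * (t * y * t) * rt 0 1 (by decide) x := by simp only [mul_assoc]
          _ = y := by
            rw [h4]
            simp only [mul_assoc, rt_self, mul_one]
            rw [← mul_assoc, rt_self, one_mul]
      obtain ⟨q, hq2, hqe⟩ := aut_fix_A2 (conj_mem_typ _) hfixy
      have hq : q = rt 0 1 (by decide) x * t := conj_injective hqe
      have htq : t = rt 0 1 (by decide) x * q := by rw [hq, ← mul_assoc, rt_self, one_mul]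
      have hc : rt 0 1 (by decide) x * q = q * rt 0 1 (by decide) x := by
        obtain ⟨w, rfl⟩ := id hq2
        have hq1 : (pl2 F w)⁻¹ = pl2 F w := by
          rw [← map_inv]
          exact congrArg _ (inv_eq_of_mul_eq_one_right (Multiplicative.toAdd.injective
            (Prod.ext (CharTwo.add_self_eq_zero _) (CharTwo.add_self_eq_zero _))))
        calc rt 0 1 (by decide) x * pl2 F w = t := htq.symm
          _ = t⁻¹ := hti.symm
          _ = pl2 F w * rt 0 1 (by decide) x := by rw [htq, _root_.mul_inv_rev, hri, hq1]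
      have hA1 : q ∈ A1 F := (comm_planes (rt01_A1 x) hq2 hc).resolve_left fun e => by
        have := (A2_axis e (IsTv.xx 0 1 (by decide) hx)).2
        simp at this
      obtain ⟨⟨c, d⟩, rfl⟩ : ∃ w, pl1 F (Multiplicative.ofAdd w) = q := by
        obtain ⟨w, rfl⟩ := hA1; exact ⟨Multiplicative.toAdd w, rfl⟩
      refine ⟨d, ?_⟩
      rcases eq_or_ne c 0 with rfl | hc0
      · rw [htq, pl1_apply, rt_zero, one_mul]
      · exfalso
        have hne : ((c, d) : F × F) ≠ 0 := fun e => hc0 (congrArg Prod.fst e)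
        have := (A2_axis hq2 (pl1_tv hne)).2
        simp [hc0] at this
    choose! w hw using hw
    have hinj : ∀ {a a' : F}, rt 0 2 (by decide) a = rt 0 2 (by decide) a' → a = a' := by
      intro a a' e
      have e1 : pl1 F (Multiplicative.ofAdd ((0, a) : F × F)) = pl1 F (Multiplicative.ofAdd ((0, a') : F × F)) := by
        rw [pl1_apply, pl1_apply, e]
      exact congrArg Prod.snd (Multiplicative.ofAdd.injective (pl1_injective e1))
    have hscale : ∀ b, b ≠ 0 → w b⁻¹ = b * w 1 := by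
      intro b hb
      have h1 := hconj 0 1 (by decide) (by decide) b hb 1
      set T := PSLn.mk (tor0 b hb)
      have e0 : (![1, b, b⁻¹] : V) 0 * 1 / ![1, b, b⁻¹] 1 = b⁻¹ := by simp
      rw [e0, hw _ (inv_ne_zero hb), hw _ one_ne_zero,
        show T * (rt 0 1 (by decide) (1 : F) * rt 0 2 (by decide) (w 1)) * T⁻¹ =
          (T * rt 0 1 (by decide) (1 : F) * T⁻¹) * (T * rt 0 2 (by decide) (w 1) * T⁻¹) by group,
        tor0_rt, tor0_rt, e0] at h1
      have h2 := hinj (mul_left_cancel h1)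
      rw [h2]
      simp
      field_simp
    have hw0 : w 1 = 0 := by
      have h1 := hradd 0 1 (by decide) (by decide) g 1
      rw [hw _ hg, hw _ one_ne_zero, hw _ hg1',
        show rt 0 1 (by decide) g * rt 0 2 (by decide) (w g) * (rt 0 1 (by decide) (1 : F) * rt 0 2 (by decide) (w 1)) =
          rt 0 1 (by decide) g * rt 0 1 (by decide) 1 * (rt 0 2 (by decide) (w g) * rt 0 2 (by decide) (w 1)) by
          rw [mul_assoc (rt 0 1 (by decide) g), ← mul_assoc (rt 0 2 (by decide) (w g)), ← rt01_02 1 (w g)]; simp only [mul_assoc],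
        ← rt_add, ← rt_add] at h1
      have h2 := hinj (mul_left_cancel h1)
      have e1 := hscale _ (inv_ne_zero hg)
      have e2 := hscale _ (inv_ne_zero hg1')
      rw [inv_inv] at e1 e2
      rw [e1, e2] at h2
      have hz : (g ^ 2 + g + 1) * w 1 = 0 := by
        field_simp at h2
        have h2' : (2 : F) = 0 := CharTwo.two_eq_zero
        linear_combination h2 + (g ^ 2 + g + 1) * w 1 * h2'
      exact (mul_eq_zero.mp hz).resolve_left hg2
    intro x
    rcases eq_or_ne x 0 with rfl | hx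
    · have e : r 0 1 (by decide) (by decide) 0 = 1 := Subtype.ext (rt_zero _ _ _)
      rw [e, map_one, rt_zero]
    have e1 := hscale _ (inv_ne_zero hx)
    rw [inv_inv, hw0, mul_zero] at e1
    rw [hw x hx, e1, rt_zero, mul_one]
  have hA1 : ∀ y : X0P F, (y : P3 F) ∈ A1 F → θ y = y := by
    rintro ⟨y, hyX⟩ hy
    obtain ⟨w, rfl⟩ := hy
    have e : (⟨pl1 F w, hyX⟩ : X0P F) = r 0 1 (by decide) (by decide) (Multiplicative.toAdd w).1 *
        r 0 2 (by decide) (by decide) (Multiplicative.toAdd w).2 := Subtype.ext rfl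
    rw [e, map_mul, h01, hQ _ (rt02_A2 _)]
    rfl
  have h12 : ∀ x, θ (r 1 2 (by decide) (by decide) x) = rt 1 2 (by decide) x := fun x => hQ _ (rt12_A2 _)
  -- the opposite root subgroup
  have hd : ∀ y, y ≠ 0 → ∃ d : F,
      θ (r 2 1 (by decide) (by decide) y) = rt 2 1 (by decide) y * rt 0 1 (by decide) d := by
    intro y hy
    set t := θ (r 2 1 (by decide) (by decide) y) with ht
    have hti : t⁻¹ = t := inv_eq_of_mul_eq_one_right (hrsq 2 1 (by decide) (by decide) y)
    have hri : (rt 2 1 (by decide) y : P3 F)⁻¹ = rt 2 1 (by decide) y := inv_eq_of_mul_eq_one_right (rt_self _ _ _ _)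
    have hmem : rt 2 1 (by decide) y * t ∈ A1 F := by
      refine cent_A1 (mul_mem (rt_invP _ (by decide) y) (hrange _)) fun z hz => ?_
      have hzX : z ∈ X0P F := by
        rcases eq_or_ne z 1 with rfl | h1
        · exact one_mem _
        · obtain ⟨w, -, -, htv⟩ := mem_A1 hz h1
          exact Subgroup.subset_closure ⟨_, _, htv, by simp⟩
      have hnA : rt 2 1 (by decide) y * z * rt 2 1 (by decide) y ∈ A1 F := by
        obtain ⟨w, rfl⟩ := hz
        show _ * (rt 0 1 (by decide) _ * rt 0 2 (by decide) _) * _ ∈ _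
        rw [r21_move]
        exact mul_mem (rt01_A1 _) (rt02_A1 _)
      have h4 : θ (r 2 1 (by decide) (by decide) y * ⟨z, hzX⟩ * r 2 1 (by decide) (by decide) y) =
          rt 2 1 (by decide) y * z * rt 2 1 (by decide) y :=
        hA1 (r 2 1 (by decide) (by decide) y * ⟨z, hzX⟩ * r 2 1 (by decide) (by decide) y) hnA
      rw [map_mul, map_mul, hA1 ⟨z, hzX⟩ hz] at h4
      rw [_root_.mul_inv_rev, hti, hri]
      calc rt 2 1 (by decide) y * t * z * (t * rt 2 1 (by decide) y) = rt 2 1 (by decide) y * (t * z * t) * rt 2 1 (by decide) y := by simp only [mul_assoc]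
        _ = z := by
          rw [h4]
          simp only [mul_assoc, rt_self, mul_one]
          rw [← mul_assoc, rt_self, one_mul]
    obtain ⟨w, hwe⟩ := hmem
    obtain ⟨⟨a, b⟩, rfl⟩ : ∃ u, Multiplicative.ofAdd u = w := ⟨Multiplicative.toAdd w, rfl⟩
    have htq : t = rt 2 1 (by decide) y * pl1 F (Multiplicative.ofAdd ((a, b) : F × F)) := by
      rw [hwe, ← mul_assoc, rt_self, one_mul]
    have hq1 : pl1 F (Multiplicative.ofAdd ((a, b) : F × F)) * pl1 F (Multiplicative.ofAdd (a, b)) = 1 := by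
      rw [← map_mul, ← ofAdd_add, show ((a, b) : F × F) + (a, b) = 0 from
        Prod.ext (CharTwo.add_self_eq_zero _) (CharTwo.add_self_eq_zero _), ofAdd_zero, map_one]
    have hb : b = 0 := by
      have h5 : rt 2 1 (by decide) y * pl1 F (Multiplicative.ofAdd ((a, b) : F × F)) * rt 2 1 (by decide) y =
          pl1 F (Multiplicative.ofAdd (a, b)) := by
        have h6 := hti
        rw [htq, _root_.mul_inv_rev, hri, inv_eq_of_mul_eq_one_right hq1] at h6
        rw [← h6, mul_assoc, rt_self, mul_one]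
      rw [pl1_apply, r21_move, ← pl1_apply, ← pl1_apply] at h5
      have := congrArg Prod.fst (Multiplicative.ofAdd.injective (pl1_injective h5))
      simpa [hy] using this
    exact ⟨a, by rw [htq, hb, pl1_apply, rt_zero, mul_one]⟩
  choose! d hd using hd
  have hinj : ∀ {a b : F}, rt 0 1 (by decide) a = rt 0 1 (by decide) b → a = b := by
    intro a b e
    have e1 : pl1 F (Multiplicative.ofAdd ((a, 0) : F × F)) = pl1 F (Multiplicative.ofAdd ((b, 0) : F × F)) := by
      rw [pl1_apply, pl1_apply, e]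
    exact congrArg Prod.fst (Multiplicative.ofAdd.injective (pl1_injective e1))
  have hdsc : ∀ b, b ≠ 0 → d (b⁻¹ * b⁻¹) = b⁻¹ * d 1 := by
    intro b hb
    have h1 := hconj 2 1 (by decide) (by decide) b hb 1
    set T := PSLn.mk (tor0 b hb)
    have e0 : (![1, b, b⁻¹] : V) 2 * 1 / ![1, b, b⁻¹] 1 = b⁻¹ * b⁻¹ := by simp [div_eq_mul_inv]
    rw [e0, hd _ (mul_ne_zero (inv_ne_zero hb) (inv_ne_zero hb)), hd _ one_ne_zero,
      show T * (rt 2 1 (by decide) (1 : F) * rt 0 1 (by decide) (d 1)) * T⁻¹ =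
        (T * rt 2 1 (by decide) (1 : F) * T⁻¹) * (T * rt 0 1 (by decide) (d 1) * T⁻¹) by group,
      tor0_rt, tor0_rt, e0] at h1
    rw [hinj (mul_left_cancel h1)]
    simp [div_eq_mul_inv, mul_comm]
  have hd1 : d 1 = 0 := by
    set b := g
    have hbb : b * b ≠ 0 := mul_ne_zero hg hg
    set x := b * b
    have hdx : d x⁻¹ = b⁻¹ * d 1 := by rw [show x⁻¹ = b⁻¹ * b⁻¹ from _root_.mul_inv_rev b b]; exact hdsc b hg
    set W := rt 1 2 (by decide) (1 : F) * rt 2 1 (by decide) 1 * rt 1 2 (by decide) 1 with hW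
    set c := b⁻¹ * d 1
    have hn : ∀ (y : F), y ≠ 0 → θ (r 1 2 (by decide) (by decide) y * r 2 1 (by decide) (by decide) y⁻¹ *
        r 1 2 (by decide) (by decide) y) = rt 1 2 (by decide) y * rt 2 1 (by decide) y⁻¹ * rt 1 2 (by decide) y *
        (rt 0 1 (by decide) (d y⁻¹) * rt 0 2 (by decide) (d y⁻¹ * y)) := by
      intro y hy
      rw [map_mul, map_mul, h12, hd _ (inv_ne_zero hy), ← p_move y (d y⁻¹)]
      calc _ = rt 1 2 (by decide) y * rt 2 1 (by decide) y⁻¹ * (rt 1 2 (by decide) y * rt 1 2 (by decide) y) * rt 0 1 (by decide) (d y⁻¹) * rt 1 2 (by decide) y := by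
            rw [rt_self, mul_one]; simp only [mul_assoc]
        _ = _ := by simp only [mul_assoc]
    -- both sides at the torus element
    set T := PSLn.mk (tor0 x hbb)
    have hTX : T ∈ X0P F := mem_X0P (by funext i; fin_cases i <;> simp [tor0, Matrix.mulVec_diagonal])
    have hTe : (⟨T, hTX⟩ : X0P F) = r 1 2 (by decide) (by decide) x * r 2 1 (by decide) (by decide) x⁻¹ *
        r 1 2 (by decide) (by decide) x * (r 1 2 (by decide) (by decide) 1 * r 2 1 (by decide) (by decide) 1⁻¹ *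
          r 1 2 (by decide) (by decide) 1) := Subtype.ext (by rw [inv_one]; exact (h_eq hbb).symm)
    have hfix : PSLn.mk (tor0 x hbb) * θ ⟨T, hTX⟩ * (PSLn.mk (tor0 x hbb))⁻¹ = θ ⟨T, hTX⟩ := by
      refine (htor x hbb ⟨T, hTX⟩ ⟨T, hTX⟩ ?_).symm
      show T = T * T * T⁻¹
      rw [mul_inv_cancel_right]
    have e := congrArg θ hTe
    rw [map_mul, hn x hbb, hn 1 one_ne_zero, inv_one, mul_one, show d x⁻¹ = c from hdx] at e
    set nx := rt 1 2 (by decide) x * rt 2 1 (by decide) x⁻¹ * rt 1 2 (by decide) x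
    have e2 : θ ⟨T, hTX⟩ = T * (rt 0 1 (by decide) (c * x + d 1) * rt 0 2 (by decide) (c + d 1)) := by
      rw [e]
      calc nx * (rt 0 1 (by decide) c * rt 0 2 (by decide) (c * x)) * (W * (rt 0 1 (by decide) (d 1) * rt 0 2 (by decide) (d 1)))
          = nx * (rt 0 1 (by decide) c * rt 0 2 (by decide) (c * x) * W) * (rt 0 1 (by decide) (d 1) * rt 0 2 (by decide) (d 1)) := by
            simp only [mul_assoc]
        _ = nx * W * ((rt 0 1 (by decide) (c * x) * rt 0 2 (by decide) c) * (rt 0 1 (by decide) (d 1) * rt 0 2 (by decide) (d 1))) := by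
            rw [hW, w_move]; simp only [mul_assoc]
        _ = T * (rt 0 1 (by decide) (c * x + d 1) * rt 0 2 (by decide) (c + d 1)) := by
            rw [h_eq hbb, ← pl1_apply, ← pl1_apply, ← map_mul, ← ofAdd_add, Prod.mk_add_mk, pl1_apply]
    -- an element fixed by the torus has no component in the plane
    rw [e2, show T * (T * (rt 0 1 (by decide) (c * x + d 1) * rt 0 2 (by decide) (c + d 1))) * T⁻¹ =
      T * ((T * rt 0 1 (by decide) (c * x + d 1) * T⁻¹) * (T * rt 0 2 (by decide) (c + d 1) * T⁻¹)) by group,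
      tor0_rt, tor0_rt, ← pl1_apply, ← pl1_apply] at hfix
    have h4 := congrArg Prod.snd (Multiplicative.ofAdd.injective (pl1_injective (mul_left_cancel hfix)))
    simp at h4
    have hx1 : x - 1 ≠ 0 := fun e0 => by
      have h5 : (g + 1) ^ 2 = 0 := by
        linear_combination e0 + (g + 1) * (CharTwo.two_eq_zero : (2 : F) = 0)
      exact hg1' (pow_eq_zero_iff (by norm_num) |>.mp h5)
    have v2 : c + d 1 = 0 := by
      have : (x - 1) * (c + d 1) = 0 := by linear_combination h4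
      exact (mul_eq_zero.mp this).resolve_left hx1
    have : (g + 1) * d 1 = 0 := by
      rw [show c = g⁻¹ * d 1 from rfl] at v2
      have h7 : g * (g⁻¹ * d 1 + d 1) = 0 := by rw [v2, mul_zero]
      rw [mul_add, mul_inv_cancel_left₀ hg] at h7
      linear_combination h7
    exact (mul_eq_zero.mp this).resolve_left hg1'
  have h21 : ∀ y, θ (r 2 1 (by decide) (by decide) y) = rt 2 1 (by decide) y := by
    intro y
    rcases eq_or_ne y 0 with rfl | hy
    · have e : r 2 1 (by decide) (by decide) 0 = 1 := Subtype.ext (rt_zero _ _ _)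
      rw [e, map_one, rt_zero]
    obtain ⟨b, rfl⟩ := hbij y
    have hb : b ≠ 0 := fun e => hy (by rw [e]; simp)
    have := hdsc _ (inv_ne_zero hb)
    rw [inv_inv, hd1, mul_zero, ← pow_two] at this
    rw [hd _ hy, this, rt_zero, mul_one]
  -- generation
  obtain ⟨m, hm⟩ := m
  have hX : m ∈ X0P F := hm
  set E := (θ.eqLocus (X0P F).subtype).map (X0P F).subtype
  rw [X0P_eq] at hm
  obtain ⟨A, rfl, hA⟩ := hm
  obtain ⟨⟨m', hm'⟩, he, e⟩ := Subgroup.mem_map.mp (fix_mem (X := E)
    (fun c => Subgroup.mem_map.mpr ⟨r 0 1 (by decide) (by decide) c, h01 c, rfl⟩)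
    (fun c => Subgroup.mem_map.mpr ⟨r 0 2 (by decide) (by decide) c, hQ _ (rt02_A2 c), rfl⟩)
    (fun c => Subgroup.mem_map.mpr ⟨r 1 2 (by decide) (by decide) c, h12 c, rfl⟩)
    (fun c => Subgroup.mem_map.mpr ⟨r 2 1 (by decide) (by decide) c, h21 c, rfl⟩) hA)
  obtain rfl : m' = PSLn.mk A := e
  exact he

end CfsgLib.PlaneStab
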