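import Cfsg.Agent.Lib.PlaneStab.PPlane

/-!
Blocks of `q` points: the torus is regular on the second points over a point of the projective plane, so `N` is
transitive and `3` does not divide `q - 1`.

Blueprint: `blueprint/S3727.md`, section 5.
-/

set_option autoImplicit false
set_option linter.unusedSectionVars false

namespace CfsgLib.PlaneStab

open Matrix MulAction CfsgLib.PSLn CfsgLib.RankOnePoint

universe u v

variable {F : Type} [Field F] [Fintype F] [CharP F 2]

local notation "V" => (Fin 3 → F)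

/-- The torus of a point of the standard line. -/
def tor1 (l : F) (hl : l ≠ 0) : S3L F := ⟨Matrix.diagonal ![l, 1, l⁻¹], by
  rw [Matrix.det_diagonal, Fin.prod_univ_three]; simp [hl]⟩

variable {G : Type u} {Ω : Type v} [Group G] [MulAction G Ω] {a : Ω} {N : Subgroup G}

namespace PCtx

variable [Finite G] [Finite Ω] [FaithfulSMul G Ω] {h : Hyp G a N F} (hC : PCtx h)
include hC

theorem fix_of_vec {c : Ω} {v : V} (hc : c ≠ a) (hv : v ≠ 0) (e : h.inv c = invAt v) {A : S3L F}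
    (hA : A.1 *ᵥ v = v) : h.emb (PSLn.mk A) • c = c := by
  obtain ⟨C, hCv⟩ := exists_SL_vec hv
  have h0 : (C⁻¹ * A * C).1 *ᵥ Pi.single 0 1 = Pi.single 0 1 := by
    show ((C⁻¹).1 * A.1 * C.1) *ᵥ _ = _
    rw [← mulVec_mulVec, hCv, ← mulVec_mulVec, hA, ← hCv, mulVec_mulVec,
      show (C⁻¹).1 * C.1 = 1 from congrArg Subtype.val (inv_mul_cancel C), one_mulVec]
  have h2 : Subgroup.closure (invAt v) ≤ (stabilizer G c).comap h.emb := by
    rw [Subgroup.closure_le, ← e]
    exact fun x hx => mem_stabilizer_iff.mpr hx.2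
  have h1 := Subgroup.mem_map_of_mem (MulAut.conj (PSLn.mk C)).toMonoidHom (mem_X0P h0)
  rw [X0P, MonoidHom.map_closure] at h1
  have h3 : (MulAut.conj (PSLn.mk C)).toMonoidHom '' invP F = invAt v := by
    show MulAut.conj (PSLn.mk C) '' invP F = _
    rw [invP_eq_at, conj_invAt, hCv]
  rw [h3] at h1
  have h4 := mem_stabilizer_iff.mp (Subgroup.mem_comap.mp (h2 h1))
  have e2 : (MulAut.conj (PSLn.mk C)).toMonoidHom (PSLn.mk (C⁻¹ * A * C)) = PSLn.mk A := by
    show MulAut.conj (PSLn.mk C) _ = _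
    rw [MulAut.conj_apply, map_mul, map_mul, map_inv]; group
  rwa [e2] at h4

theorem exists_over {v : V} (hv : v ≠ 0) : ∃ c, c ≠ a ∧ h.inv c = invAt v := by
  obtain ⟨⟨c, hc⟩⟩ := (Nat.card_pos_iff.mp (show 0 < Nat.card {c : Ω // c ≠ a ∧ h.inv c = invAt v} by
    rw [hC.card_fibre hv]; exact hC.kk_pos)).1
  exact ⟨c, hc⟩

section Reg

variable (hk : kk h + 1 = Fintype.card F) {R : Subgroup (Equiv.Perm (pl h))}
  (hnorm : ∀ g ∈ (rho h).range, ∀ r ∈ R, g * r * g⁻¹ ∈ R) (htr : ∀ x y : pl h, ∃ r ∈ R, r x = y)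
  (hreg : ∀ r ∈ R, ∀ x : pl h, r x = x → r = 1) (hsq : ∀ r ∈ R, r * r = 1)
include hk hnorm htr hreg hsq

/-- **The torus is regular over a point.** -/
theorem tor_free {l : F} (hl : l ≠ 0) {b : Ω} (hb : b ≠ a) (hb0 : h.inv b = invAt (Pi.single 0 1))
    (hfix : h.emb (PSLn.mk (tor1 l hl)) • b = b) : l = 1 := by
  classical
  obtain ⟨c₂, hc₂, hc₂1⟩ := hC.exists_over (v := (Pi.single 1 1 : V)) (by simp)
  have hc₂p : c₂ ∈ pl h := (hC.mem_pl hc₂1).mpr (by simp)
  have hxL : ∀ x : F, x ≠ 0 → rt 0 1 (by decide) x ∈ invL F := fun x hx =>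
    ⟨_, _, IsTv.xx 0 1 (by decide) hx, by simp⟩
  have hxg : ∀ x : F, h.emb (rt 0 1 (by decide) x) ∈ gpl h := fun x => by
    rcases eq_or_ne x 0 with rfl | hx
    · rw [rt_zero, map_one]; exact one_mem _
    · exact (hC.invL_pres (rt_invol hx)).mpr (hxL x hx)
  set u : F → Equiv.Perm (pl h) := fun x => rho h ⟨_, hxg x⟩ with hudef
  have huR : ∀ x, ∀ r ∈ R, u x * r * (u x)⁻¹ ∈ R := fun x => hnorm _ ⟨_, rfl⟩
  have hu2 : ∀ x, u x * u x = 1 := fun x => by
    rw [hudef, ← map_mul, ← map_one (rho h)]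
    refine congrArg _ (Subtype.ext ?_)
    show h.emb _ * h.emb _ = 1
    rw [← map_mul, ← rt_add, CharTwo.add_self_eq_zero, rt_zero, map_one]
  have hui : ∀ x, (u x)⁻¹ = u x := fun x => inv_eq_of_mul_eq_one_right (hu2 x)
  have huadd : ∀ x y, u (x + y) = u x * u y := fun x y => by
    rw [hudef, ← map_mul]
    refine congrArg _ (Subtype.ext ?_)
    show h.emb _ = h.emb _ * h.emb _
    rw [← map_mul, rt_add]
  set a' : pl h := ⟨a, self_pl h⟩
  have hua : ∀ x, u x a' = a' := fun x => Subtype.ext (h.emb_fix _)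
  obtain ⟨r₂, hr₂, hr₂a⟩ := htr a' ⟨c₂, hc₂p⟩
  have hcomm : ∀ r ∈ R, ∀ s ∈ R, r * s = s * r := by
    intro r hr s hs
    calc r * s = r * s * (s * r * (s * r)) := by rw [hsq _ (mul_mem hs hr), mul_one]
      _ = r * (s * s) * r * s * r := by group
      _ = s * r := by rw [hsq s hs, mul_one, hsq r hr, one_mul]
  set δ : F → Equiv.Perm (pl h) := fun x => u x * r₂ * u x * r₂ with hδ
  have hδR : ∀ x, δ x ∈ R := fun x => by
    have := huR x r₂ hr₂
    rw [hui] at this
    exact mul_mem this hr₂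
  -- regular elements are determined by the image of `a`
  have hdet : ∀ r ∈ R, ∀ s ∈ R, r a' = s a' → r = s := fun r hr s hs e => by
    have := hreg (s⁻¹ * r) (mul_mem (inv_mem hs) hr) a'
      (by rw [Equiv.Perm.mul_apply, e]; exact Equiv.symm_apply_apply _ _)
    exact (inv_mul_eq_one.mp this).symm
  have hδfix : ∀ x, u x * δ x * u x = δ x := fun x => by
    have h1 : u x * r₂ * u x ∈ R := by have := huR x r₂ hr₂; rwa [hui] at this
    calc u x * δ x * u x = (u x * u x) * r₂ * (u x * r₂ * u x) := by rw [hδ]; group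
      _ = δ x := by rw [hu2, one_mul, hcomm _ hr₂ _ h1]
  have hover : ∀ x, x ≠ 0 → ((δ x a' : pl h) : Ω) = a ∨
      (((δ x a' : pl h) : Ω) ≠ a ∧ h.inv (δ x a' : pl h) = h.inv b) := by
    intro x hx
    by_cases hca : ((δ x a' : pl h) : Ω) = a
    · exact Or.inl hca
    have e1 : u x (δ x a') = δ x a' := by
      calc u x (δ x a') = (u x * δ x * u x) a' := by
            show u x (δ x a') = u x (δ x (u x a'))
            rw [hua]
        _ = δ x a' := by rw [hδfix x]
    obtain ⟨v, hv, e⟩ := hC.vec hca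
    have h2 := (hC.mem_pl e).mp (δ x a').2
    have h1 : v 1 = 0 := by
      simpa using (fix_iff e (IsTv.xx (F := F) 0 1 (by decide) hx)).mp (congrArg Subtype.val e1)
    have h0 : v 0 ≠ 0 := fun e0 => hv (funext fun i => by fin_cases i <;> simp [e0, h1, h2])
    refine Or.inr ⟨hca, ?_⟩
    rw [hb0, e, show v = v 0 • (Pi.single 0 1 : V) from funext fun i => by fin_cases i <;> simp [h1, h2],
      invAt_smul h0]
  have hufix : ∀ x y, u x (δ y a') = δ y a' := by
    intro x y
    rcases eq_or_ne y 0 with rfl | hy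
    · have h0 : δ 0 = 1 := by
        have : u 0 = 1 := by
          have := huadd 0 0
          rwa [add_zero, left_eq_mul] at this
        rw [hδ]; simp only [this, one_mul, mul_one]; exact hsq r₂ hr₂
      rw [h0, Equiv.Perm.one_apply, hua]
    apply Subtype.ext
    rcases eq_or_ne x 0 with rfl | hx
    · show h.emb (rt 0 1 _ (0 : F)) • ((δ y a' : pl h) : Ω) = _
      rw [rt_zero, map_one, one_smul]
    rcases hover y hy with e | ⟨hne, e⟩
    · show h.emb _ • ((δ y a' : pl h) : Ω) = _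
      rw [e, h.emb_fix]
    · exact (fix_iff (e.trans hb0) (IsTv.xx (F := F) 0 1 (by decide) hx)).mpr (by simp)
  have hδadd : ∀ x y, δ (x + y) = δ x * δ y := by
    intro x y
    have hxy : u x * δ y * u x = δ y := by
      have h1 : u x * δ y * u x ∈ R := by have := huR x _ (hδR y); rwa [hui] at this
      exact hdet _ h1 _ (hδR y) (by rw [Equiv.Perm.mul_apply, Equiv.Perm.mul_apply, hua, hufix])
    have e : δ (x + y) = (u x * δ y * u x) * δ x := by
      have hr : r₂ * r₂ = 1 := hsq r₂ hr₂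
      calc δ (x + y) = u x * (u y * r₂ * u y) * u x * r₂ := by
            rw [hδ]; dsimp only
            conv_lhs => arg 1; arg 2; rw [add_comm, huadd]
            rw [huadd]; simp only [mul_assoc]
        _ = u x * (δ y * r₂) * u x * r₂ := by
            congr 3
            rw [hδ]; simp only [mul_assoc, hr, mul_one]
        _ = (u x * δ y * u x) * δ x := by
            rw [hδ]; dsimp only
            calc _ = u x * (u y * r₂ * u y * r₂) * 1 * r₂ * u x * r₂ := by rw [mul_one]; simp only [mul_assoc]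
              _ = _ := by rw [← hu2 x]; simp only [mul_assoc]
    rw [e, hxy, hcomm _ (hδR y) _ (hδR x)]
  have hδinj : Function.Injective δ := by
    intro x y e
    by_contra hne
    have hxy : x + y ≠ 0 := fun e0 => hne (CharTwo.add_eq_zero.mp e0)
    have h1 : δ (x + y) = 1 := by rw [hδadd, e, hsq _ (hδR y)]
    have h2 : u (x + y) * r₂ * u (x + y) = r₂ := by
      have e2 := mul_eq_one_iff_eq_inv.mp h1
      rwa [inv_eq_of_mul_eq_one_right (hsq r₂ hr₂)] at e2
    have h3 : u (x + y) ⟨c₂, hc₂p⟩ = ⟨c₂, hc₂p⟩ := by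
      conv_rhs => rw [← hr₂a, ← h2]
      rw [Equiv.Perm.mul_apply, Equiv.Perm.mul_apply, hua, hr₂a]
    have := (fix_iff hc₂1 (IsTv.xx (F := F) 0 1 (by decide) hxy)).mp (congrArg Subtype.val h3)
    simp at this
  -- every point over the standard point is reached
  have hsurj : ∃ x : F, x ≠ 0 ∧ ((δ x a' : pl h) : Ω) = b := by
    have hδ0 : ∀ x, x ≠ 0 → ((δ x a' : pl h) : Ω) ≠ a := by
      intro x hx e
      have h1 : δ x = 1 := hdet _ (hδR x) _ (one_mem R) (Subtype.ext e)
      have h0 : δ 0 = 1 := by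
        have := hδadd 0 0
        rwa [add_zero, left_eq_mul] at this
      exact hx (hδinj (h1.trans h0.symm))
    let φ : {x : F // x ≠ 0} → {c : Ω // c ≠ a ∧ h.inv c = invAt (Pi.single 0 1)} := fun x =>
      ⟨((δ x.1 a' : pl h) : Ω), hδ0 x.1 x.2,
        (((hover x.1 x.2).resolve_left (hδ0 x.1 x.2)).2).trans hb0⟩
    have hinj : Function.Injective φ := fun x y e => Subtype.ext
      (hδinj (hdet _ (hδR _) _ (hδR _) (Subtype.ext (congrArg Subtype.val e :))))
    have hcard : Nat.card {c : Ω // c ≠ a ∧ h.inv c = invAt (Pi.single 0 1)} = Nat.card {x : F // x ≠ 0} := by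
      show kk h = _
      rw [Nat.card_congr unitsEquivNeZero.symm, Nat.card_eq_fintype_card, Fintype.card_units]
      omega
    obtain ⟨x, hx⟩ := (hinj.bijective_of_nat_card_le hcard.le).2 ⟨b, hb, hb0⟩
    exact ⟨x.1, x.2, congrArg Subtype.val hx⟩
  obtain ⟨x, hx, hxb⟩ := hsurj
  -- the torus element
  set m := PSLn.mk (tor1 l hl)
  have hmg : h.emb m ∈ gpl h := by
    intro c
    by_cases hca : c = a
    · rw [hca, h.emb_fix]
    obtain ⟨v, -, e⟩ := hC.vec hca
    rw [hC.mem_pl e, hC.mem_pl (hC.inv_move (tor1 l hl) e)]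
    simp [tor1, Matrix.mulVec_diagonal, hl]
  have hmc : h.emb m • c₂ = c₂ := hC.fix_of_vec hc₂ (by simp) hc₂1 (by
    funext i; fin_cases i <;> simp [tor1, Matrix.mulVec_diagonal])
  have hconj : m * rt 0 1 (by decide) x * m⁻¹ = rt 0 1 (by decide) (l * x) := by
    rw [rt, rt, ← map_inv, ← map_mul, ← map_mul]
    congr 1
    rw [mul_inv_eq_iff_eq_mul]
    apply Subtype.ext
    show (tor1 l hl).1 * (PSLn.xx 0 1 _ _).1 = (PSLn.xx 0 1 _ _).1 * (tor1 l hl).1
    rw [coe_xx, coe_xx]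
    ext i j
    fin_cases i <;> fin_cases j <;>
      simp [tor1, Matrix.mul_apply, Fin.sum_univ_three, Matrix.single_apply, Matrix.diagonal] <;> ring
  set M := rho h ⟨_, hmg⟩
  have hMu : M * u x * M⁻¹ = u (l * x) := by
    rw [← map_inv, hudef, ← map_mul, ← map_mul]
    refine congrArg _ (Subtype.ext ?_)
    show h.emb m * h.emb _ * (h.emb m)⁻¹ = h.emb _
    rw [← map_inv, ← map_mul, ← map_mul, hconj]
  have hMr : M * r₂ * M⁻¹ = r₂ := by
    refine hdet _ (hnorm M ⟨_, rfl⟩ r₂ hr₂) _ hr₂ ?_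
    rw [Equiv.Perm.mul_apply, Equiv.Perm.mul_apply,
      show M⁻¹ a' = a' from by rw [Equiv.Perm.inv_eq_iff_eq]; exact Subtype.ext (h.emb_fix m).symm, hr₂a]
    exact Subtype.ext hmc
  have hMδ : M * δ x * M⁻¹ = δ (l * x) := by
    calc M * δ x * M⁻¹ = (M * u x * M⁻¹) * (M * r₂ * M⁻¹) * (M * u x * M⁻¹) * (M * r₂ * M⁻¹) := by rw [hδ]; group
      _ = δ (l * x) := by rw [hMu, hMr]
  have hfx : δ (l * x) = δ x := hdet _ (hδR _) _ (hδR _) (Subtype.ext (by
    rw [← hMδ, Equiv.Perm.mul_apply, Equiv.Perm.mul_apply,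
      show M⁻¹ a' = a' from by rw [Equiv.Perm.inv_eq_iff_eq]; exact Subtype.ext (h.emb_fix m).symm]
    show h.emb m • ((δ x a' : pl h) : Ω) = _
    rw [hxb]; exact hfix))
  exact (mul_eq_right₀ hx).mp (hδinj hfx)

/-- No element of order three in the multiplicative group. -/
theorem no_cube {l : F} (hl : l ^ 3 = 1) : l = 1 := by
  have hl0 : l ≠ 0 := fun e => by rw [e] at hl; simp at hl
  obtain ⟨b, hb, hb0⟩ := hC.exists_std
  refine hC.tor_free hk hnorm htr hreg hsq hl0 hb hb0 ?_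
  let B : S3L F := ⟨Matrix.diagonal ![1, l⁻¹, l⁻¹ * l⁻¹], by
    rw [Matrix.det_diagonal, Fin.prod_univ_three]
    simp only [Matrix.cons_val_zero, Matrix.cons_val_one, Matrix.cons_val, one_mul]
    field_simp
    rw [← hl]⟩
  have e : PSLn.mk (tor1 l hl0) = PSLn.mk B := by
    refine QuotientGroup.eq.mpr (Matrix.SpecialLinearGroup.mem_center_iff.mpr ⟨l⁻¹, ?_, ?_⟩)
    · rw [Fintype.card_fin, inv_pow, hl, inv_one]
    · rw [eq_comm]
      show ((tor1 l hl0)⁻¹).1 * B.1 = Matrix.scalar (Fin 3) l⁻¹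
      have hinv : ((tor1 l hl0)⁻¹).1 = Matrix.diagonal ![l⁻¹, 1, l] := by
        refine congrArg Subtype.val (inv_eq_of_mul_eq_one_right (a := tor1 l hl0)
          (b := ⟨Matrix.diagonal ![l⁻¹, 1, l], by rw [Matrix.det_diagonal, Fin.prod_univ_three]; simp [hl0]⟩) ?_)
        apply Subtype.ext
        show Matrix.diagonal _ * Matrix.diagonal _ = 1
        rw [Matrix.diagonal_mul_diagonal, ← Matrix.diagonal_one]
        congr 1; funext i; fin_cases i <;> simp [hl0]
      rw [hinv]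
      show Matrix.diagonal _ * Matrix.diagonal _ = _
      rw [Matrix.diagonal_mul_diagonal, Matrix.scalar_apply]
      congr 1; funext i; fin_cases i <;> simp [hl0]
  rw [e]
  refine hC.fix_of_vec hb (by simp) hb0 ?_
  funext i; fin_cases i <;> simp [B, Matrix.mulVec_diagonal]

/-- **`N` is transitive on the second points.** -/
theorem trans_N {x y : Ω} (hx : x ≠ a) (hy : y ≠ a) : ∃ g ∈ N, g • x = y := by
  classical
  obtain ⟨b, hb, hb0⟩ := hC.exists_std
  suffices key : ∀ c, c ≠ a → ∃ g ∈ N, g • b = c by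
    obtain ⟨g, hg, e⟩ := key x hx
    obtain ⟨g', hg', e'⟩ := key y hy
    exact ⟨g' * g⁻¹, mul_mem hg' (inv_mem hg), by rw [mul_smul, inv_smul_eq_iff.mpr e.symm, e']⟩
  intro c hc
  obtain ⟨v, hv, e⟩ := hC.vec hc
  obtain ⟨A, hA⟩ := exists_SL_vec hv
  let φ : Fˣ → {c : Ω // c ≠ a ∧ h.inv c = invAt (Pi.single 0 1)} := fun l =>
    ⟨h.emb (PSLn.mk (tor1 (l : F) l.ne_zero)) • b, emb_ne hb _, by
      rw [hC.inv_move _ hb0, show (tor1 (l : F) l.ne_zero).1 *ᵥ Pi.single 0 1 = (l : F) • (Pi.single 0 1 : V) from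
        funext fun i => by fin_cases i <;> simp [tor1, Matrix.mulVec_diagonal]]
      exact invAt_smul l.ne_zero⟩
  have hinj : Function.Injective φ := by
    intro l l' e1
    have e2 : h.emb (PSLn.mk (tor1 (l : F) l.ne_zero)) • b = h.emb (PSLn.mk (tor1 (l' : F) l'.ne_zero)) • b :=
      congrArg Subtype.val e1
    rw [← inv_smul_eq_iff, ← mul_smul, ← map_inv, ← map_mul, ← map_inv, ← map_mul] at e2
    have e3 : (tor1 (l' : F) l'.ne_zero)⁻¹ * tor1 (l : F) l.ne_zero =
        tor1 ((l'⁻¹ * l : Fˣ) : F) (l'⁻¹ * l).ne_zero := by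
      rw [inv_mul_eq_iff_eq_mul]
      apply Subtype.ext
      show Matrix.diagonal _ = Matrix.diagonal _ * Matrix.diagonal _
      rw [Matrix.diagonal_mul_diagonal]
      congr 1; funext i; fin_cases i <;> simp [mul_comm, mul_left_comm, l'.ne_zero]
    rw [e3] at e2
    have := hC.tor_free hk hnorm htr hreg hsq (l'⁻¹ * l).ne_zero hb hb0 e2
    exact (inv_mul_eq_one.mp (Units.ext this)).symm
  have hcard : Nat.card {c : Ω // c ≠ a ∧ h.inv c = invAt (Pi.single 0 1)} ≤ Nat.card Fˣ := by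
    show kk h ≤ _
    rw [Nat.card_eq_fintype_card, Fintype.card_units]
    omega
  have hc' : h.inv (h.emb (PSLn.mk A⁻¹) • c) = invAt (Pi.single 0 1) := by
    rw [hC.inv_move A⁻¹ e, ← hA, mulVec_mulVec,
      show (A⁻¹).1 * A.1 = 1 from congrArg Subtype.val (inv_mul_cancel A), one_mulVec]
  obtain ⟨l, hl⟩ := (hinj.bijective_of_nat_card_le hcard).2 ⟨_, emb_ne hc _, hc'⟩
  refine ⟨h.emb (PSLn.mk A * PSLn.mk (tor1 (l : F) l.ne_zero)), h.emb_mem _, ?_⟩
  have hl' : h.emb (PSLn.mk (tor1 (l : F) l.ne_zero)) • b = h.emb (PSLn.mk A⁻¹) • c := congrArg Subtype.val hl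
  rw [map_mul, mul_smul, hl', map_inv, map_inv, smul_inv_smul]

/-- The exponent of two is odd. -/
theorem n_odd {n : ℕ} (hn : Fintype.card F = 2 ^ n) : Odd n := by
  classical
  by_contra hev
  rw [Nat.not_odd_iff_even] at hev
  obtain ⟨m, rfl⟩ := hev
  have h3 : 3 ∣ Nat.card Fˣ := by
    rw [Nat.card_eq_fintype_card, Fintype.card_units, hn, ← two_mul, pow_mul]
    have h1 := Nat.sub_dvd_pow_sub_pow 4 1 m
    simpa using h1
  haveI : Fact (Nat.Prime 3) := ⟨by norm_num⟩
  obtain ⟨w, hw⟩ := exists_prime_orderOf_dvd_card' 3 h3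
  have h1 : (w : F) ^ 3 = 1 := by rw [← Units.val_pow_eq_pow_val, ← hw, pow_orderOf_eq_one, Units.val_one]
  have := hC.no_cube hk hnorm htr hreg hsq h1
  rw [show w = 1 from Units.ext this, orderOf_one] at hw
  omega

end Reg

end PCtx

end CfsgLib.PlaneStab
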