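import Cfsg.Agent.Lib.PlaneStab.PBase
import Cfsg.Agent.Lib.LocalCT.NearMember
import Cfsg.Agent.S2208

/-!
The group of a plane: `S2208` gives six points, or a regular normal elementary abelian subgroup and blocks of `q` points.

Blueprint: `blueprint/S3727.md`, section 5.
-/

set_option autoImplicit false
set_option linter.unusedSectionVars false

namespace CfsgLib.PlaneStab

open Matrix MulAction CfsgLib.PSLn CfsgLib.RankOnePoint

universe u v

variable {F : Type} [Field F] [Fintype F] [CharP F 2]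

local notation "V" => (Fin 3 → F)

/-- The matrix of `SL₂` acting on the standard line. -/
def blk2 : Matrix.SpecialLinearGroup (Fin 2) F →* S3L F :=
  MonoidHom.mk' (fun B => ⟨!![B.1 0 0, B.1 0 1, 0; B.1 1 0, B.1 1 1, 0; 0, 0, 1], by
      have := B.2
      rw [Matrix.det_fin_two] at this
      simp [Matrix.det_fin_three]
      linear_combination this⟩) fun B C => Subtype.ext (by
    show _ = (_ : Matrix (Fin 3) (Fin 3) F) * _
    ext i j
    fin_cases i <;> fin_cases j <;> simp [Matrix.mul_apply, Fin.sum_univ_three, Fin.sum_univ_two])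

theorem blk2_coe (B : Matrix.SpecialLinearGroup (Fin 2) F) :
    (blk2 B).1 = !![B.1 0 0, B.1 0 1, 0; B.1 1 0, B.1 1 1, 0; 0, 0, 1] := rfl

theorem mem_closure_invL {A : S3L F} (hA : (Pi.single 2 1 : V) ᵥ* A.1 = Pi.single 2 1) :
    PSLn.mk A ∈ Subgroup.closure (invL F) := by
  have hd : Subgroup.closure (invL F) = (X0P F).map (dual F).toMonoidHom := by
    rw [X0P, MonoidHom.map_closure, ← dual_P]; rfl
  rw [hd]
  have hsur : ∃ y, dual F y = PSLn.mk A := ⟨(dual F).symm (PSLn.mk A), (dual F).apply_symm_apply _⟩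
  obtain ⟨y, hy⟩ := hsur
  refine ⟨y, ?_, hy⟩
  -- the preimage fixes the standard vector
  have hinv : y = (graphAut : MulAut (P3 F)) ((diagAut (rev F))⁻¹ (PSLn.mk A)) := by
    rw [← hy, dual, MulAut.mul_apply, MulAut.inv_apply_self, ← MulAut.mul_apply, graphAut_mul_self, MulAut.one_apply]
  rw [hinv, ← map_inv, diagAut_mk, graphAut_mk]
  apply mem_X0P
  rw [coe_graphSL]
  set B := (conjSL (rev F)⁻¹) A with hB
  have h0 : (Pi.single 0 1 : V) ᵥ* B.1 = Pi.single 0 1 := by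
    rw [hB, coe_conjSL, inv_inv, ← vecMul_vecMul, ← vecMul_vecMul]
    have e1 : (Pi.single 0 1 : V) ᵥ* ((rev F)⁻¹).1 = Pi.single 2 1 := by
      funext i; fin_cases i <;> simp [rev, Matrix.single_one_vecMul]
    rw [e1, hA]
    funext i; fin_cases i <;> simp [rev, Matrix.single_one_vecMul]
  have h1 : (Pi.single 0 1 : V) ᵥ* (B⁻¹).1 = Pi.single 0 1 := by
    conv_lhs => rw [← h0]
    rw [vecMul_vecMul, show B.1 * (B⁻¹).1 = 1 from congrArg Subtype.val (mul_inv_cancel B), vecMul_one]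
  rw [mulVec_transpose, h1]

/-- A matrix fixing the standard covector is a matrix of `SL₂` times an element of the plane. -/
theorem split_line {A : S3L F} (hA : (Pi.single 2 1 : V) ᵥ* A.1 = Pi.single 2 1) :
    ∃ (B : Matrix.SpecialLinearGroup (Fin 2) F) (q : P3 F), q ∈ A2 F ∧ PSLn.mk A = PSLn.mk (blk2 B) * q := by
  rw [Matrix.single_one_vecMul] at hA
  have a20 : A.1 2 0 = 0 := by simpa using congrFun hA 0
  have a21 : A.1 2 1 = 0 := by simpa using congrFun hA 1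
  have a22 : A.1 2 2 = 1 := by simpa using congrFun hA 2
  have hd : A.1 0 0 * A.1 1 1 - A.1 0 1 * A.1 1 0 = 1 := by
    have := A.2
    rw [Matrix.det_fin_three, a20, a21, a22] at this
    linear_combination this
  set B : Matrix.SpecialLinearGroup (Fin 2) F :=
    ⟨!![A.1 0 0, A.1 0 1; A.1 1 0, A.1 1 1], by rw [Matrix.det_fin_two_of]; exact hd⟩
  refine ⟨B, PSLn.mk ((blk2 B)⁻¹ * A), ?_, by rw [← map_mul, mul_inv_cancel_left]⟩
  set w0 := A.1 1 1 * A.1 0 2 - A.1 0 1 * A.1 1 2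
  set w1 := A.1 0 0 * A.1 1 2 - A.1 1 0 * A.1 0 2
  have he : (blk2 B)⁻¹ * A = PSLn.xx 1 2 (by decide) w1 * PSLn.xx 0 2 (by decide) w0 := by
    rw [inv_mul_eq_iff_eq_mul]
    apply Subtype.ext
    show A.1 = (blk2 B).1 * ((PSLn.xx 1 2 _ _).1 * (PSLn.xx 0 2 _ _).1)
    rw [blk2_coe, coe_xx, coe_xx]
    ext i j
    fin_cases i <;> fin_cases j <;>
      simp [B, Matrix.mul_apply, Fin.sum_univ_three, Matrix.single_apply, a20, a21, a22, w0, w1]
    · linear_combination -(A.1 0 2) * hd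
    · linear_combination -(A.1 1 2) * hd
  rw [he, map_mul]
  exact mul_mem (rt12_A2 _) (rt02_A2 _)

theorem arith_K {q f k j e n : ℕ} (hq : q = 2 ^ n) (hn : 2 ≤ n) (hk : k + 1 = 2 ^ j) (hk0 : 0 < k)
    (hf : f = 2 ^ e) (hfk : f = 1 + k * (q + 1)) : k + 1 = q := by
  subst hq hf
  have hj : 1 ≤ j := by
    by_contra h
    rw [Nat.not_le, Nat.lt_one_iff] at h
    subst h
    simp at hk
    omega
  have hodd : ∀ m i : ℕ, Odd m → m ∣ 2 ^ i → m = 1 := fun m i hm hd => by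
    obtain ⟨l, -, rfl⟩ := (Nat.dvd_prime_pow Nat.prime_two).mp hd
    rcases Nat.eq_zero_or_pos l with rfl | hl
    · rfl
    · exact absurd (Nat.even_pow.mpr ⟨even_two, hl.ne'⟩) (Nat.not_even_iff_odd.mpr hm)
  rcases lt_trichotomy j n with hlt | rfl | hgt
  · exfalso
    obtain ⟨d, rfl⟩ := Nat.exists_eq_add_of_lt hlt
    set P := 2 ^ (j + d + 1) + 1 - 2 ^ (d + 1) with hP
    have h2 : 2 ^ (d + 1) * 2 ≤ 2 ^ (j + d + 1) := by
      rw [← pow_succ]; exact Nat.pow_le_pow_right (by norm_num) (by omega)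
    have hd1 : 2 ≤ 2 ^ (d + 1) := Nat.le_self_pow (by omega) 2
    have hev : Even (2 ^ (j + d + 1)) ∧ Even (2 ^ (d + 1)) :=
      ⟨Nat.even_pow.mpr ⟨even_two, by omega⟩, Nat.even_pow.mpr ⟨even_two, by omega⟩⟩
    have hPo : Odd P := by
      obtain ⟨⟨r, hr⟩, s, hs⟩ := hev
      exact ⟨r - s, by omega⟩
    have hmul : 2 ^ j * P = 2 ^ e := by
      have : 2 ^ j * 2 ^ (d + 1) = 2 ^ (j + d + 1) := by rw [← pow_add]; rfl
      rw [hP, Nat.mul_sub, mul_add, mul_one, this, hfk, ← hk]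
      have : (k + 1) * 2 ^ (j + d + 1) + (k + 1) = 1 + k * (2 ^ (j + d + 1) + 1) + 2 ^ (j + d + 1) := by ring
      omega
    have := hodd P e hPo (Dvd.intro_left _ hmul)
    omega
  · exact hk
  · exfalso
    obtain ⟨d, rfl⟩ := Nat.exists_eq_add_of_lt hgt
    set P := (2 ^ n + 1) * 2 ^ (d + 1) - 1 with hP
    have hd1 : 2 ≤ 2 ^ (d + 1) := Nat.le_self_pow (by omega) 2
    have hn1 : 4 ≤ 2 ^ n := (show (4 : ℕ) = 2 ^ 2 by norm_num) ▸ Nat.pow_le_pow_right (by norm_num) hn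
    have h3 : 2 * 2 ≤ (2 ^ n + 1) * 2 ^ (d + 1) := Nat.mul_le_mul (by omega) hd1
    have hPo : Odd P := by
      obtain ⟨r, hr⟩ : Even ((2 ^ n + 1) * 2 ^ (d + 1)) :=
        Even.mul_left (Nat.even_pow.mpr ⟨even_two, by omega⟩) _
      exact ⟨r - 1, by omega⟩
    have hmul : 2 ^ n * P = 2 ^ e := by
      have : 2 ^ n * 2 ^ (d + 1) = 2 ^ (n + d + 1) := by rw [← pow_add]; rfl
      rw [hP, Nat.mul_sub, mul_one, hfk, show 2 ^ n * ((2 ^ n + 1) * 2 ^ (d + 1)) = (2 ^ n + 1) * (2 ^ n * 2 ^ (d + 1)) by ring,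
        this, ← hk]
      have : (2 ^ n + 1) * (k + 1) = 1 + k * (2 ^ n + 1) + 2 ^ n := by ring
      omega
    have := hodd P e hPo (Dvd.intro_left _ hmul)
    omega

variable {G : Type u} {Ω : Type v} [Group G] [MulAction G Ω] {a : Ω} {N : Subgroup G}

/-- The standard plane. -/
def pl (h : Hyp G a N F) : Set Ω := {c | ∀ x ∈ A2 F, h.emb x • c = c}

theorem self_pl (h : Hyp G a N F) : a ∈ pl h := fun x _ => h.emb_fix x

/-- The stabiliser of the standard plane. -/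
def gpl (h : Hyp G a N F) : Subgroup G where
  carrier := {g | ∀ c, g • c ∈ pl h ↔ c ∈ pl h}
  one_mem' c := by rw [one_smul]
  mul_mem' {g k} hg hk c := by rw [mul_smul, hg, hk]
  inv_mem' {g} hg c := by rw [← hg (g⁻¹ • c), smul_inv_smul]

/-- The action on the plane. -/
def rho (h : Hyp G a N F) : gpl h →* Equiv.Perm (pl h) where
  toFun g := (MulAction.toPerm (g : G)).subtypePerm fun c => g.2 c
  map_one' := Equiv.ext fun c => Subtype.ext (one_smul G (c : Ω))
  map_mul' g k := Equiv.ext fun c => Subtype.ext (mul_smul (g : G) k (c : Ω))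

theorem rho_apply (h : Hyp G a N F) (g : gpl h) (c : pl h) : ((rho h g c : pl h) : Ω) = (g : G) • (c : Ω) := rfl

namespace PCtx

variable [Finite G] [Finite Ω] [FaithfulSMul G Ω] {h : Hyp G a N F} (hC : PCtx h)
include hC

theorem mem_pl {c : Ω} {v : V} (hv : h.inv c = invAt v) : c ∈ pl h ↔ v 2 = 0 := by
  constructor
  · intro hc
    have := (fix_iff hv (IsTv.xx (F := F) 1 2 (by decide) one_ne_zero)).mp (hc _ (rt12_A2 1))
    simpa using this
  · intro hv2 x hx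
    rcases eq_or_ne x 1 with rfl | h1
    · rw [map_one, one_smul]
    obtain ⟨w, -, -, ht⟩ := mem_A2 hx h1
    exact (fix_iff hv ht).mpr (by simpa using hv2)

theorem pl_eq_fix {x : P3 F} (hx : x ∈ A2 F) (h1 : x ≠ 1) {c : Ω} : h.emb x • c = c ↔ c ∈ pl h := by
  refine ⟨fun hc => ?_, fun hc => hc x hx⟩
  by_cases hca : c = a
  · rw [hca]; exact self_pl h
  obtain ⟨v, hv, e⟩ := hC.vec hca
  obtain ⟨w, -, -, ht⟩ := mem_A2 hx h1
  rw [hC.mem_pl e]
  simpa using (fix_iff e ht).mp hc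

theorem card_pl : Nat.card (pl h) = 1 + kk h * (Fintype.card F + 1) := by
  rw [← hC.card_plane (IsTv.xx (F := F) 1 2 (by decide) one_ne_zero)]
  exact Nat.card_congr (Equiv.subtypeEquivRight fun c => (hC.pl_eq_fix (rt12_A2 1) (rt_ne one_ne_zero)).symm)

theorem axis_fix {m m' : P3 F} {u f u' f' : V} (hm : IsTv m u f) (hm' : IsTv m' u' f') {k : F} (hk : k ≠ 0)
    (hf : f' = k • f) (c : Ω) : h.emb m • c = c ↔ h.emb m' • c = c := by
  by_cases hca : c = a
  · rw [hca]; exact iff_of_true (h.emb_fix m) (h.emb_fix m')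
  obtain ⟨v, -, e⟩ := hC.vec hca
  rw [fix_iff e hm, fix_iff e hm', hf, smul_dotProduct, smul_eq_mul, mul_eq_zero]
  exact ⟨Or.inr, fun h1 => h1.resolve_left hk⟩

/-- Two planes through two points are carried one to the other by an element fixing the points. -/
theorem planes_move {c d : Ω} (hcd : c ≠ d) {y z : G} (hy : Invol y) (hyc : At a N c y) (hyd : y • d = d)
    (hz : Invol z) (hzc : At a N c z) (hzd : z • d = d) :
    ∃ g : G, g • c = c ∧ g • d = d ∧ ∀ e : Ω, z • g • e = g • e ↔ y • e = e := by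
  obtain ⟨b, hb, hb0⟩ := hC.exists_std
  obtain ⟨g, hga, hgb⟩ := h.pt.trans a b c d hb.symm hcd
  obtain ⟨m, hm⟩ := h.emb_surj ((h.pt.at_iff hga).mp hyc)
  obtain ⟨m', hm'⟩ := h.emb_surj ((h.pt.at_iff hga).mp hzc)
  have back : ∀ (w : G) (e : Ω), (g⁻¹ * w * g) • e = e ↔ w • g • e = g • e := fun w e => by
    rw [mul_smul, mul_smul, inv_smul_eq_iff]
  have hmb : h.emb m • b = b := by rw [hm, back, hgb]; exact hyd
  have hmb' : h.emb m' • b = b := by rw [hm', back, hgb]; exact hzd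
  have hmi : Invol m := (Invol.map h.emb_inj).mp (by rw [hm]; simpa using hy.conj g⁻¹)
  have hmi' : Invol m' := (Invol.map h.emb_inj).mp (by rw [hm']; simpa using hz.conj g⁻¹)
  obtain ⟨u, f, ht⟩ := exists_tv hmi
  obtain ⟨u', f', ht'⟩ := exists_tv hmi'
  have hf0 : f 0 = 0 := by simpa using (fix_iff hb0 ht).mp hmb
  have hf0' : f' 0 = 0 := by simpa using (fix_iff hb0 ht').mp hmb'
  obtain ⟨A, hA, hAf⟩ := X0P_move_axis ht.axis_ne ht'.axis_ne hf0 hf0'
  set B := h.emb (PSLn.mk A⁻¹)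
  have hAi : (A⁻¹).1 *ᵥ Pi.single 0 1 = Pi.single 0 1 := by
    conv_lhs => rw [← hA]
    rw [mulVec_mulVec, show (A⁻¹).1 * A.1 = 1 from congrArg Subtype.val (inv_mul_cancel A), one_mulVec]
  have hBb : B • b = b := by
    by_contra hne
    have h1 : h.inv (B • b) = h.inv b := by rw [hC.inv_move A⁻¹ hb0, hAi, hb0]
    have h2 : B • b ∈ blk a N a b := (hC.mem_blk_base hb (emb_ne hb _)).mpr h1
    have h3 : h.emb (PSLn.mk A⁻¹) ∈ xo a N a b := by
      rw [h.xo_base, hb0, ← invP_eq_at]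
      exact Subgroup.mem_map_of_mem _ (mem_X0P hAi)
    exact hne (xo_at h.pt h3).2.2
  have ht2 := ht.conj A⁻¹
  rw [inv_inv, hAf] at ht2
  refine ⟨g * B * g⁻¹, ?_, ?_, fun e => ?_⟩
  · rw [← hga, mul_smul, mul_smul, inv_smul_smul, h.emb_fix]
  · rw [← hgb, mul_smul, mul_smul, inv_smul_smul, hBb]
  obtain ⟨e, rfl⟩ : ∃ e', g • e' = e := ⟨g⁻¹ • e, smul_inv_smul _ _⟩
  rw [mul_smul, mul_smul, inv_smul_smul, ← back z, ← back y, ← hm, ← hm',
    ← hC.axis_fix ht2 ht' one_ne_zero (one_smul _ _).symm]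
  have hconj : h.emb (PSLn.mk A⁻¹ * m * (PSLn.mk A⁻¹)⁻¹) = B * h.emb m * B⁻¹ := by simp only [B, map_mul, map_inv]
  rw [hconj, fix_conj]

/-- The group of the plane is doubly transitive on it. -/
theorem pl_trans {c d c' d' : Ω} (hc : c ∈ pl h) (hd : d ∈ pl h) (hcd : c ≠ d) (hc' : c' ∈ pl h) (hd' : d' ∈ pl h)
    (hcd' : c' ≠ d') : ∃ g ∈ gpl h, g • c = c' ∧ g • d = d' := by
  obtain ⟨g, hgc, hgd⟩ := h.pt.trans c d c' d' hcd hcd'
  set x := h.emb (rt 1 2 (by decide) (1 : F))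
  have hxi : Invol x := (Invol.map h.emb_inj).mpr (rt_invol one_ne_zero)
  have hxa : At a N a x := h.pt.at_base.mpr (h.emb_mem _)
  have hfix : ∀ e, x • e = e ↔ e ∈ pl h := fun e => hC.pl_eq_fix (rt12_A2 1) (rt_ne one_ne_zero)
  have hxc := hC.member_at hxi hxa ((hfix c).mpr hc)
  have hxc' := hC.member_at hxi hxa ((hfix c').mpr hc')
  obtain ⟨k, hk1, hk2, hk3⟩ := hC.planes_move hcd' (hxi.conj g) (hgc ▸ hxc.conj g)
    (by rw [← hgd]; exact (fix_conj g).mpr ((hfix d).mpr hd)) hxi hxc' ((hfix d').mpr hd')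
  refine ⟨k * g, fun e => ?_, by rw [mul_smul, hgc, hk1], by rw [mul_smul, hgd, hk2]⟩
  rw [mul_smul, ← hfix, hk3, fix_conj, hfix]

theorem invL_pres {m : P3 F} (hm : Invol m) : h.emb m ∈ gpl h ↔ m ∈ invL F := by
  obtain ⟨u, f, ht⟩ := exists_tv hm
  have hmk : PSLn.mk (PSLn.tv u f ht.inc) = m := ht.2.2.2
  have hmove : ∀ {c : Ω} {v : V}, h.inv c = invAt v → h.inv (h.emb m • c) = invAt (v + (f ⬝ᵥ v) • u) := by
    intro c v e
    have := hC.inv_move (PSLn.tv u f ht.inc) e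
    rw [hmk] at this
    rw [this, coe_tv, Matrix.add_mulVec, Matrix.one_mulVec, Matrix.vecMulVec_mulVec]
    congr 2
    funext i
    simp [mul_comm]
  constructor
  · intro hg
    refine ⟨u, f, ht, ?_⟩
    by_contra hu2
    have key : ∀ v : V, v ≠ 0 → v 2 = 0 → f ⬝ᵥ v = 0 := by
      intro v hv hv2
      obtain ⟨⟨c, hc, e⟩⟩ := (Nat.card_pos_iff.mp (show 0 < Nat.card {c : Ω // c ≠ a ∧ h.inv c = invAt v} by
        rw [hC.card_fibre hv]; exact hC.kk_pos)).1
      have h1 := (hC.mem_pl (hmove e)).mp ((hg c).mpr ((hC.mem_pl e).mpr hv2))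
      simpa [hv2, hu2] using h1
    have h0 := key (Pi.single 0 1) (by simp) (by simp)
    have h1 := key (Pi.single 1 1) (by simp) (by simp)
    simp at h0 h1
    have hi := ht.inc
    rw [dotProduct, Fin.sum_univ_three, h0, h1, zero_mul, zero_mul, zero_add, zero_add, mul_eq_zero] at hi
    exact ht.axis_ne (funext fun i => by fin_cases i <;> simp [h0, h1, hi.resolve_right hu2])
  · rintro ⟨u', f', ht', hu⟩
    obtain ⟨k, hk, rfl, -⟩ := ht.unique ht'
    have hu2 : u 2 = 0 := by simpa [hk] using hu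
    intro c
    by_cases hca : c = a
    · rw [hca, h.emb_fix]
    obtain ⟨v, -, e⟩ := hC.vec hca
    rw [hC.mem_pl e, hC.mem_pl (hmove e)]
    simp [hu2]

/-- The group of the line. -/
theorem line_le : (Subgroup.closure (invL F)).map h.emb ≤ gpl h := by
  rw [MonoidHom.map_closure, Subgroup.closure_le]
  rintro _ ⟨m, hm, rfl⟩
  obtain ⟨u, f, ht, -⟩ := id hm
  exact (hC.invL_pres ht.invol).mpr hm

theorem line_conj {g : G} (hg : g ∈ gpl h) (hga : g • a = a) {x : G}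
    (hx : x ∈ (Subgroup.closure (invL F)).map h.emb) : g * x * g⁻¹ ∈ (Subgroup.closure (invL F)).map h.emb := by
  rw [MonoidHom.map_closure] at hx ⊢
  refine Subgroup.closure_induction (p := fun x _ => g * x * g⁻¹ ∈ Subgroup.closure (h.emb '' invL F))
    ?_ ?_ (fun x y _ _ hx hy => ?_) (fun x _ hx => ?_) hx
  · rintro _ ⟨m, hm, rfl⟩
    obtain ⟨u, f, ht, -⟩ := id hm
    refine Subgroup.subset_closure ⟨h.act ⟨g, mem_stabilizer_iff.mpr hga⟩ m, ?_, h.emb_act _ _⟩
    refine (hC.invL_pres ((Invol.map (f := (h.act ⟨g, mem_stabilizer_iff.mpr hga⟩).toMonoidHom)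
      (h.act _).injective).mpr ht.invol)).mp ?_
    show h.emb (h.act ⟨g, mem_stabilizer_iff.mpr hga⟩ m) ∈ gpl h
    rw [h.emb_act]
    exact mul_mem (mul_mem hg ((hC.invL_pres ht.invol).mpr hm)) (inv_mem hg)
  · simp
  · simpa [mul_assoc] using mul_mem hx hy
  · simpa [mul_assoc] using inv_mem hx

theorem rt01_pl {c : Ω} {b : Ω} (hb : b ≠ a) (hb0 : h.inv b = invAt (Pi.single 0 1)) :
    (c ∈ pl h ∧ h.emb (rt 0 1 (by decide) (1 : F)) • c = c) ↔ c = a ∨ (c ≠ a ∧ h.inv c = h.inv b) := by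
  by_cases hca : c = a
  · rw [hca]; exact iff_of_true ⟨self_pl h, h.emb_fix _⟩ (Or.inl rfl)
  obtain ⟨v, hv, e⟩ := hC.vec hca
  have ht := IsTv.xx (F := F) 0 1 (by decide) one_ne_zero
  rw [hC.mem_pl e, show rt 0 1 (by decide) (1 : F) = PSLn.mk (PSLn.xx 0 1 (by decide) 1) from rfl, fix_iff e ht]
  simp only [single_one_dotProduct, or_iff_right hca, hb0]
  constructor
  · rintro ⟨h2, h1⟩
    refine ⟨hca, ?_⟩
    have h0 : v 0 ≠ 0 := fun e0 => hv (funext fun i => by fin_cases i <;> simp [e0, h1, h2])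
    rw [e, show v = v 0 • (Pi.single 0 1 : V) from funext fun i => by fin_cases i <;> simp [h1, h2], invAt_smul h0]
  · rintro ⟨-, e'⟩
    obtain ⟨k, -, rfl⟩ := invAt_inj (by simp) hv (e'.symm.trans e)
    simp

/-- **The group of a plane.** -/
theorem plane_cases (hq : 4 ≤ Fintype.card F) : (Fintype.card F = 4 ∧ kk h = 1) ∨ (kk h + 1 = Fintype.card F ∧
    ∃ R : Subgroup (Equiv.Perm (pl h)), R ≤ (rho h).range ∧
      (∀ g ∈ (rho h).range, ∀ r ∈ R, g * r * g⁻¹ ∈ R) ∧ (∀ x y : pl h, ∃ r ∈ R, r x = y) ∧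
      (∀ r ∈ R, ∀ x : pl h, r x = x → r = 1) ∧ ∀ r ∈ R, r * r = 1) := by
  classical
  haveI := Fintype.ofFinite (pl h)
  set H := (rho h).range
  set a' : pl h := ⟨a, self_pl h⟩
  have h2 : IsMultiplyPretransitive H (pl h) 2 := by
    rw [is_two_pretransitive_iff]
    intro x y x' y' hxy hxy'
    obtain ⟨g, hg, e1, e2⟩ := hC.pl_trans x.2 y.2 (fun e => hxy (Subtype.ext e)) x'.2 y'.2
      (fun e => hxy' (Subtype.ext e))
    exact ⟨⟨rho h ⟨g, hg⟩, ⟨g, hg⟩, rfl⟩, Subtype.ext e1, Subtype.ext e2⟩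
  -- the group of the line on the plane
  have hψmem : ∀ B : Matrix.SpecialLinearGroup (Fin 2) F,
      h.emb (PSLn.mk (blk2 B)) ∈ (Subgroup.closure (invL F)).map h.emb := fun B =>
    Subgroup.mem_map_of_mem _ (mem_closure_invL (by
      rw [Matrix.single_one_vecMul]
      funext i; fin_cases i <;> simp [blk2_coe]))
  let ψ : Matrix.SpecialLinearGroup (Fin 2) F →* H :=
    ((rho h).rangeRestrict).comp
      ((h.emb.comp ((PSLn.mk).comp blk2)).codRestrict (gpl h) fun B => hC.line_le (hψmem B))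
  have hψinj : Function.Injective ψ := by
    rw [← MonoidHom.ker_eq_bot_iff]
    refine (Subgroup.eq_bot_iff_forall _).mpr fun B hB => ?_
    have hfix : ∀ c ∈ pl h, h.emb (PSLn.mk (blk2 B)) • c = c := fun c hc =>
      congrArg Subtype.val (Equiv.ext_iff.mp (congrArg Subtype.val (MonoidHom.mem_ker.mp hB)) ⟨c, hc⟩)
    have key : ∀ v : V, v ≠ 0 → v 2 = 0 → ∃ k : F, (blk2 B).1 *ᵥ v = k • v := by
      intro v hv hv2
      obtain ⟨⟨c, hc, e⟩⟩ := (Nat.card_pos_iff.mp (show 0 < Nat.card {c : Ω // c ≠ a ∧ h.inv c = invAt v} by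
        rw [hC.card_fibre hv]; exact hC.kk_pos)).1
      have h1 := hC.inv_move (blk2 B) e
      rw [hfix c ((hC.mem_pl e).mpr hv2), e] at h1
      have hne : (blk2 B).1 *ᵥ v ≠ 0 := fun e0 => hv (by
        have := congrArg (fun w => ((blk2 B)⁻¹).1 *ᵥ w) e0
        have e1 : ((blk2 B)⁻¹).1 * (blk2 B).1 = 1 := congrArg Subtype.val (inv_mul_cancel (blk2 B))
        rw [mulVec_mulVec, e1, one_mulVec, mulVec_zero] at this
        exact this)
      obtain ⟨k, -, hk⟩ := invAt_inj hv hne h1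
      exact ⟨k, hk⟩
    obtain ⟨k0, h0⟩ := key (Pi.single 0 1) (by simp) (by simp)
    obtain ⟨k1, h1⟩ := key (Pi.single 1 1) (by simp) (by simp)
    obtain ⟨k2, h2⟩ := key ![1, 1, 0] (by simp) (by simp)
    have a00 := congrFun h0 0; have a10 := congrFun h0 1
    have a01 := congrFun h1 0; have a11 := congrFun h1 1
    have s0 := congrFun h2 0; have s1 := congrFun h2 1
    simp [blk2_coe, Matrix.mulVec_single_one] at a00 a10 a01 a11
    simp [blk2_coe, Matrix.mulVec, dotProduct, Fin.sum_univ_three] at s0 s1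
    have hsame : B.1 0 0 = B.1 1 1 := by
      rw [a01, add_zero] at s0; rw [a10, zero_add] at s1
      rw [s0, s1]
    have hd := B.2
    rw [Matrix.det_fin_two, a01, a10, zero_mul, sub_zero, ← hsame] at hd
    have h11 : B.1 0 0 = 1 := by
      have : (B.1 0 0 + 1) ^ 2 = 0 := by
        have h2 : (2 : F) = 0 := CharTwo.two_eq_zero
        linear_combination hd + (1 + B.1 0 0) * h2
      exact CharTwo.add_eq_zero.mp (pow_eq_zero_iff (by norm_num) |>.mp this)
    apply Subtype.ext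
    ext i j
    fin_cases i <;> fin_cases j <;> simp [a01, a10, h11, ← hsame]
  have hψfix : ψ.range ≤ stabilizer H a' := by
    rintro _ ⟨B, rfl⟩
    exact mem_stabilizer_iff.mpr (Subtype.ext (h.emb_fix _))
  have hψnorm : ∀ g ∈ stabilizer H a', ∀ n ∈ ψ.range, g * n * g⁻¹ ∈ ψ.range := by
    rintro ⟨_, g, rfl⟩ hg _ ⟨B, rfl⟩
    have hga : (g : G) • a = a := congrArg Subtype.val (mem_stabilizer_iff.mp hg)
    obtain ⟨m, hm, e⟩ := hC.line_conj g.2 hga (hψmem B)
    have hrow : ∀ m ∈ Subgroup.closure (invL F), ∃ A : S3L F, PSLn.mk A = m ∧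
        (Pi.single 2 1 : V) ᵥ* A.1 = Pi.single 2 1 := by
      intro m hm
      refine Subgroup.closure_induction ?_ ⟨1, map_one _, by
        show _ ᵥ* (1 : Matrix (Fin 3) (Fin 3) F) = _; rw [vecMul_one]⟩ ?_ ?_ hm
      · rintro m ⟨u, f, ht, hu⟩
        refine ⟨PSLn.tv u f ht.inc, ht.2.2.2, ?_⟩
        rw [coe_tv, vecMul_add, vecMul_one, vecMul_vecMulVec, single_one_dotProduct, hu, zero_smul, add_zero]
      · rintro _ _ _ _ ⟨A, rfl, hA⟩ ⟨A', rfl, hA'⟩
        exact ⟨A * A', map_mul _ _ _, by show _ ᵥ* (A.1 * A'.1) = _; rw [← vecMul_vecMul, hA, hA']⟩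
      · rintro _ _ ⟨A, rfl, hA⟩
        refine ⟨A⁻¹, map_inv _ _, ?_⟩
        conv_lhs => rw [← hA]
        rw [vecMul_vecMul, show A.1 * (A⁻¹).1 = 1 from congrArg Subtype.val (mul_inv_cancel A), vecMul_one]
    obtain ⟨A, rfl, hA⟩ := hrow m hm
    obtain ⟨B', q, hq2, hsplit⟩ := split_line hA
    refine ⟨B', Subtype.ext (Equiv.ext fun c => ?_)⟩
    have hr : rho h ⟨(g : G) * h.emb (PSLn.mk (blk2 B)) * (g : G)⁻¹,
        mul_mem (mul_mem g.2 (hC.line_le (hψmem B))) (inv_mem g.2)⟩ =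
        rho h g * rho h ⟨_, hC.line_le (hψmem B)⟩ * (rho h g)⁻¹ := by
      rw [← map_inv, ← map_mul, ← map_mul]; rfl
    refine Eq.trans ?_ (Equiv.ext_iff.mp hr c)
    apply Subtype.ext
    show h.emb (PSLn.mk (blk2 B')) • (c : Ω) = ((g : G) * h.emb (PSLn.mk (blk2 B)) * (g : G)⁻¹) • (c : Ω)
    rw [← e, hsplit, map_mul, mul_smul, c.2 q hq2]
  obtain ⟨n, -, hn⟩ := FiniteField.card F 2
  have hn2 : 2 ≤ (n : ℕ) := by
    by_contra hlt
    have : (n : ℕ) = 1 := by have := n.pos; omega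
    rw [hn, this] at hq; norm_num at hq
  obtain ⟨eSL⟩ := CfsgLib.LocalCT.sl_equiv_psl (F := F)
  have hres := Cfsg.Agent.S2208.result (G := H) (Ω := pl h) h2 a' ψ.range hψfix hψnorm
    ⟨F, inferInstance, inferInstance, n, hn, hn2, Or.inl ⟨(MonoidHom.ofInjective hψinj).symm.trans eSL⟩⟩
  have hf := hC.card_pl
  rw [Nat.card_eq_fintype_card (α := pl h)] at hf
  have hk0 := hC.kk_pos
  obtain ⟨s, hs⟩ := hC.kk_odd
  have hfev : Even (Fintype.card (pl h)) := by
    obtain ⟨r, hr⟩ : Even (Fintype.card F) := by rw [hn]; exact Nat.even_pow.mpr ⟨even_two, by omega⟩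
    rw [hf, hs, hr]
    exact ⟨2 * s * r + s + r + 1, by ring⟩
  rcases hres with ⟨h6, -⟩ | ⟨h11, -⟩ | ⟨R, hRn, hRt, hRf⟩
  · left
    rw [h6] at hf
    have : kk h * (Fintype.card F + 1) = 5 := by omega
    have hle : kk h ≤ 1 := by
      by_contra hh
      have : 2 * 5 ≤ kk h * (Fintype.card F + 1) := Nat.mul_le_mul (by omega) (by omega)
      omega
    have hk1 : kk h = 1 := by omega
    rw [hk1] at this
    omega
  · rw [h11] at hfev; exact absurd hfev (by decide)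
  right
  set R' := R.map H.subtype
  have hmemR : ∀ r ∈ R', ∃ hr : r ∈ H, (⟨r, hr⟩ : H) ∈ R := by
    rintro _ ⟨r, hr, rfl⟩; exact ⟨r.2, hr⟩
  have hnorm : ∀ g ∈ H, ∀ r ∈ R', g * r * g⁻¹ ∈ R' := by
    rintro g hg r hr
    obtain ⟨hrH, hr'⟩ := hmemR r hr
    exact ⟨_, hRn.conj_mem _ hr' ⟨g, hg⟩, rfl⟩
  have htr : ∀ x y : pl h, ∃ r ∈ R', r x = y := fun x y => by
    obtain ⟨r, hr, e⟩ := hRt x y
    exact ⟨_, ⟨r, hr, rfl⟩, e⟩
  have hreg : ∀ r ∈ R', ∀ x : pl h, r x = x → r = 1 := fun r hr x hx => by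
    obtain ⟨hrH, hr'⟩ := hmemR r hr
    exact congrArg Subtype.val (hRf x _ hr' hx)
  have hRcard : Nat.card R' = Fintype.card (pl h) := by
    rw [← Nat.card_eq_fintype_card]
    refine Nat.card_eq_of_bijective (fun r : R' => (r : Equiv.Perm (pl h)) a') ⟨fun r r' e => ?_, fun y => ?_⟩
    · dsimp only at e
      have := hreg _ (mul_mem (inv_mem r'.2) r.2) a'
        (by rw [Equiv.Perm.mul_apply]; show (r' : Equiv.Perm (pl h))⁻¹ _ = a'; rw [e, Equiv.Perm.inv_def, Equiv.symm_apply_apply])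
      exact Subtype.ext (inv_mul_eq_one.mp this).symm
    · obtain ⟨r, hr, e⟩ := htr a' y
      exact ⟨⟨r, hr⟩, e⟩
  -- all elements are involutions
  have hsq : ∀ r ∈ R', r * r = 1 := by
    obtain ⟨t, ht⟩ := exists_prime_orderOf_dvd_card' (G := R') 2 (by rw [hRcard]; exact even_iff_two_dvd.mp hfev)
    have ht1 : (t : Equiv.Perm (pl h)) ≠ 1 := fun e => by
      rw [show t = 1 from Subtype.ext e, orderOf_one] at ht; omega
    have ht2 : (t : Equiv.Perm (pl h)) * t = 1 := by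
      have := pow_orderOf_eq_one t
      rw [ht, pow_two] at this
      exact congrArg Subtype.val this
    intro r hr
    by_cases hr1 : r = 1
    · rw [hr1, one_mul]
    have hta : (t : Equiv.Perm (pl h)) a' ≠ a' := fun e => ht1 (hreg _ t.2 _ e)
    have hra : r a' ≠ a' := fun e => hr1 (hreg _ hr _ e)
    obtain ⟨g, hg1, hg2⟩ := (is_two_pretransitive_iff.mp h2) hta.symm hra.symm
    have hk : (g : Equiv.Perm (pl h)) * t * (g : Equiv.Perm (pl h))⁻¹ = r := by
      have h3 := hreg _ (mul_mem (inv_mem hr) (hnorm _ g.2 _ t.2)) a' (by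
        rw [Equiv.Perm.mul_apply, Equiv.Perm.mul_apply, Equiv.Perm.mul_apply,
          show (g : Equiv.Perm (pl h))⁻¹ a' = a' from by rw [Equiv.Perm.inv_eq_iff_eq]; exact hg1.symm,
          show (g : Equiv.Perm (pl h)) ((t : Equiv.Perm (pl h)) a') = r a' from hg2, Equiv.Perm.inv_def, Equiv.symm_apply_apply])
      exact (inv_mul_eq_one.mp h3).symm
    calc r * r = (g : Equiv.Perm (pl h)) * (t * t) * (g : Equiv.Perm (pl h))⁻¹ := by rw [← hk]; group
      _ = 1 := by rw [ht2]; group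
  refine ⟨?_, R', fun r hr => (hmemR r hr).1, hnorm, htr, hreg, hsq⟩
  -- the fixed points of a root element
  obtain ⟨b, hb, hb0⟩ := hC.exists_std
  have huL : rt 0 1 (by decide) (1 : F) ∈ invL F := ⟨_, _, IsTv.xx 0 1 (by decide) one_ne_zero, by simp⟩
  set g : gpl h := ⟨h.emb (rt 0 1 (by decide) (1 : F)), (hC.invL_pres (rt_invol one_ne_zero)).mpr huL⟩
  set u := rho h g
  have hua : u a' = a' := Subtype.ext (h.emb_fix _)
  set C : Subgroup R' := (Subgroup.centralizer {u}).subgroupOf R'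
  have hC2 : Nat.card C = kk h + 1 := by
    have e1 : Nat.card C = Nat.card {c : Ω // c = a ∨ (c ≠ a ∧ h.inv c = h.inv b)} := by
      refine Nat.card_eq_of_bijective (fun r => ⟨((r.1.1 a' : pl h) : Ω), (hC.rt01_pl hb hb0).mp ⟨(r.1.1 a').2, ?_⟩⟩)
        ⟨fun r r' e => ?_, fun c => ?_⟩
      · have hc := Subgroup.mem_centralizer_iff.mp r.2 u (Set.mem_singleton u)
        have := Equiv.ext_iff.mp hc a'
        rw [Equiv.Perm.mul_apply, Equiv.Perm.mul_apply, hua] at this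
        exact congrArg Subtype.val this
      · apply Subtype.ext; apply Subtype.ext
        have e2 : r.1.1 a' = r'.1.1 a' := Subtype.ext (congrArg Subtype.val e :)
        have := hreg _ (mul_mem (inv_mem r'.1.2) r.1.2) a'
          (by rw [Equiv.Perm.mul_apply, e2]; exact Equiv.symm_apply_apply _ _)
        exact (inv_mul_eq_one.mp this).symm
      · obtain ⟨hcp, hcu⟩ := (hC.rt01_pl hb hb0).mpr c.2
        obtain ⟨r, hr, e⟩ := htr a' ⟨c.1, hcp⟩
        refine ⟨⟨⟨r, hr⟩, Subgroup.mem_centralizer_iff.mpr ?_⟩, Subtype.ext (congrArg Subtype.val e :)⟩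
        rintro _ rfl
        have h3 := hreg _ (mul_mem (inv_mem hr) (hnorm u ⟨g, rfl⟩ r hr)) a' (by
          rw [Equiv.Perm.mul_apply, Equiv.Perm.mul_apply, Equiv.Perm.mul_apply,
            show u⁻¹ a' = a' from by rw [Equiv.Perm.inv_eq_iff_eq]; exact hua.symm, e,
            show u ⟨c.1, hcp⟩ = ⟨c.1, hcp⟩ from Subtype.ext hcu, ← e, Equiv.Perm.inv_def, Equiv.symm_apply_apply])
        exact mul_inv_eq_iff_eq_mul.mp (inv_mul_eq_one.mp h3).symm
    rw [e1, Nat.card_congr (subtypeOrEquiv _ _ (disjoint_iff_inf_le.mpr fun c hc => hc.2.1 hc.1)), Nat.card_sum,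
      Nat.card_unique, hb0, kk, add_comm]
  have hp : IsPGroup 2 R' := fun r => ⟨1, Subtype.ext (by rw [pow_one, pow_two]; exact hsq r r.2)⟩
  obtain ⟨e, he⟩ := hp.exists_card_eq
  obtain ⟨j, hj⟩ := (hp.to_subgroup C).exists_card_eq
  exact arith_K hn hn2 (hC2.symm.trans hj) hk0 (hRcard.symm.trans he) hf

end PCtx

end CfsgLib.PlaneStab
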