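import Cfsg.Agent.Lib.PlaneStab.PFibre
import Cfsg.Agent.Lib.PlaneStab.PConj
import Cfsg.Agent.Lib.PlaneStab.Borel

/-!
Blocks of `q` points: the translations and the regular normal subgroup.

Blueprint: `blueprint/S3727.md`, section 5.
-/

set_option autoImplicit false
set_option linter.unusedSectionVars false

namespace CfsgLib.PlaneStab

open Matrix MulAction CfsgLib.PSLn CfsgLib.RankOnePoint

universe u v

variable {F : Type} [Field F] [Fintype F] [CharP F 2]

local notation "V" => (Fin 3 → F)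

/-- `t` carries `a` to `b`, is of square one and centralises the involutions of the block. -/
def IsTrans {G : Type u} {Ω : Type v} [Group G] [MulAction G Ω] (a : Ω) (N : Subgroup G) (b : Ω) (t : G) : Prop :=
  t • a = b ∧ t * t = 1 ∧ ∀ x, Invol x → At a N a x → x • b = b → t * x = x * t

variable {G : Type u} {Ω : Type v} [Group G] [MulAction G Ω] {a : Ω} {N : Subgroup G}

/-- The elements of the plane group centralising its pointwise fixing members and acting as translations. -/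
def slab (h : Hyp G a N F) (R : Subgroup (Equiv.Perm (pl h))) : Subgroup G :=
  ((R.comap (rho h)).map (gpl h).subtype) ⊓ Subgroup.centralizer (h.emb '' (A2 F : Set (P3 F)))

theorem mem_slab {h : Hyp G a N F} {R : Subgroup (Equiv.Perm (pl h))} {g : G} :
    g ∈ slab h R ↔ (∃ hg : g ∈ gpl h, rho h ⟨g, hg⟩ ∈ R) ∧ ∀ x ∈ A2 F, h.emb x * g = g * h.emb x := by
  simp only [slab, Subgroup.mem_inf, Subgroup.mem_map, Subgroup.mem_comap, Subgroup.mem_centralizer_iff]
  constructor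
  · rintro ⟨⟨⟨g', hg'⟩, hR, rfl⟩, hc⟩
    exact ⟨⟨hg', hR⟩, fun x hx => hc _ ⟨x, hx, rfl⟩⟩
  · rintro ⟨⟨hg, hR⟩, hc⟩
    refine ⟨⟨⟨g, hg⟩, hR, rfl⟩, ?_⟩
    rintro _ ⟨x, hx, rfl⟩
    exact hc x hx

namespace PCtx

variable [Finite G] [Finite Ω] [FaithfulSMul G Ω] {h : Hyp G a N F} (hC : PCtx h)
include hC

theorem act_triv {b : Ω} (hb : b ≠ a) {w : G} (hwa : w • a = a) (hwb : w • b = b)
    (hc : ∀ x, Invol x → At a N a x → x • b = b → w * x = x * w) : w = 1 := by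
  obtain ⟨φ, -, hφ⟩ := hC.sh b hb
  set ω : stabilizer G a := ⟨w, mem_stabilizer_iff.mpr hwa⟩
  have h1 : φ⁻¹ * h.act ω * φ = 1 := eq_one_of_fix_P fun x hx => by
    have hm : φ x ∈ h.inv b := by rw [hφ]; exact ⟨x, hx, rfl⟩
    have h2 := hc _ ((Invol.map h.emb_inj).mpr hm.1) (h.pt.at_base.mpr (h.emb_mem _)) hm.2
    have h3 : h.act ω (φ x) = φ x := h.emb_inj (by
      rw [h.emb_act]; show w * h.emb (φ x) * w⁻¹ = _; rw [h2, mul_inv_cancel_right])
    rw [MulAut.mul_apply, MulAut.mul_apply, h3, MulAut.inv_apply_self]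
  have h4 : h.act ω = 1 := by
    have h5 : φ * (φ⁻¹ * h.act ω * φ) * φ⁻¹ = 1 := by rw [h1]; group
    simpa [mul_assoc] using h5
  exact congrArg Subtype.val (h.act_inj_P hC.sh hb (g := ω) hwb h4)

theorem trans_unique {b : Ω} (hb : b ≠ a) {t t' : G} (ht : IsTrans a N b t) (ht' : IsTrans a N b t') : t = t' := by
  obtain ⟨e, hs, hc⟩ := ht
  obtain ⟨e', hs', hc'⟩ := ht'
  have hi : t⁻¹ = t := inv_eq_of_mul_eq_one_right hs
  have hi' : t'⁻¹ = t' := inv_eq_of_mul_eq_one_right hs'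
  have hta : t' • b = a := by rw [← e', ← mul_smul, hs', one_smul]
  have htb : t • b = a := by rw [← e, ← mul_smul, hs, one_smul]
  have h1 : t' * t = 1 := hC.act_triv hb (by rw [mul_smul, e, hta]) (by rw [mul_smul, htb, e'])
    fun x hi hat hx => by rw [mul_assoc, hc x hi hat hx, ← mul_assoc, hc' x hi hat hx, mul_assoc]
  rw [mul_eq_one_iff_eq_inv, hi] at h1
  exact h1.symm

theorem trans_conj {b : Ω} {t : G} (ht : IsTrans a N b t) {g : G} (hg : g • a = a) :
    IsTrans a N (g • b) (g * t * g⁻¹) := by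
  obtain ⟨e, hs, hc⟩ := ht
  have hga : g⁻¹ • a = a := by rw [inv_smul_eq_iff, hg]
  refine ⟨by rw [mul_smul, mul_smul, hga, e], ?_, fun x hi hat hx => ?_⟩
  · calc g * t * g⁻¹ * (g * t * g⁻¹) = g * (t * t) * g⁻¹ := by group
      _ = 1 := by rw [hs]; group
  · have h1 := hat.conj g⁻¹
    rw [hga] at h1
    have hx' : (g⁻¹ * x * g⁻¹⁻¹) • b = b := by
      rw [inv_inv, mul_smul, mul_smul, hx, inv_smul_smul]
    have h2 := hc _ (by simpa using hi.conj g⁻¹) h1 hx'
    calc g * t * g⁻¹ * x = g * (t * (g⁻¹ * x * g⁻¹⁻¹)) * g⁻¹ := by group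
      _ = x * (g * t * g⁻¹) := by rw [h2]; group

/-- A member fixing the plane pointwise lies in its group. -/
theorem fix_pl_A2 {m : P3 F} (hm : Invol m) (hfix : ∀ c ∈ pl h, h.emb m • c = c) : m ∈ A2 F := by
  obtain ⟨u, f, ht⟩ := exists_tv hm
  have key : ∀ v : V, v ≠ 0 → v 2 = 0 → f ⬝ᵥ v = 0 := by
    intro v hv hv2
    obtain ⟨c, hc, e⟩ := hC.exists_over hv
    exact (fix_iff e ht).mp (hfix c ((hC.mem_pl e).mpr hv2))
  have h0 := key (Pi.single 0 1) (by simp) (by simp)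
  have h1 := key (Pi.single 1 1) (by simp) (by simp)
  simp at h0 h1
  obtain ⟨u', f', ht', hu⟩ := (hC.invL_pres hm).mp (fun c => by
    constructor
    · intro hc
      have := hfix _ hc
      rwa [← MulAction.injective (h.emb m) this]
    · intro hc; rw [hfix c hc]; exact hc)
  obtain ⟨k, hk, rfl, rfl⟩ := ht.unique ht'
  exact A2_of_axis ht' hu (by simp [h0]) (by simp [h1])

theorem gpl_conj_A2 {g : G} (hg : g ∈ gpl h) {x : P3 F} (hx : x ∈ A2 F) :
    ∃ y ∈ A2 F, g * h.emb x * g⁻¹ = h.emb y := by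
  rcases eq_or_ne x 1 with rfl | h1
  · exact ⟨1, one_mem _, by simp⟩
  obtain ⟨w, -, -, ht⟩ := mem_A2 hx h1
  have hxi : Invol (h.emb x) := (Invol.map h.emb_inj).mpr ht.invol
  have hfix : ∀ c ∈ pl h, (g * h.emb x * g⁻¹) • c = c := fun c hc => by
    rw [mul_smul, mul_smul, (gpl h).inv_mem hg c |>.mpr hc x hx, smul_inv_smul]
  have hc : g⁻¹ • a ∈ pl h := ((gpl h).inv_mem hg a).mpr (self_pl h)
  have hat := (hC.member_at hxi (h.pt.at_base.mpr (h.emb_mem x)) (hc x hx)).conj g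
  rw [smul_inv_smul] at hat
  obtain ⟨y, hy⟩ := h.emb_surj (h.pt.at_base.mp hat)
  exact ⟨y, hC.fix_pl_A2 ((Invol.map h.emb_inj).mp (hy ▸ hxi.conj g)) (fun c hc => hy ▸ hfix c hc), hy.symm⟩

section Reg

variable (hk : kk h + 1 = Fintype.card F) {R : Subgroup (Equiv.Perm (pl h))} (hR : R ≤ (rho h).range)
  (hnorm : ∀ g ∈ (rho h).range, ∀ r ∈ R, g * r * g⁻¹ ∈ R) (htr : ∀ x y : pl h, ∃ r ∈ R, r x = y)
  (hreg : ∀ r ∈ R, ∀ x : pl h, r x = x → r = 1) (hsq : ∀ r ∈ R, r * r = 1)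
include hk hR hnorm htr hreg hsq

theorem slab_conj {g : G} (hg : g ∈ gpl h) {s : G} (hs : s ∈ slab h R) : g * s * g⁻¹ ∈ slab h R := by
  rw [mem_slab] at hs ⊢
  obtain ⟨⟨hs1, hsR⟩, hc⟩ := hs
  refine ⟨⟨mul_mem (mul_mem hg hs1) (inv_mem hg), ?_⟩, fun x hx => ?_⟩
  · have := hnorm (rho h ⟨g, hg⟩) ⟨_, rfl⟩ _ hsR
    rwa [← map_inv, ← map_mul, ← map_mul] at this
  · obtain ⟨y, hy, e⟩ := hC.gpl_conj_A2 (inv_mem hg) hx
    rw [inv_inv] at e
    calc h.emb x * (g * s * g⁻¹) = g * (g⁻¹ * h.emb x * g * s) * g⁻¹ := by group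
      _ = g * (s * (g⁻¹ * h.emb x * g)) * g⁻¹ := by rw [e, hc y hy]
      _ = g * s * g⁻¹ * h.emb x := by group

omit hk in
theorem perm_det {r s : Equiv.Perm (pl h)} (hr : r ∈ R) (hs : s ∈ R)
    (e : r ⟨a, self_pl h⟩ = s ⟨a, self_pl h⟩) : r = s := by
  have := hreg (s⁻¹ * r) (mul_mem (inv_mem hs) hr) ⟨a, self_pl h⟩
    (by rw [Equiv.Perm.mul_apply, e]; exact Equiv.symm_apply_apply _ _)
  exact (inv_mul_eq_one.mp this).symm

/-- An element of the slab fixing `a` lies in the plane group. -/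
theorem slab_fix {s : G} (hs : s ∈ slab h R) (hsa : s • a = a) : ∃ x ∈ A2 F, h.emb x = s := by
  obtain ⟨⟨hg, hsR⟩, hc⟩ := mem_slab.mp hs
  have h1 : rho h ⟨s, hg⟩ = 1 := hreg _ hsR ⟨a, self_pl h⟩ (Subtype.ext hsa)
  set ω : stabilizer G a := ⟨s, mem_stabilizer_iff.mpr hsa⟩
  obtain ⟨q, hq, hqe⟩ := aut_fix_A2 (hC.typ ω) fun x hx => h.emb_inj (by
    rw [h.emb_act]; show s * h.emb x * s⁻¹ = _; rw [← hc x hx, mul_inv_cancel_right])
  obtain ⟨b, hb, hb0⟩ := hC.exists_std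
  have hbp : b ∈ pl h := (hC.mem_pl hb0).mpr (by simp)
  have hsb : s • b = b := congrArg Subtype.val (Equiv.ext_iff.mp h1 ⟨b, hbp⟩)
  have h2 := h.act_inj_P hC.sh hb (g := ω * (⟨h.emb q, mem_stabilizer_iff.mpr (h.emb_fix q)⟩ : stabilizer G a)⁻¹)
    (show (s * (h.emb q)⁻¹) • b = b by rw [mul_smul, inv_smul_eq_iff.mpr (hbp q hq).symm, hsb])
    (by rw [map_mul, map_inv, h.act_emb, hqe, mul_inv_cancel])
  rw [mul_inv_eq_one] at h2
  exact ⟨q, hq, (congrArg Subtype.val h2).symm⟩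

/-- The slab is transitive on the plane. -/
theorem slab_trans {c : Ω} (hc : c ∈ pl h) : ∃ s ∈ slab h R, s • a = c := by
  classical
  obtain ⟨b, hb, hb0⟩ := hC.exists_std
  have hbp : b ∈ pl h := (hC.mem_pl hb0).mpr (by simp)
  -- a member exchanging `a` and `b` centralises the plane group
  let X : Set G := {z | z ∈ cls N ∧ z • a = b}
  let Q := (A2 F).map h.emb
  have hQb : ∀ x : Q, (x : G) • b = b := fun ⟨_, y, hy, e⟩ => e ▸ hbp y hy
  have hQa : ∀ x : Q, (x : G) • a = a := fun ⟨_, y, hy, e⟩ => e ▸ h.emb_fix y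
  letI : MulAction Q X :=
    { smul := fun x z => ⟨(x : G) * z * (x : G)⁻¹, cls_conj z.2.1 _, by
        rw [mul_smul, mul_smul, inv_smul_eq_iff.mpr (hQa x).symm, z.2.2, hQb x]⟩
      one_smul := fun z => Subtype.ext (by
        show ((1 : Q) : G) * z * ((1 : Q) : G)⁻¹ = z
        simp)
      mul_smul := fun x y z => Subtype.ext (by
        show ((x * y : Q) : G) * z * ((x * y : Q) : G)⁻¹ = (x : G) * ((y : G) * z * (y : G)⁻¹) * (x : G)⁻¹
        rw [Subgroup.coe_mul]; group) }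
  haveI : Fact (Nat.Prime 2) := ⟨Nat.prime_two⟩
  have hQ2 : IsPGroup 2 Q := fun x => ⟨1, Subtype.ext (by
    obtain ⟨_, y, hy, rfl⟩ := x
    show h.emb y ^ 2 ^ 1 = 1
    rw [pow_one, pow_two, ← map_mul]
    obtain ⟨w, rfl⟩ := hy
    rw [← map_mul, show w * w = 1 from Multiplicative.toAdd.injective
      (Prod.ext (CharTwo.add_self_eq_zero _) (CharTwo.add_self_eq_zero _)), map_one, map_one])⟩
  have hodd : ¬ 2 ∣ Nat.card X := by
    have h1 := hC.card_swap hb
    have hnum : Nat.card X = numW N a b := rfl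
    obtain ⟨n, -, hn⟩ := FiniteField.card F 2
    have hq2 : (1 + kk h * (Fintype.card F + 1)) = Fintype.card F ^ 2 := by
      obtain ⟨k', hk'⟩ : ∃ k', kk h = k' := ⟨_, rfl⟩
      rw [hk'] at hk ⊢
      rw [← hk]; ring
    rw [hq2] at h1
    have hq0 : 0 < Fintype.card F ^ 2 := pow_pos Fintype.card_pos 2
    have h3 : numW N a b + 1 = Fintype.card F ^ 2 := by
      apply Nat.eq_of_mul_eq_mul_left hq0
      rw [mul_add, mul_one]; exact h1
    rw [hnum]
    intro hd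
    have h4 : 2 ∣ Fintype.card F ^ 2 := dvd_pow (hn ▸ dvd_pow_self 2 n.ne_zero) two_ne_zero
    rw [← h3] at h4
    omega
  obtain ⟨⟨z, hzc, hza⟩, hz⟩ := hQ2.nonempty_fixed_point_of_prime_not_dvd_card X hodd
  have hzQ : ∀ x ∈ A2 F, h.emb x * z = z * h.emb x := fun x hx => by
    have : h.emb x * z * (h.emb x)⁻¹ = z := congrArg Subtype.val (hz ⟨_, x, hx, rfl⟩)
    exact mul_inv_eq_iff_eq_mul.mp this
  have hzg : z ∈ gpl h := fun d => by
    rw [← hC.pl_eq_fix (rt12_A2 1) (rt_ne one_ne_zero), ← hC.pl_eq_fix (rt12_A2 1) (rt_ne one_ne_zero),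
      ← mul_smul, hzQ _ (rt12_A2 1), mul_smul]
    exact ⟨fun e => MulAction.injective z e, fun e => by rw [e]⟩
  -- the elements centralising the plane group contain the translations of the plane
  set C : Subgroup (gpl h) := (Subgroup.centralizer (h.emb '' (A2 F : Set (P3 F)))).subgroupOf (gpl h)
  set K := C.map (rho h)
  have hKn : ∀ g ∈ (rho h).range, ∀ k ∈ K, g * k * g⁻¹ ∈ K := by
    rintro _ ⟨g, rfl⟩ _ ⟨c, hc, rfl⟩
    refine ⟨g * c * g⁻¹, ?_, by rw [map_mul, map_mul, map_inv]⟩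
    show (g : G) * c * (g : G)⁻¹ ∈ Subgroup.centralizer _
    rw [Subgroup.mem_centralizer_iff]
    rintro _ ⟨x, hx, rfl⟩
    obtain ⟨y, hy, e⟩ := hC.gpl_conj_A2 (inv_mem g.2) hx
    rw [inv_inv] at e
    calc h.emb x * ((g : G) * c * (g : G)⁻¹) = g * ((g : G)⁻¹ * h.emb x * g * c) * (g : G)⁻¹ := by group
      _ = g * ((c : G) * ((g : G)⁻¹ * h.emb x * g)) * (g : G)⁻¹ := by
          rw [e, Subgroup.mem_centralizer_iff.mp (show (c : G) ∈ _ from hc) _ ⟨y, hy, rfl⟩]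
      _ = _ := by group
  have hzK : rho h ⟨z, hzg⟩ ∈ K := ⟨⟨z, hzg⟩, by
    show z ∈ Subgroup.centralizer _
    rw [Subgroup.mem_centralizer_iff]
    rintro _ ⟨x, hx, rfl⟩
    exact hzQ x hx, rfl⟩
  set a' : pl h := ⟨a, self_pl h⟩
  set k0 := rho h ⟨z, hzg⟩
  have hk0a : k0 a' ≠ a' := fun e => hb (hza.symm.trans (congrArg Subtype.val e :))
  have hcomm : ∀ r ∈ R, ∀ s ∈ R, r * s = s * r := by
    intro r hr s hs
    calc r * s = r * s * (s * r * (s * r)) := by rw [hsq _ (mul_mem hs hr), mul_one]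
      _ = r * (s * s) * r * s * r := by group
      _ = s * r := by rw [hsq s hs, mul_one, hsq r hr, one_mul]
  obtain ⟨r1, hr1R, hr1K, hr1⟩ : ∃ r ∈ R, r ∈ K ∧ r ≠ 1 := by
    by_cases hex : ∃ r ∈ R, k0 * r * k0⁻¹ * r⁻¹ ≠ 1
    · obtain ⟨r, hr, hne⟩ := hex
      refine ⟨_, mul_mem (hnorm k0 ⟨_, rfl⟩ r hr) (inv_mem hr), ?_, hne⟩
      have h1 := hKn r (hR hr) k0⁻¹ (inv_mem hzK)
      have := mul_mem hzK h1
      simpa [mul_assoc] using this
    · push Not at hex
      obtain ⟨r0, hr0, hr0a⟩ := htr a' (k0 a')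
      refine ⟨r0, hr0, ?_, fun e => hk0a (by rw [← hr0a, e]; rfl)⟩
      have : k0 = r0 := by
        refine Equiv.ext fun x => ?_
        obtain ⟨r, hr, rfl⟩ := htr a' x
        have h1 : k0 * r = r * k0 := by
          have := hex r hr
          rwa [mul_inv_eq_one, mul_inv_eq_iff_eq_mul] at this
        rw [← Equiv.Perm.mul_apply, h1, Equiv.Perm.mul_apply, ← hr0a, ← Equiv.Perm.mul_apply, hcomm r hr r0 hr0,
          Equiv.Perm.mul_apply]
      exact this ▸ hzK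
  have hRK : ∀ r ∈ R, r ∈ K := by
    intro r hr
    by_cases hr0 : r = 1
    · rw [hr0]; exact one_mem _
    have h1a : r1 a' ≠ a' := fun e => hr1 (hreg _ hr1R _ e)
    have hra : r a' ≠ a' := fun e => hr0 (hreg _ hr _ e)
    obtain ⟨g, hg, e1, e2⟩ := hC.pl_trans (self_pl h) (r1 a').2 (fun e => h1a (Subtype.ext e.symm))
      (self_pl h) (r a').2 (fun e => hra (Subtype.ext e.symm))
    set γ := rho h ⟨g, hg⟩
    have : γ * r1 * γ⁻¹ = r := hC.perm_det hR hnorm htr hreg hsq (hnorm γ ⟨_, rfl⟩ _ hr1R) hr (by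
      rw [Equiv.Perm.mul_apply, Equiv.Perm.mul_apply,
        show γ⁻¹ a' = a' from by rw [Equiv.Perm.inv_eq_iff_eq]; exact Subtype.ext e1.symm]
      exact Subtype.ext e2)
    rw [← this]
    exact hKn γ ⟨_, rfl⟩ _ hr1K
  obtain ⟨r, hr, hra⟩ := htr a' ⟨c, hc⟩
  obtain ⟨⟨g, hg⟩, hgC, hgr⟩ := hRK r hr
  refine ⟨g, mem_slab.mpr ⟨⟨hg, hgr ▸ hr⟩, fun x hx => ?_⟩, ?_⟩
  · exact Subgroup.mem_centralizer_iff.mp hgC _ ⟨x, hx, rfl⟩
  · rw [← hgr] at hra
    exact congrArg Subtype.val hra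

/-- The translation to a point over the standard point. -/
theorem trans_std (hq : 4 ≤ Fintype.card F) {b : Ω} (hb : b ≠ a) (hb0 : h.inv b = invAt (Pi.single 0 1)) :
    ∃ t, IsTrans a N b t ∧ t ∈ slab h R := by
  classical
  have hbp : b ∈ pl h := (hC.mem_pl hb0).mpr (by simp)
  have hcube : ∀ l : F, l ^ 3 = 1 → l = 1 := fun l hl => hC.no_cube hk hnorm htr hreg hsq hl
  let T := fun (u : Fˣ) => h.emb (PSLn.mk (tor0 (u : F) u.ne_zero))
  have hTg : ∀ u, T u ∈ gpl h := fun u c => by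
    by_cases hca : c = a
    · rw [hca, h.emb_fix]
    obtain ⟨v, -, e⟩ := hC.vec hca
    rw [hC.mem_pl e, hC.mem_pl (hC.inv_move (tor0 (u : F) u.ne_zero) e)]
    simp [tor0, Matrix.mulVec_diagonal]
  have hTmul : ∀ u w, T (u * w) = T u * T w := fun u w => by
    show h.emb _ = h.emb _ * h.emb _
    rw [← map_mul, ← map_mul]
    congr 2
    apply Subtype.ext
    show Matrix.diagonal _ = Matrix.diagonal _ * Matrix.diagonal _
    rw [Matrix.diagonal_mul_diagonal]
    congr 1; funext i; fin_cases i <;> simp [mul_comm]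
  have hTb : ∀ u, T u • b = b := fun u => hC.fix_of_vec hb (by simp) hb0 (by
    funext i; fin_cases i <;> simp [tor0, Matrix.mulVec_diagonal])
  let X : Set G := {s | s ∈ slab h R ∧ s • a = b}
  have hcard : Nat.card X = Fintype.card F ^ 2 := by
    obtain ⟨s₀, hs₀, hs₀a⟩ := hC.slab_trans hk hR hnorm htr hreg hsq hbp
    rw [← card_A2]
    refine (Nat.card_eq_of_bijective (fun x : A2 F => (⟨s₀ * h.emb x, mul_mem hs₀ ?_, ?_⟩ : X)) ⟨?_, ?_⟩).symm
    · refine mem_slab.mpr ⟨⟨fun d => ?_, ?_⟩, fun y hy => ?_⟩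
      · rw [← hC.pl_eq_fix (rt12_A2 1) (rt_ne one_ne_zero), ← hC.pl_eq_fix (rt12_A2 1) (rt_ne one_ne_zero),
          ← mul_smul, ← map_mul, plane_comm (Or.inr rfl) (rt12_A2 1) x.2, map_mul, mul_smul]
        exact ⟨fun e => MulAction.injective (h.emb x) e, fun e => by rw [e]⟩
      · convert one_mem R using 1
        exact Equiv.ext fun d => Subtype.ext (d.2 x x.2)
      · rw [← map_mul, ← map_mul, plane_comm (Or.inr rfl) hy x.2]
    · rw [mul_smul, h.emb_fix, hs₀a]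
    · intro x y e
      exact Subtype.ext (h.emb_inj (mul_left_cancel (congrArg Subtype.val e :)))
    · rintro ⟨s, hs, hsa⟩
      obtain ⟨x, hx, e⟩ := hC.slab_fix hk hR hnorm htr hreg hsq (mul_mem (inv_mem hs₀) hs)
        (by rw [mul_smul, hsa, inv_smul_eq_iff, hs₀a])
      exact ⟨⟨x, hx⟩, Subtype.ext (by show s₀ * h.emb x = s; rw [e, mul_inv_cancel_left])⟩
  letI : MulAction Fˣ X :=
    { smul := fun u s => ⟨T u * s * (T u)⁻¹, hC.slab_conj hk hR hnorm htr hreg hsq (hTg u) s.2.1, by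
        rw [mul_smul, mul_smul, inv_smul_eq_iff.mpr (h.emb_fix _).symm, s.2.2, hTb u]⟩
      one_smul := fun s => Subtype.ext (by
        show T 1 * (s : G) * (T 1)⁻¹ = s
        have : T 1 = 1 := by
          have := hTmul 1 1
          rwa [one_mul, left_eq_mul] at this
        rw [this]; simp)
      mul_smul := fun u w s => Subtype.ext (by
        show T (u * w) * (s : G) * (T (u * w))⁻¹ = T u * (T w * (s : G) * (T w)⁻¹) * (T u)⁻¹
        rw [hTmul]; group) }
  have huni : ∀ u : Fˣ, u ≠ 1 → ∀ s s' : X, u • s = s → u • s' = s' → s = s' := by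
    intro u hu s s' hs hs'
    have e1 : T u * (s : G) * (T u)⁻¹ = s := congrArg Subtype.val hs
    have e2 : T u * (s' : G) * (T u)⁻¹ = s' := congrArg Subtype.val hs'
    obtain ⟨x, hx, e⟩ := hC.slab_fix hk hR hnorm htr hreg hsq (mul_mem (inv_mem s.2.1) s'.2.1)
      (by rw [mul_smul, s'.2.2, inv_smul_eq_iff, s.2.2])
    have h1 : T u * h.emb x * (T u)⁻¹ = h.emb x := by
      rw [e]
      calc T u * ((s : G)⁻¹ * s') * (T u)⁻¹ = (T u * (s : G) * (T u)⁻¹)⁻¹ * (T u * (s' : G) * (T u)⁻¹) := by group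
        _ = _ := by rw [e1, e2]
    rw [← map_inv, ← map_mul, ← map_mul] at h1
    have h2 := h.emb_inj h1
    obtain ⟨w, rfl⟩ := hx
    obtain ⟨⟨w1, w2⟩, rfl⟩ : ∃ z, Multiplicative.ofAdd z = w := ⟨Multiplicative.toAdd w, rfl⟩
    rw [pl2_apply] at h2
    rw [show PSLn.mk (tor0 (u : F) u.ne_zero) * (rt 1 2 (by decide) w1 * rt 0 2 (by decide) w2) *
        (PSLn.mk (tor0 (u : F) u.ne_zero))⁻¹ = (PSLn.mk (tor0 (u : F) u.ne_zero) * rt 1 2 (by decide) w1 *
        (PSLn.mk (tor0 (u : F) u.ne_zero))⁻¹) * (PSLn.mk (tor0 (u : F) u.ne_zero) * rt 0 2 (by decide) w2 *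
        (PSLn.mk (tor0 (u : F) u.ne_zero))⁻¹) by group, tor0_rt, tor0_rt, ← pl2_apply, ← pl2_apply] at h2
    have h3 := Multiplicative.ofAdd.injective (pl2_injective h2)
    simp only [Prod.mk.injEq] at h3
    obtain ⟨k1, k2⟩ := h3
    simp at k1 k2
    have hu1 : (u : F) ≠ 1 := fun e => hu (Units.ext e)
    have hu2 : (u : F) - 1 ≠ 0 := sub_ne_zero.mpr hu1
    have hw2 : w2 = 0 := by
      have : ((u : F) - 1) * w2 = 0 := by linear_combination k2
      exact (mul_eq_zero.mp this).resolve_left hu2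
    have hw1 : w1 = 0 := by
      have : ((u : F) - 1) * ((u : F) - 1) * w1 = 0 := by
        linear_combination k1 + (1 - (u : F)) * w1 * (CharTwo.two_eq_zero : (2 : F) = 0)
      exact (mul_eq_zero.mp this).resolve_left (mul_ne_zero hu2 hu2)
    rw [hw1, hw2, pl2_apply, rt_zero, rt_zero, one_mul, map_one, eq_comm, inv_mul_eq_one] at e
    exact Subtype.ext e
  -- a point fixed by the torus
  obtain ⟨t, ht⟩ : ∃ t : X, ∀ u : Fˣ, u • t = t := by
    haveI : Nontrivial Fˣ := Fintype.one_lt_card_iff_nontrivial.mp (by rw [Fintype.card_units]; omega)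
    obtain ⟨p, hp, hpd⟩ := Nat.exists_prime_and_dvd (show Nat.card Fˣ ≠ 1 from Finite.one_lt_card.ne')
    haveI : Fact p.Prime := ⟨hp⟩
    obtain ⟨u0, hu0⟩ := exists_prime_orderOf_dvd_card' p hpd
    have hpg : IsPGroup p (Subgroup.zpowers u0) :=
      IsPGroup.of_card (n := 1) (by rw [Nat.card_zpowers, hu0, pow_one])
    have hnd : ¬ p ∣ Nat.card X := by
      rw [hcard]
      intro hd
      have hpq := hp.dvd_of_dvd_pow hd
      rw [Nat.card_eq_fintype_card, Fintype.card_units] at hpd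
      have h1 : p ∣ Fintype.card F - (Fintype.card F - 1) := Nat.dvd_sub hpq hpd
      have h2 : Fintype.card F - (Fintype.card F - 1) = 1 := by omega
      rw [h2, Nat.dvd_one] at h1
      exact hp.ne_one h1
    obtain ⟨t, ht⟩ := hpg.nonempty_fixed_point_of_prime_not_dvd_card X hnd
    have hu0t : u0 • t = t := ht ⟨u0, Subgroup.mem_zpowers u0⟩
    have hu01 : u0 ≠ 1 := fun e => by rw [e, orderOf_one] at hu0; exact hp.ne_one hu0.symm
    exact ⟨t, fun u => huni u0 hu01 _ _ (by rw [← mul_smul, mul_comm, mul_smul, hu0t]) hu0t⟩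
  have hfixT : ∀ u, T u * (t : G) * (T u)⁻¹ = t := fun u => congrArg Subtype.val (ht u)
  obtain ⟨⟨htg, htR⟩, htQ⟩ := mem_slab.mp t.2.1
  have htb : (t : G) • b = a := by
    have := Equiv.ext_iff.mp (hsq _ htR) ⟨a, self_pl h⟩
    have h1 : (t : G) • (t : G) • a = a := congrArg Subtype.val this
    rwa [t.2.2] at h1
  -- the square
  have ht2 : (t : G) * t = 1 := by
    obtain ⟨x, hx, e⟩ := hC.slab_fix hk hR hnorm htr hreg hsq (mul_mem t.2.1 t.2.1)
      (by rw [mul_smul, t.2.2, htb])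
    obtain ⟨u, hu⟩ : ∃ u : Fˣ, u ≠ 1 := by
      haveI : Nontrivial Fˣ := Fintype.one_lt_card_iff_nontrivial.mp (by rw [Fintype.card_units]; omega)
      exact exists_ne 1
    let s' : X := ⟨(t : G) * h.emb x, mul_mem t.2.1 (e.symm ▸ mul_mem t.2.1 t.2.1),
      by rw [mul_smul, h.emb_fix, t.2.2]⟩
    have h1 : u • s' = s' := Subtype.ext (by
      show T u * ((t : G) * h.emb x) * (T u)⁻¹ = (t : G) * h.emb x
      rw [e]
      calc T u * ((t : G) * ((t : G) * t)) * (T u)⁻¹ =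
            (T u * (t : G) * (T u)⁻¹) * (T u * (t : G) * (T u)⁻¹) * (T u * (t : G) * (T u)⁻¹) := by group
        _ = (t : G) * ((t : G) * t) := by rw [hfixT]; group)
    have h2 : t = s' := huni u hu _ _ (ht u) h1
    have h3 : (t : G) = (t : G) * h.emb x := congrArg Subtype.val h2
    rw [left_eq_mul] at h3
    rw [← e, h3]
  -- the centraliser
  have hxo : xo a N a b = (X0P F).map h.emb := by rw [h.xo_base, hb0, ← invP_eq_at]; rfl
  have hmap : ∀ m : X0P F, ∃ m' : P3 F, m' ∈ X0P F ∧ h.emb m' = (t : G) * h.emb m * (t : G)⁻¹ := fun m => by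
    have h1 : h.emb m ∈ xo a N a b := by rw [hxo]; exact Subgroup.mem_map_of_mem _ m.2
    have h2 := xo_conj h1 (t : G)
    rw [t.2.2, htb, h.xo_sym hC.sh hb] at h2
    rw [hxo] at h2
    obtain ⟨m', hm', e⟩ := h2
    exact ⟨m', hm', e⟩
  choose θ hθX hθ using hmap
  let Θ : X0P F →* P3 F := MonoidHom.mk' θ fun m m' => h.emb_inj (by
    rw [map_mul, hθ, hθ, hθ, Subgroup.coe_mul, map_mul]; group)
  have hid := theta_trivial Θ hθX
    (fun m hm => h.emb_inj (by
      show h.emb (θ m) = _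
      rw [hθ, ← htQ _ hm, mul_inv_cancel_right]))
    (fun β hβ m m' e => h.emb_inj (by
      show h.emb (θ m') = h.emb (_ * θ m * _⁻¹)
      have hT : h.emb (PSLn.mk (tor0 β hβ)) = T (Units.mk0 β hβ) := rfl
      have hc : (t : G) * T (Units.mk0 β hβ) = T (Units.mk0 β hβ) * t := by
        conv_lhs => rw [← hfixT (Units.mk0 β hβ)]
        group
      rw [map_mul, map_mul, map_inv, hθ, hθ, e, map_mul, map_mul, map_inv, hT]
      calc (t : G) * (T _ * h.emb m * (T _)⁻¹) * (t : G)⁻¹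
          = ((t : G) * T (Units.mk0 β hβ)) * h.emb m * ((t : G) * T (Units.mk0 β hβ))⁻¹ := by group
        _ = _ := by rw [hc]; group)) hq hcube
  refine ⟨t, ⟨t.2.2, ht2, fun x hi hat hx => ?_⟩, t.2.1⟩
  obtain ⟨m, rfl⟩ := h.emb_surj (h.pt.at_base.mp hat)
  have hm : m ∈ h.inv b := h.inv_of_emb hi hx
  rw [hb0, ← invP_eq_at] at hm
  have hmX : m ∈ X0P F := Subgroup.subset_closure hm
  have h1 : θ ⟨m, hmX⟩ = m := hid ⟨m, hmX⟩
  have h2 := hθ ⟨m, hmX⟩
  rw [h1] at h2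
  exact (mul_inv_eq_iff_eq_mul.mp h2.symm)

/-- The translations. -/
theorem trans_exists (hq : 4 ≤ Fintype.card F) {c : Ω} (hc : c ≠ a) : ∃ t, IsTrans a N c t := by
  obtain ⟨b, hb, hb0⟩ := hC.exists_std
  obtain ⟨t, ht, -⟩ := hC.trans_std hk hR hnorm htr hreg hsq hq hb hb0
  obtain ⟨g, hga, hgc⟩ := h.pt.stab_move hb hc
  exact ⟨_, hgc ▸ hC.trans_conj ht hga⟩

theorem trans_slab (hq : 4 ≤ Fintype.card F) {c : Ω} (hc : c ≠ a) (hcp : c ∈ pl h) {t : G}
    (ht : IsTrans a N c t) : t ∈ slab h R := by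
  obtain ⟨b, hb, hb0⟩ := hC.exists_std
  obtain ⟨t0, ht0, ht0S⟩ := hC.trans_std hk hR hnorm htr hreg hsq hq hb hb0
  obtain ⟨g, hg, hga, hgc⟩ := hC.pl_trans (self_pl h) ((hC.mem_pl hb0).mpr (by simp)) hb.symm (self_pl h) hcp hc.symm
  have h1 := hC.trans_conj ht0 hga
  rw [hgc] at h1
  rw [hC.trans_unique hc ht h1]
  exact hC.slab_conj hk hR hnorm htr hreg hsq hg ht0S

theorem slab_sq (hq : 4 ≤ Fintype.card F) {s : G} (hs : s ∈ slab h R) : s * s = 1 := by
  have hsp : s • a ∈ pl h := ((mem_slab.mp hs).1.choose a).mpr (self_pl h)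
  have hQ2 : ∀ x ∈ A2 F, h.emb x * h.emb x = 1 := fun x hx => by
    rcases eq_or_ne x 1 with rfl | h1
    · rw [map_one, one_mul]
    · obtain ⟨w, -, -, ht⟩ := mem_A2 hx h1
      rw [← map_mul, ht.invol.2, map_one]
  by_cases hsa : s • a = a
  · obtain ⟨x, hx, rfl⟩ := hC.slab_fix hk hR hnorm htr hreg hsq hs hsa
    exact hQ2 x hx
  obtain ⟨t, ht⟩ := hC.trans_exists hk hR hnorm htr hreg hsq hq hsa
  have htS := hC.trans_slab hk hR hnorm htr hreg hsq hq hsa hsp ht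
  obtain ⟨x, hx, e⟩ := hC.slab_fix hk hR hnorm htr hreg hsq (mul_mem (inv_mem htS) hs)
    (by rw [mul_smul, inv_smul_eq_iff, ht.1])
  have hs' : s = t * h.emb x := by rw [e, mul_inv_cancel_left]
  rw [hs']
  calc t * h.emb x * (t * h.emb x) = t * (h.emb x * t) * h.emb x := by simp only [mul_assoc]
    _ = (t * t) * (h.emb x * h.emb x) := by rw [(mem_slab.mp htS).2 x hx]; simp only [mul_assoc]
    _ = 1 := by rw [ht.2.1, hQ2 x hx, one_mul]

theorem trans_comm (hq : 4 ≤ Fintype.card F) {c d : Ω} (hc : c ≠ a) (hd : d ≠ a) {t s : G}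
    (ht : IsTrans a N c t) (hs : IsTrans a N d s) : t * s = s * t := by
  obtain ⟨b, hb, hb0⟩ := hC.exists_std
  obtain ⟨g, hga, hgc⟩ := h.pt.stab_move hc hb
  obtain ⟨v, hv, hv'⟩ := hC.vec (show g • d ≠ a from fun e => hd (MulAction.injective g (e.trans hga.symm)))
  -- a covector vanishing at both points
  obtain ⟨f, hf, hf0, hfv⟩ : ∃ f : V, f ≠ 0 ∧ f 0 = 0 ∧ f ⬝ᵥ v = 0 := by
    by_cases h1 : v 1 = 0
    · exact ⟨Pi.single 1 1, by simp, by simp, by simp [h1]⟩
    · refine ⟨![0, v 2, -v 1], fun e => h1 (by simpa using congrFun e 2), rfl, ?_⟩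
      simp [dotProduct, Fin.sum_univ_three]; ring
  obtain ⟨A, hA, hAf⟩ := X0P_move_axis (f := (Pi.single 2 1 : V)) (f' := f) (by simp) hf (by simp) hf0
  set B := h.emb (PSLn.mk A)
  have hBb : B • b = b := hC.fix_of_vec hb (by simp) hb0 hA
  have hdp : B • g • d ∈ pl h := by
    rw [hC.mem_pl (hC.inv_move A hv')]
    calc (A.1 *ᵥ v) 2 = (Pi.single 2 1 : V) ⬝ᵥ (A.1 *ᵥ v) := by simp
      _ = 0 := by rw [dotProduct_mulVec, hAf, hfv]
  have hka : (B * g) • a = a := by rw [mul_smul, hga, h.emb_fix]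
  have hkc : (B * g) • c = b := by rw [mul_smul, hgc, hBb]
  have ht' := hC.trans_conj ht hka
  have hs' := hC.trans_conj hs hka
  rw [hkc] at ht'
  rw [mul_smul] at hs'
  have htS := hC.trans_slab hk hR hnorm htr hreg hsq hq hb ((hC.mem_pl hb0).mpr (by simp)) ht'
  have hsS := hC.trans_slab hk hR hnorm htr hreg hsq hq
    (fun e => hd (MulAction.injective (B * g) ((mul_smul B g d).trans (e.trans hka.symm)))) hdp hs'
  have h2 : ∀ x y : G, x ∈ slab h R → y ∈ slab h R → x * y = y * x := by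
    intro x y hx hy
    have hsq' := fun {w : G} (hw : w ∈ slab h R) => hC.slab_sq hk hR hnorm htr hreg hsq hq hw
    calc x * y = x * y * (y * x * (y * x)) := by rw [hsq' (mul_mem hy hx), mul_one]
      _ = x * (y * y) * x * y * x := by group
      _ = y * x := by rw [hsq' hy, mul_one, hsq' hx, one_mul]
  have h3 := congrArg (fun w => (B * g)⁻¹ * w * (B * g)) (h2 _ _ htS hsS)
  simpa [mul_assoc] using h3

/-- **The regular normal subgroup.** -/
theorem regular_normal (hq : 4 ≤ Fintype.card F) : ∃ E : Subgroup G, E.Normal ∧ Nat.card E = Fintype.card F ^ 3 ∧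
    (∀ x y : Ω, ∃ r ∈ E, r • x = y) ∧ ∀ x : Ω, ∀ r ∈ E, r • x = x → r = 1 := by
  classical
  set S : Set G := {t | ∃ c, c ≠ a ∧ IsTrans a N c t}
  set E := Subgroup.closure S
  have hcomm : ∀ x ∈ E, ∀ y ∈ E, x * y = y * x := by
    have h1 : ∀ x ∈ S, ∀ y ∈ E, x * y = y * x := by
      rintro x ⟨c, hc, hx⟩ y hy
      have : E ≤ Subgroup.centralizer {x} := by
        rw [Subgroup.closure_le]
        rintro s ⟨d, hd, hs⟩
        exact Subgroup.mem_centralizer_iff.mpr fun z hz => by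
          rw [Set.mem_singleton_iff.mp hz]; exact hC.trans_comm hk hR hnorm htr hreg hsq hq hc hd hx hs
      exact Subgroup.mem_centralizer_iff.mp (this hy) x rfl
    intro x hx y hy
    have : E ≤ Subgroup.centralizer {y} := by
      rw [Subgroup.closure_le]
      exact fun s hs => Subgroup.mem_centralizer_iff.mpr fun z hz => by
        rw [Set.mem_singleton_iff.mp hz]; exact (h1 s hs y hy).symm
    exact (Subgroup.mem_centralizer_iff.mp (this hx) y rfl).symm
  have htrans : ∀ x y : Ω, ∃ r ∈ E, r • x = y := by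
    have key : ∀ c : Ω, ∃ r ∈ E, r • a = c := by
      intro c
      by_cases hc : c = a
      · exact ⟨1, one_mem _, by rw [one_smul, hc]⟩
      · obtain ⟨t, ht⟩ := hC.trans_exists hk hR hnorm htr hreg hsq hq hc
        exact ⟨t, Subgroup.subset_closure ⟨c, hc, ht⟩, ht.1⟩
    intro x y
    obtain ⟨r, hr, rfl⟩ := key x
    obtain ⟨s, hs, rfl⟩ := key y
    exact ⟨s * r⁻¹, mul_mem hs (inv_mem hr), by rw [mul_smul, inv_smul_smul]⟩
  have hfree : ∀ x : Ω, ∀ r ∈ E, r • x = x → r = 1 := by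
    intro x r hr hrx
    refine eq_of_smul_eq_smul (α := Ω) fun y => ?_
    obtain ⟨s, hs, rfl⟩ := htrans x y
    rw [one_smul, ← mul_smul, hcomm r hr s hs, mul_smul, hrx]
  refine ⟨E, ⟨fun n hn g => ?_⟩, ?_, htrans, hfree⟩
  · obtain ⟨r, hr, hra⟩ := htrans a (g • a)
    have hk' : (r⁻¹ * g) • a = a := by rw [mul_smul, inv_smul_eq_iff, hra]
    have h1 : (r⁻¹ * g) * n * (r⁻¹ * g)⁻¹ ∈ E := by
      refine Subgroup.closure_induction (p := fun x _ => (r⁻¹ * g) * x * (r⁻¹ * g)⁻¹ ∈ E) ?_ (by simp)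
        (fun x y _ _ hx hy => ?_) (fun x _ hx => ?_) hn
      · rintro x ⟨c, hc, hx⟩
        exact Subgroup.subset_closure ⟨_, fun e => hc (MulAction.injective _ (e.trans hk'.symm)),
          hC.trans_conj hx hk'⟩
      · simpa [mul_assoc] using mul_mem hx hy
      · simpa [mul_assoc] using inv_mem hx
    have h2 := mul_mem (mul_mem hr h1) (inv_mem hr)
    simpa [mul_assoc] using h2
  · have h1 : Nat.card E = Nat.card Ω := by
      refine Nat.card_eq_of_bijective (fun r : E => (r : G) • a) ⟨fun r r' e => ?_, fun y => ?_⟩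
      · dsimp only at e
        have := hfree a _ (mul_mem (inv_mem r'.2) r.2) (by rw [mul_smul, e, inv_smul_smul])
        exact Subtype.ext (inv_mul_eq_one.mp this).symm
      · obtain ⟨r, hr, e⟩ := htrans a y
        exact ⟨⟨r, hr⟩, e⟩
    rw [h1, hC.card_omega, ← hk]
    ring

end Reg

end PCtx

end CfsgLib.PlaneStab
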