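import Cfsg.Agent.Lib.PlaneStab.Semi
import Cfsg.Agent.Lib.PlaneStab.BPlanes

/-!
The shape of a point: semiregularity, and the two groups of involutions of a pair coincide.

Blueprint: `blueprint/S3727.md`, section 3.
-/

set_option autoImplicit false
set_option linter.unusedSectionVars false

namespace CfsgLib.PlaneStab

open Matrix MulAction CfsgLib.PSLn CfsgLib.RankOnePoint
open scoped commutatorElement

universe u v

variable {F : Type} [Field F] [Fintype F] [CharP F 2]

/-- A normal subgroup of the point group without involutions is trivial. -/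
theorem no_invol_normal {K : Subgroup (P3 F)} (hle : K ≤ X0P F) (hn : ∀ k ∈ K, ∀ x ∈ X0P F, x * k * x⁻¹ ∈ K)
    (hK : ∀ k ∈ K, ¬ Invol k) : K = ⊥ := by
  haveI : Fact (Nat.Prime 2) := ⟨Nat.prime_two⟩
  haveI : Finite (P3 F) := Quotient.finite _
  have hodd : ∀ k ∈ K, ¬ 2 ∣ orderOf k := by
    intro k hk hd
    have ho : orderOf (k ^ (orderOf k / 2)) = 2 := orderOf_pow_orderOf_div (orderOf_pos k).ne' hd
    refine hK (k ^ (orderOf k / 2)) (pow_mem hk _) ⟨fun e => ?_, ?_⟩
    · rw [e, orderOf_one] at ho; omega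
    · have h2 := pow_orderOf_eq_one (k ^ (orderOf k / 2))
      rwa [ho, pow_two] at h2
  have hU : IsPGroup 2 (upperHom F 3).range := by
    rw [← coe_upperSylow 2]
    exact (upperSylow (F := F) (n := 3) 2).2
  have hboth : ∀ k ∈ K, k ∈ (upperHom F 3).range → k = 1 := by
    intro k hk hkU
    obtain ⟨n, hn'⟩ := hU ⟨k, hkU⟩
    have h1 : k ^ 2 ^ n = 1 := by simpa [Subtype.ext_iff] using hn'
    have h2 : Nat.Coprime (orderOf k) (2 ^ n) :=
      Nat.Coprime.pow_right _ ((Nat.prime_two.coprime_iff_not_dvd.mpr (hodd k hk)).symm)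
    exact orderOf_eq_one_iff.mp (Nat.Coprime.eq_one_of_dvd h2 (orderOf_dvd_of_pow_eq_one h1))
  refine (Subgroup.eq_bot_iff_forall _).mpr fun k hk => ?_
  have hkX := hle hk
  rw [X0P_eq] at hkX
  obtain ⟨A, rfl, hA⟩ := hkX
  have hcomm : ∀ (j : Fin 3) (hj : (0 : Fin 3) ≠ j) (c : F), mk A * rt 0 j hj c = rt 0 j hj c * mk A := by
    intro j hj c
    rcases eq_or_ne c 0 with rfl | hc
    · rw [rt_zero, mul_one, one_mul]
    set x := rt 0 j hj c with hx
    have hxU : x ∈ (upperHom F 3).range := rt_mem_upper (lt_of_le_of_ne (Fin.zero_le _) hj) c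
    have h1 : mk A * x * (mk A)⁻¹ ∈ (upperHom F 3).range := by
      have h2 := (IsTv.xx (F := F) 0 j hj hc).conj A
      refine invB_mem_range ⟨_, _, h2, ?_, ?_⟩
      · have hA' : (A⁻¹).1 *ᵥ (Pi.single 0 1 : Fin 3 → F) = Pi.single 0 1 := by
          have e : (A⁻¹).1 * A.1 = 1 := congrArg Subtype.val (inv_mul_cancel A)
          conv_lhs => rw [← hA]
          rw [mulVec_mulVec, e, one_mulVec]
        rw [Matrix.single_one_vecMul]
        have := congrFun hA' j
        rw [Matrix.mulVec_single_one, Pi.single_eq_of_ne hj.symm] at this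
        exact this
      · rw [mulVec_smul, hA]; simp
    have h3 : mk A * x * (mk A)⁻¹ * x⁻¹ ∈ K := by
      have h4 := mul_mem hk (hn _ (inv_mem hk) x (rt_invP hj (Ne.symm hj) c))
      simpa [mul_assoc] using h4
    have := hboth _ h3 (mul_mem h1 (inv_mem hxU))
    rwa [mul_inv_eq_one, mul_inv_eq_iff_eq_mul] at this
  refine hboth _ hk ⟨⟨A, ?_⟩, rfl⟩
  have he : ∀ (j : Fin 3) (hj : (0 : Fin 3) ≠ j), A.1 * single 0 j (1 : F) = single 0 j (1 : F) * A.1 := by
    intro j hj
    have h5 := single_comm_of_eq (F := F) (g := SpecialLinearGroup.toGL A) (e := 1) (hij := hj) (hkl := hj)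
      (a := (1 : F)) (b := (1 : F)) (by
        rw [map_one, mul_one, diagAut_toGL, MulAut.conj_apply]
        show mk A * rt 0 j hj 1 * (mk A)⁻¹ = rt 0 j hj 1
        rw [hcomm, mul_inv_cancel_right])
    exact h5
  have a0 : ∀ i, A.1 i 0 = (1 : Matrix (Fin 3) (Fin 3) F) i 0 := fun i => by
    have := congrFun hA i
    rw [Matrix.mulVec_single_one] at this
    fin_cases i <;> simpa [Pi.single_apply, Matrix.one_apply] using this
  have r : ∀ j : Fin 3, (0 : Fin 3) ≠ j → ∀ l, A.1 j l = (1 : Matrix (Fin 3) (Fin 3) F) j l := by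
    intro j hj l
    have := congrFun (congrFun (he j hj) 0) l
    by_cases hl : l = j
    · subst hl
      rw [Matrix.mul_single_apply_same, Matrix.single_mul_apply_same, a0 0, Matrix.one_apply_eq, one_mul,
        one_mul] at this
      rw [Matrix.one_apply_eq]; exact this.symm
    · rw [Matrix.mul_single_apply_of_ne (hbj := hl), Matrix.single_mul_apply_same, one_mul] at this
      rw [Matrix.one_apply_ne (Ne.symm hl)]; exact this.symm
  intro i l hil
  fin_cases i
  · rw [show l = 0 from le_antisymm hil (Fin.zero_le _)]; exact a0 0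
  · exact r 1 (by decide) l
  · exact r 2 (by decide) l

/-- An action of a point group is faithful if no involution acts trivially. -/
theorem ker_eq_bot {M : Type*} [Group M] {ψ : MulAut (P3 F)}
    (f : ((X0P F).map ψ.toMonoidHom : Subgroup (P3 F)) →* M) (h : ∀ x, f x = 1 → ¬ Invol (x : P3 F)) :
    f.ker = ⊥ := by
  set K : Subgroup (P3 F) := (f.ker.map (Subgroup.subtype _)).comap ψ.toMonoidHom with hK
  have mem : ∀ z, z ∈ K → ∃ x, f x = 1 ∧ (x : P3 F) = ψ z := by
    intro z hz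
    obtain ⟨x, hx, e⟩ := Subgroup.mem_map.mp (Subgroup.mem_comap.mp hz)
    exact ⟨x, hx, e⟩
  have hle : K ≤ X0P F := by
    intro z hz
    obtain ⟨x, -, e⟩ := mem z hz
    obtain ⟨m, hm, hmx⟩ := Subgroup.mem_map.mp x.2
    rw [← ψ.injective (hmx.trans e)]; exact hm
  have hbot : K = ⊥ := by
    refine no_invol_normal hle (fun z hz m hm => ?_) fun z hz hi => ?_
    · obtain ⟨x, hx, e⟩ := mem z hz
      refine Subgroup.mem_comap.mpr (Subgroup.mem_map.mpr
        ⟨⟨ψ m, Subgroup.mem_map_of_mem _ hm⟩ * x * ⟨ψ m, Subgroup.mem_map_of_mem _ hm⟩⁻¹,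
          f.normal_ker.conj_mem x hx _, ?_⟩)
      show ψ m * (x : P3 F) * (ψ m)⁻¹ = ψ (m * z * m⁻¹)
      rw [e, map_mul, map_mul, map_inv]
    · obtain ⟨x, hx, e⟩ := mem z hz
      exact h x hx (e ▸ (Invol.map (f := ψ.toMonoidHom) ψ.injective).mpr hi)
  refine (Subgroup.eq_bot_iff_forall _).mpr fun x hx => ?_
  obtain ⟨z, -, e⟩ := Subgroup.mem_map.mp x.2
  have hzK : z ∈ K := Subgroup.mem_comap.mpr (Subgroup.mem_map.mpr ⟨x, hx, e.symm⟩)
  rw [hbot, Subgroup.mem_bot] at hzK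
  refine Subtype.ext ?_
  rw [← e, hzK, map_one, OneMemClass.coe_one]

/-- A faithful type preserving action of the point group keeping a point is by the inner automorphisms of that point
group. -/
theorem range_eq {φ ψ : MulAut (P3 F)} (f : ((X0P F).map ψ.toMonoidHom : Subgroup (P3 F)) →* MulAut (P3 F))
    (hker : f.ker = ⊥) (hf : ∀ x, f x '' (φ '' invP F) = φ '' invP F) :
    f.range = ((X0P F).map φ.toMonoidHom).map MulAut.conj := by
  haveI : Finite (P3 F) := Quotient.finite _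
  haveI : Finite (MulAut (P3 F)) := Finite.of_injective (fun e : MulAut (P3 F) => (e : P3 F → P3 F))
    DFunLike.coe_injective
  set H' := f.range.map (MulAut.conj φ⁻¹).toMonoidHom with hH'
  have hP' : ∀ χ ∈ H', χ '' invP F = invP F := by
    rintro _ ⟨_, ⟨w, rfl⟩, rfl⟩
    show (φ⁻¹ * f w * φ⁻¹⁻¹ : MulAut (P3 F)) '' invP F = invP F
    rw [inv_inv, mem_image_mul, mem_image_mul, hf w, ← mem_image_mul, inv_mul_cancel, MulAut.coe_one, Set.image_id]
  have hperf : 4 ≤ Fintype.card F → H' ≤ ⁅H', H'⁆ := by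
    intro hq
    have hL' : (X0P F).map ψ.toMonoidHom ≤ ⁅(X0P F).map ψ.toMonoidHom, (X0P F).map ψ.toMonoidHom⁆ := by
      rw [← Subgroup.map_commutator]; exact Subgroup.map_mono (X0P_perfect hq)
    have hT : (⊤ : Subgroup ((X0P F).map ψ.toMonoidHom : Subgroup (P3 F))) ≤
        ⁅(⊤ : Subgroup ((X0P F).map ψ.toMonoidHom : Subgroup (P3 F))),
          (⊤ : Subgroup ((X0P F).map ψ.toMonoidHom : Subgroup (P3 F)))⁆ := by
      rw [← Subgroup.map_subtype_le_map_subtype, Subgroup.map_commutator, ← MonoidHom.range_eq_map,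
        Subgroup.range_subtype]
      exact hL'
    rw [hH', MonoidHom.range_eq_map, Subgroup.map_map, ← Subgroup.map_commutator]
    exact Subgroup.map_mono hT
  have hle := le_conj_X0P hP' hperf
  have hcard : Nat.card f.range = Nat.card (X0P F) := by
    rw [← Nat.card_congr (MonoidHom.ofInjective ((MonoidHom.ker_eq_bot_iff _).mp hker)).toEquiv]
    exact (Nat.card_congr ((X0P F).equivMapOfInjective _ ψ.injective).toEquiv).symm
  have hfin : H' = (X0P F).map MulAut.conj := by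
    refine Subgroup.eq_of_le_of_card_ge hle (le_of_eq ?_)
    rw [hH', ← Nat.card_congr (f.range.equivMapOfInjective _ (MulAut.conj φ⁻¹).injective).toEquiv, hcard,
      ← Nat.card_congr ((X0P F).equivMapOfInjective _ conj_injective).toEquiv]
  have e2 : f.range = H'.map (MulAut.conj φ).toMonoidHom := by
    rw [hH', Subgroup.map_map]
    conv_lhs => rw [← Subgroup.map_id f.range]
    congr 1
    ext w x
    simp
  rw [e2, hfin, Subgroup.map_map, Subgroup.map_map]
  congr 1
  ext m x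
  simp [mul_assoc]

namespace Hyp

variable {G : Type u} {Ω : Type v} [Group G] [MulAction G Ω] {a : Ω} {N : Subgroup G}
  [Finite G] [Finite Ω] [FaithfulSMul G Ω] (h : Hyp G a N F)
include h

theorem xo_base (d : Ω) : xo a N a d = (Subgroup.closure (h.inv d)).map h.emb := by
  rw [MonoidHom.map_closure, xo]
  congr 1
  ext x
  constructor
  · rintro ⟨hi, hx, hd⟩
    obtain ⟨y, rfl⟩ := h.emb_surj (h.pt.at_base.mp hx)
    exact ⟨y, ⟨(Invol.map h.emb_inj).mp hi, hd⟩, rfl⟩
  · rintro ⟨y, ⟨hi, hd⟩, rfl⟩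
    exact ⟨(Invol.map h.emb_inj).mpr hi, h.pt.at_base.mpr (h.emb_mem y), hd⟩

section P

variable (hP : ∀ b, b ≠ a → ShP (h.inv b))
include hP

/-- The action of `xo b a` on `N` is by the inner automorphisms of `xo a b`. -/
theorem image_P {b : Ω} (hb : b ≠ a) {φ : MulAut (P3 F)} (hφ : h.inv b = φ '' invP F) :
    ∃ H : Subgroup (stabilizer G a), (∀ w, w ∈ H ↔ (w : G) ∈ xo a N b a) ∧
      H.map h.act = ((X0P F).map φ.toMonoidHom).map MulAut.conj := by
  classical
  haveI := h.pt.pretrans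
  refine ⟨(xo a N b a).subgroupOf _, fun w => Subgroup.mem_subgroupOf, ?_⟩
  obtain ⟨g, hga, hgd'⟩ : ∃ g : G, g • a = b ∧ g • b = a := h.pt.trans a b b a hb.symm hb
  obtain ⟨ψ, -, hψ⟩ := hP b hb
  have hxo : xo a N a b = ((X0P F).map ψ.toMonoidHom).map h.emb := by
    rw [h.xo_base, hψ, X0P, MonoidHom.map_closure, MonoidHom.map_closure]
    congr 1
    rw [MonoidHom.map_closure]
    rfl
  have hι : ∀ w : G, w ∈ xo a N b a ↔ ∃ x ∈ (X0P F).map ψ.toMonoidHom, g * h.emb x * g⁻¹ = w := by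
    intro w
    constructor
    · intro hw
      have h1 : g⁻¹ * w * g ∈ xo a N a b := by
        have := xo_conj hw g⁻¹
        rwa [inv_smul_eq_iff.mpr hga.symm, inv_smul_eq_iff.mpr hgd'.symm, inv_inv] at this
      rw [hxo] at h1
      obtain ⟨x, hx, e⟩ := h1
      exact ⟨x, hx, by rw [e]; group⟩
    · rintro ⟨x, hx, rfl⟩
      have hx' : h.emb x ∈ xo a N a b := by rw [hxo]; exact Subgroup.mem_map_of_mem _ hx
      have := xo_conj hx' g
      rwa [hga, hgd'] at this
  have hιa : ∀ x : ((X0P F).map ψ.toMonoidHom : Subgroup (P3 F)), g * h.emb x * g⁻¹ ∈ stabilizer G a := fun x =>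
    mem_stabilizer_iff.mpr (xo_at h.pt ((hι _).mpr ⟨x, x.2, rfl⟩)).2.2
  let κ : ((X0P F).map ψ.toMonoidHom : Subgroup (P3 F)) →* stabilizer G a :=
    ((MulAut.conj g).toMonoidHom.comp (h.emb.comp (Subgroup.subtype _))).codRestrict _ hιa
  have hκ : κ.range = (xo a N b a).subgroupOf (stabilizer G a) := by
    ext w
    rw [MonoidHom.mem_range, Subgroup.mem_subgroupOf, hι]
    exact ⟨fun ⟨x, e⟩ => ⟨x, x.2, congrArg Subtype.val e⟩, fun ⟨x, hx, e⟩ => ⟨⟨x, hx⟩, Subtype.ext e⟩⟩
  rw [← hκ, ← MonoidHom.range_comp]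
  refine range_eq _ ?_ fun x => ?_
  swap
  · obtain ⟨-, hxb, -⟩ := xo_at h.pt ((hι _).mpr ⟨x, x.2, rfl⟩)
    rw [← hφ, MonoidHom.comp_apply, ← h.inv_conj]
    exact congrArg h.inv hxb
  -- the action is faithful
  refine ker_eq_bot _ fun x hx hi => ?_
  have hxc : g * h.emb x * g⁻¹ ∈ cls N :=
    cls_conj (h.pt.mem_cls (h.emb_mem _) ((Invol.map h.emb_inj).mpr hi)) g
  exact h.cent_no_member (Or.inl hP) hxc ((h.mem_cent_act (mem_stabilizer_iff.mp (hιa x))).mpr hx)

/-- `C_b ∩ G_a ≤ C_a` for the shape of a point. -/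
theorem wfix_sym_base {b : Ω} (hb : b ≠ a) : wfix a N b a ≤ cent a N a := by
  intro w hw
  obtain ⟨φ, -, hφ⟩ := hP b hb
  obtain ⟨H, hH, hmap⟩ := h.image_P hP hb hφ
  have hwa : w • a = a := hw.2
  have hwc : w ∈ cent a N b := hw.1
  rw [h.mem_cent_act hwa]
  set ω : stabilizer G a := ⟨w, mem_stabilizer_iff.mpr hwa⟩
  have hfix : ∀ x ∈ invP F, h.act ω (φ x) = φ x := by
    intro x hx
    have hm : MulAut.conj (φ x) ∈ H.map h.act := by
      rw [hmap]; exact ⟨_, ⟨x, Subgroup.subset_closure hx, rfl⟩, rfl⟩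
    obtain ⟨y, hy, e⟩ := hm
    have hyx : (y : G) * w * (y : G)⁻¹ = w := cent_commute h.pt hwc (xo_at h.pt ((hH y).mp hy)).1
    have hcm : ω * y * ω⁻¹ = y := by
      refine Subtype.ext ?_
      show w * y * w⁻¹ = y
      rw [mul_inv_eq_iff_eq_mul] at hyx ⊢
      exact hyx.symm
    apply conj_injective
    rw [← e]
    have h2 : h.act ω * h.act y * (h.act ω)⁻¹ = h.act y := by rw [← map_inv, ← map_mul, ← map_mul, hcm]
    conv_rhs => rw [← h2, e]
    ext z
    simp [mul_assoc]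
  have h1 : φ⁻¹ * h.act ω * φ = 1 := eq_one_of_fix_P fun x hx => by
    rw [MulAut.mul_apply, MulAut.mul_apply, hfix x hx, MulAut.inv_apply_self]
  have h3 : φ * (φ⁻¹ * h.act ω * φ) * φ⁻¹ = 1 := by rw [h1]; group
  simpa [mul_assoc] using h3

theorem wfix_P {c d : Ω} (hcd : c ≠ d) : wfix a N c d = ⊥ := by
  haveI := h.pt.pretrans
  refine wfix_trivial h.pt (fun c d hne w hw => ?_) (fun b hb => ?_) hcd
  · obtain ⟨g, hg⟩ := exists_smul_eq G a d
    subst hg
    have hb : g⁻¹ • c ≠ a := fun e => hne (by rw [← e, smul_inv_smul])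
    have h1 := wfix_conj hw g⁻¹
    rw [inv_smul_smul] at h1
    have h2 := cent_conj (h.wfix_sym_base hP hb h1) g
    simpa [mul_assoc] using h2
  · obtain ⟨φ, -, hφ⟩ := hP b hb
    obtain ⟨H, hH, hmap⟩ := h.image_P hP hb hφ
    have hm : MulAut.conj (φ (rt 0 1 (by decide) 1)) ∈ H.map h.act := by
      rw [hmap]; exact ⟨_, ⟨_, rt_invP (by decide) (by decide) (1 : F), rfl⟩, rfl⟩
    obtain ⟨x, hx, e⟩ := hm
    refine ⟨x, (hH x).mp hx, h.emb (φ (rt 1 2 (by decide) 1)), ?_, fun e1 => ?_⟩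
    · rw [h.xo_base, hφ]
      exact ⟨_, Subgroup.subset_closure ⟨_, rt_mem_invP (by decide) (by decide), rfl⟩, rfl⟩
    have h1 := h.emb_act x (φ (rt 1 2 (by decide) 1))
    rw [e, e1, mul_inv_cancel_right] at h1
    have h2 := h.emb_inj h1
    rw [MulAut.conj_apply, ← map_inv, ← map_mul, ← map_mul] at h2
    have h3 : rt 0 1 (by decide) (1 : F) * rt 1 2 (by decide) 1 * (rt 0 1 (by decide) 1)⁻¹ = rt 1 2 (by decide) 1 :=
      φ.injective h2
    have h4 := rt_comm (F := F) (i := 0) (j := 1) (k := 2) (by decide) (by decide) (by decide) 1 1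
    rw [h3, mul_inv_cancel, mul_one] at h4
    exact rt_ne one_ne_zero h4.symm

theorem act_inj_P {b : Ω} (hb : b ≠ a) {g : stabilizer G a} (hgb : (g : G) • b = b) (hg : h.act g = 1) : g = 1 := by
  have h1 : (g : G) ∈ cent a N a := (h.mem_cent_act (mem_stabilizer_iff.mp g.2)).mpr hg
  have h2 : (g : G) ∈ wfix a N a b := ⟨h1, mem_stabilizer_iff.mpr hgb⟩
  rw [h.wfix_P hP hb.symm, Subgroup.mem_bot] at h2
  exact Subtype.ext h2

/-- **The two groups of involutions of a pair coincide.** -/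
theorem xo_sym {c d : Ω} (hcd : c ≠ d) : xo a N c d = xo a N d c := by
  haveI := h.pt.pretrans
  suffices key : ∀ c d : Ω, c ≠ d → xo a N c d ≤ xo a N d c from le_antisymm (key c d hcd) (key d c hcd.symm)
  intro c d hcd w hw
  obtain ⟨g, hg⟩ := exists_smul_eq G a d
  subst hg
  have hb : g⁻¹ • c ≠ a := fun e => hcd (by rw [← e, smul_inv_smul])
  have h1 := xo_conj hw g⁻¹
  rw [inv_smul_smul, inv_inv] at h1
  have key : ∀ b, b ≠ a → ∀ x, x ∈ xo a N b a → x ∈ xo a N a b := by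
    intro b hb x hx
    obtain ⟨φ, -, hφ⟩ := hP b hb
    obtain ⟨H, hH, hmap⟩ := h.image_P hP hb hφ
    obtain ⟨-, hxb, hxa⟩ := xo_at h.pt hx
    have hm : h.act ⟨x, mem_stabilizer_iff.mpr hxa⟩ ∈ H.map h.act := ⟨_, (hH _).mpr hx, rfl⟩
    rw [hmap] at hm
    obtain ⟨m, hm, e⟩ := hm
    have hmX : h.emb m ∈ xo a N a b := by
      rw [h.xo_base, hφ]
      refine Subgroup.mem_map_of_mem _ ?_
      rw [X0P, MonoidHom.map_closure] at hm
      exact hm
    have hmb := (xo_at h.pt hmX).2.2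
    have h2 := h.act_inj_P hP hb (g := ⟨x, mem_stabilizer_iff.mpr hxa⟩ * ⟨h.emb m, mem_stabilizer_iff.mpr (h.emb_fix m)⟩⁻¹)
      (show (x * (h.emb m)⁻¹) • b = b by rw [mul_smul, inv_smul_eq_iff.mpr hmb.symm, hxb])
      (by rw [map_mul, map_inv, h.act_emb, e, mul_inv_cancel])
    rw [mul_inv_eq_one] at h2
    rw [show x = h.emb m from congrArg Subtype.val h2]
    exact hmX
  have h3 := xo_conj (key _ hb _ h1) g
  simpa [mul_assoc] using h3

end P

end Hyp

end CfsgLib.PlaneStab
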