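import Cfsg.Agent.Lib.PSLn.Extend
import Cfsg.Agent.Lib.PSLn.Sylow
import Cfsg.Agent.Lib.RankOnePoint.Basic

/-!
The involutions of `PSL₃` over a field of characteristic two: they are the transvections, they form one class; their
number, and the numbers of those fixing a point or a flag.

Blueprint: `blueprint/S3727.md`, sections 1 and 2.
-/

set_option autoImplicit false
set_option linter.unusedSectionVars false

namespace CfsgLib.PlaneStab

open Matrix CfsgLib.PSLn CfsgLib.RankOnePoint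
open scoped MatrixGroups

abbrev P3 (F : Type) [Field F] := Matrix.ProjectiveSpecialLinearGroup (Fin 3) F
abbrev S3L (F : Type) [Field F] := Matrix.SpecialLinearGroup (Fin 3) F

variable {F : Type} [Field F]

local notation "V" => (Fin 3 → F)

/-- `x` is the image of the transvection with centre `v` and axis `f`. -/
def IsTv (x : P3 F) (v f : V) : Prop :=
  ∃ h : f ⬝ᵥ v = 0, v ≠ 0 ∧ f ≠ 0 ∧ mk (tv v f h) = x

theorem IsTv.inc {x : P3 F} {v f : V} (h : IsTv x v f) : f ⬝ᵥ v = 0 := h.1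
theorem IsTv.centre_ne {x : P3 F} {v f : V} (h : IsTv x v f) : v ≠ 0 := h.2.1
theorem IsTv.axis_ne {x : P3 F} {v f : V} (h : IsTv x v f) : f ≠ 0 := h.2.2.1

theorem IsTv.smul {x : P3 F} {v f : V} (h : IsTv x v f) {c : F} (hc : c ≠ 0) : IsTv x (c • v) (c⁻¹ • f) := by
  obtain ⟨h0, hv, hf, rfl⟩ := h
  refine ⟨by rw [smul_dotProduct, dotProduct_smul, h0, smul_zero, smul_zero], smul_ne_zero hc hv,
    smul_ne_zero (inv_ne_zero hc) hf, congrArg mk (coe_inj_of_congr _ _ ?_)⟩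
  rw [smul_vecMulVec, vecMulVec_smul, smul_smul, mul_inv_cancel₀ hc, one_smul]

theorem IsTv.mk_ne {x : P3 F} {v f : V} (h : IsTv x v f) : x ≠ 1 := by
  obtain ⟨h0, hv, hf, rfl⟩ := h
  intro e
  have e1 : mk (tv v f h0) = mk (tv v (0 : V) (zero_dotProduct _)) := by
    rw [e, show tv v (0 : V) (zero_dotProduct _) = 1 from Subtype.ext (by rw [coe_tv]; simp), map_one]
  have e2 := mk_tv_injective e1
  rw [vecMulVec_zero] at e2
  obtain ⟨i, hi⟩ := Function.ne_iff.mp hv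
  obtain ⟨j, hj⟩ := Function.ne_iff.mp hf
  exact mul_ne_zero hi hj (congrFun (congrFun e2 i) j)

theorem IsTv.invol [CharP F 2] {x : P3 F} {v f : V} (h : IsTv x v f) : Invol x := by
  refine ⟨h.mk_ne, ?_⟩
  obtain ⟨h0, -, -, rfl⟩ := h
  have e : tv v f h0 * tv v f h0 = 1 := Subtype.ext (by
    show (tv v f h0).1 * (tv v f h0).1 = 1
    rw [coe_tv, Matrix.add_mul, Matrix.one_mul,
      Matrix.mul_add, Matrix.mul_one, vecMulVec_sq h0, add_zero, add_assoc,
      show vecMulVec v f + vecMulVec v f = 0 from Matrix.ext fun i j => CharTwo.add_self_eq_zero _, add_zero])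
  rw [← map_mul, e, map_one]

/-- Centre and axis are determined up to a scalar. -/
theorem IsTv.unique {x : P3 F} {v f v' f' : V} (h : IsTv x v f) (h' : IsTv x v' f') :
    ∃ c : F, c ≠ 0 ∧ v' = c • v ∧ f' = c⁻¹ • f := by
  obtain ⟨h0, hv, hf, rfl⟩ := h
  obtain ⟨h0', hv', hf', e⟩ := h'
  have e1 := mk_tv_injective e
  obtain ⟨j, hj⟩ := Function.ne_iff.mp hf'
  rw [Pi.zero_apply] at hj
  have hjv : ∀ i, v' i * f' j = v i * f j := fun i => congrFun (congrFun e1 i) j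
  have hfj : f j ≠ 0 := fun e2 => hv' (funext fun i => by
    have := hjv i; rw [e2, mul_zero, mul_eq_zero] at this; exact this.resolve_right hj)
  refine ⟨f j / f' j, div_ne_zero hfj hj, funext fun i => ?_, funext fun k => ?_⟩
  · rw [Pi.smul_apply, smul_eq_mul, div_mul_eq_mul_div, eq_div_iff hj, hjv i, mul_comm]
  · obtain ⟨i, hi⟩ := Function.ne_iff.mp hv
    rw [Pi.zero_apply] at hi
    have h1 : v' i * f' k = v i * f k := congrFun (congrFun e1 i) k
    have h2 := hjv i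
    rw [Pi.smul_apply, smul_eq_mul, inv_div, div_mul_eq_mul_div, eq_div_iff hfj]
    refine mul_left_cancel₀ hi ?_
    calc v i * (f' k * f j) = f' k * (v i * f j) := by ring
      _ = f' k * (v' i * f' j) := by rw [h2]
      _ = f' j * (v' i * f' k) := by ring
      _ = v i * (f' j * f k) := by rw [h1]; ring

theorem IsTv.conjGL {x : P3 F} {v f : V} (h : IsTv x v f) (g : GL (Fin 3) F) :
    IsTv (diagAut g x) (g.1 *ᵥ v) (f ᵥ* (g⁻¹).1) := by
  obtain ⟨h0, hv, hf, rfl⟩ := h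
  obtain ⟨h', e⟩ := conjSL_tv g v f h0
  refine ⟨h', fun e0 => hv ?_, fun e0 => hf ?_, by rw [diagAut_mk, e]⟩
  · have := congrArg (fun w => (g⁻¹).1 *ᵥ w) e0
    simpa [mulVec_mulVec, ← Units.val_mul] using this
  · have := congrArg (fun w => w ᵥ* g.1) e0
    simpa [vecMul_vecMul, ← Units.val_mul] using this

theorem IsTv.conj {x : P3 F} {v f : V} (h : IsTv x v f) (A : S3L F) :
    IsTv (mk A * x * (mk A)⁻¹) (A.1 *ᵥ v) (f ᵥ* (A⁻¹).1) := by
  have h1 := h.conjGL (SpecialLinearGroup.toGL A)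
  rw [diagAut_toGL, MulAut.conj_apply] at h1
  rw [← map_inv] at h1
  exact h1

theorem IsTv.xx (i j : Fin 3) (hij : i ≠ j) {c : F} (hc : c ≠ 0) :
    IsTv (mk (PSLn.xx i j hij c)) (c • (Pi.single i 1 : V)) (Pi.single j 1) :=
  ⟨dot_single_ne hij c, smul_ne_zero hc (by simp), by simp, by rw [xx_eq_tv]⟩

/-- The point of `v` lies on the axis of every transvection with axis `f` vanishing on it. -/
def invP (F : Type) [Field F] : Set (P3 F) := {x | ∃ v f : Fin 3 → F, IsTv x v f ∧ f 0 = 0}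

/-- The involutions fixing the line `x₂ = 0`. -/
def invL (F : Type) [Field F] : Set (P3 F) := {x | ∃ v f : Fin 3 → F, IsTv x v f ∧ v 2 = 0}

/-- The involutions of the upper unitriangular group. -/
def invB (F : Type) [Field F] : Set (P3 F) := {x | ∃ v f : Fin 3 → F, IsTv x v f ∧ f 0 = 0 ∧ v 2 = 0}

theorem invB_eq_inter : invB F = invP F ∩ invL F := by
  ext x
  constructor
  · rintro ⟨v, f, h, hf, hv⟩
    exact ⟨⟨v, f, h, hf⟩, v, f, h, hv⟩
  · rintro ⟨⟨v, f, h, hf⟩, v', f', h', hv'⟩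
    obtain ⟨c, hc, rfl, rfl⟩ := h.unique h'
    exact ⟨_, _, h', by simp [hf], hv'⟩

variable [Fintype F] [CharP F 2]

theorem exists_upper_tv {A : S3L F} (hA : A ∈ upper F 3) (h1 : mk A ≠ 1) (h2 : mk A * mk A = 1) :
    mk A ∈ invB F := by
  have hAA : A * A = 1 := by
    have e1 : upperHom F 3 (⟨A, hA⟩ * ⟨A, hA⟩) = upperHom F 3 1 := by
      rw [map_mul, map_one]; exact h2
    exact congrArg Subtype.val (upperHom_injective e1)
  have hl : ∀ i j, j ≤ i → A.1 i j = (1 : Matrix (Fin 3) (Fin 3) F) i j := hA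
  have e : (A.1 * A.1) 0 2 = (1 : Matrix (Fin 3) (Fin 3) F) 0 2 :=
    congrFun (congrFun (congrArg Subtype.val hAA) 0) 2
  rw [Matrix.mul_apply, Fin.sum_univ_three, hl 0 0 le_rfl, hl 2 2 le_rfl] at e
  simp only [Matrix.one_apply_eq, one_mul, mul_one, Matrix.one_apply_ne (show (0 : Fin 3) ≠ 2 by decide)] at e
  rw [add_right_comm, CharTwo.add_self_eq_zero, zero_add, mul_eq_zero] at e
  have hne : A.1 ≠ 1 := fun e1 => h1 (by rw [show A = 1 from Subtype.ext e1, map_one])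
  rcases e with e | e
  · refine ⟨![A.1 0 2, A.1 1 2, 0], Pi.single 2 1, ⟨by simp [single_dotProduct], fun e0 => hne ?_, by simp,
      congrArg mk (Subtype.ext ?_)⟩, by simp, by simp⟩
    · have a1 := congrFun e0 0
      have a2 := congrFun e0 1
      simp at a1 a2
      ext i j
      fin_cases i <;> fin_cases j <;> first | exact hl _ _ (by decide) | simp [e, a1, a2]
    · rw [coe_tv]
      ext i j
      rw [Matrix.add_apply, vecMulVec_apply]
      fin_cases i <;> fin_cases j <;>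
        simp [e, hl _ _ (by decide : (0 : Fin 3) ≤ 0), hl _ _ (by decide : (0 : Fin 3) ≤ 1),
          hl _ _ (by decide : (0 : Fin 3) ≤ 2), hl _ _ (by decide : (1 : Fin 3) ≤ 1),
          hl _ _ (by decide : (1 : Fin 3) ≤ 2), hl _ _ (by decide : (2 : Fin 3) ≤ 2)]
  · refine ⟨Pi.single 0 1, ![0, A.1 0 1, A.1 0 2], ⟨by simp, by simp, fun e0 => hne ?_,
      congrArg mk (Subtype.ext ?_)⟩, by simp, by simp⟩
    · have a1 := congrFun e0 1
      have a2 := congrFun e0 2
      simp at a1 a2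
      ext i j
      fin_cases i <;> fin_cases j <;> first | exact hl _ _ (by decide) | simp [e, a1, a2]
    · rw [coe_tv]
      ext i j
      rw [Matrix.add_apply, vecMulVec_apply]
      fin_cases i <;> fin_cases j <;>
        simp [e, hl _ _ (by decide : (0 : Fin 3) ≤ 0), hl _ _ (by decide : (0 : Fin 3) ≤ 1),
          hl _ _ (by decide : (0 : Fin 3) ≤ 2), hl _ _ (by decide : (1 : Fin 3) ≤ 1),
          hl _ _ (by decide : (1 : Fin 3) ≤ 2), hl _ _ (by decide : (2 : Fin 3) ≤ 2)]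

theorem invB_mem_range {x : P3 F} (hx : x ∈ invB F) : x ∈ (upperHom F 3).range := by
  obtain ⟨v, f, ⟨h0, hv, hf, rfl⟩, hf0, hv2⟩ := hx
  refine ⟨⟨tv v f h0, fun i j hij => ?_⟩, rfl⟩
  have h1 : f 1 * v 1 = 0 := by
    rw [dotProduct, Fin.sum_univ_three, hf0, hv2, zero_mul, mul_zero, zero_add, add_zero] at h0
    exact h0
  rw [coe_tv, Matrix.add_apply]
  suffices v i * f j = 0 by rw [vecMulVec_apply, this, add_zero]
  fin_cases i <;> fin_cases j <;> first | (exact absurd hij (by decide)) | simp_all [mul_comm]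

theorem exists_tv {x : P3 F} (hx : Invol x) : ∃ v f : V, IsTv x v f := by
  haveI : Fact (Nat.Prime 2) := ⟨Nat.prime_two⟩
  haveI : Finite (P3 F) := Quotient.finite _
  have hp : IsPGroup 2 (Subgroup.zpowers x) := by
    refine IsPGroup.of_card (n := 1) ?_
    rw [Nat.card_zpowers, orderOf_eq_prime (by rw [pow_two]; exact hx.2) hx.1, pow_one]
  obtain ⟨P, hP⟩ := hp.exists_le_sylow
  obtain ⟨g, hg⟩ := MulAction.exists_smul_eq (P3 F) P (upperSylow 2)
  have h1 : g * x * g⁻¹ ∈ (upperHom F 3).range := by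
    rw [← coe_upperSylow 2, ← hg]
    exact ⟨x, hP (Subgroup.mem_zpowers x), rfl⟩
  obtain ⟨⟨A, hA⟩, hAx⟩ := h1
  change mk A = g * x * g⁻¹ at hAx
  have hc := hx.conj g
  obtain ⟨v, f, h, -, -⟩ := exists_upper_tv hA (by rw [hAx]; exact hc.1) (by rw [hAx]; exact hc.2)
  obtain ⟨B, hB⟩ := mk_surjective g⁻¹
  rw [hAx] at h
  have h2 := h.conj B
  rw [hB] at h2
  exact ⟨_, _, by simpa [mul_assoc] using h2⟩

theorem invB_iff {x : P3 F} : x ∈ invB F ↔ x ∈ (upperHom F 3).range ∧ Invol x := by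
  refine ⟨fun hx => ⟨invB_mem_range hx, ?_⟩, ?_⟩
  · obtain ⟨v, f, h, -⟩ := hx
    exact h.invol
  · rintro ⟨⟨⟨A, hA⟩, rfl⟩, hi⟩
    exact exists_upper_tv hA hi.1 hi.2

/-- The involutions form one class. -/
theorem one_class {x y : P3 F} (hx : Invol x) (hy : Invol y) : ∃ g : P3 F, g * x * g⁻¹ = y := by
  obtain ⟨v, f, h0, hv, hf, rfl⟩ := exists_tv hx
  obtain ⟨v', f', h0', hv', hf', rfl⟩ := exists_tv hy
  obtain ⟨A, hA⟩ := isConj_iff.mp ((isConj_tv_std (by norm_num) hv hf h0).symm.trans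
    (isConj_tv_std (by norm_num) hv' hf' h0'))
  exact ⟨mk A, by rw [← map_inv, ← map_mul, ← map_mul, hA]⟩

omit [CharP F 2] in
/-- Every transvection is the image of `q - 1` pairs. -/
theorem card_pairs (R : V → V → Prop) (hR : ∀ v f (c : F), c ≠ 0 → R v f → R (c • v) (c⁻¹ • f)) :
    Nat.card {p : V × V // (p.1 ≠ 0 ∧ p.2 ≠ 0 ∧ p.2 ⬝ᵥ p.1 = 0) ∧ R p.1 p.2} =
      Nat.card {x : P3 F // ∃ v f, IsTv x v f ∧ R v f} * (Fintype.card F - 1) := by
  classical
  haveI : Finite (P3 F) := Quotient.finite _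
  haveI := Fintype.ofFinite {x : P3 F // ∃ v f, IsTv x v f ∧ R v f}
  let φ : {p : V × V // (p.1 ≠ 0 ∧ p.2 ≠ 0 ∧ p.2 ⬝ᵥ p.1 = 0) ∧ R p.1 p.2} →
      {x : P3 F // ∃ v f, IsTv x v f ∧ R v f} :=
    fun p => ⟨mk (tv p.1.1 p.1.2 p.2.1.2.2), _, _, ⟨p.2.1.2.2, p.2.1.1, p.2.1.2.1, rfl⟩, p.2.2⟩
  have hfib : ∀ x, Nat.card {p // φ p = x} = Fintype.card F - 1 := by
    rintro ⟨x, v, f, hx, hr⟩
    rw [← Fintype.card_units, ← Nat.card_eq_fintype_card]
    refine (Nat.card_congr (Equiv.ofBijective (fun u : Fˣ =>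
      (⟨⟨((u : F) • v, (u : F)⁻¹ • f), ⟨⟨(hx.smul u.ne_zero).centre_ne, (hx.smul u.ne_zero).axis_ne,
        (hx.smul u.ne_zero).inc⟩, hR v f u u.ne_zero hr⟩⟩,
        Subtype.ext (hx.smul u.ne_zero).2.2.2⟩ : {p // φ p = ⟨x, v, f, hx, hr⟩})) ⟨?_, ?_⟩)).symm
    · intro u u' e
      have e1 : (u : F) • v = (u' : F) • v := congrArg (fun p => p.1.1.1) e
      exact Units.ext (smul_left_injective F hx.centre_ne e1)
    · rintro ⟨⟨⟨v', f'⟩, hp, hr'⟩, e⟩
      have e1 : IsTv x v' f' := ⟨hp.2.2, hp.1, hp.2.1, congrArg Subtype.val e⟩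
      obtain ⟨c, hc, rfl, rfl⟩ := hx.unique e1
      exact ⟨Units.mk0 c hc, rfl⟩
  rw [← Nat.card_congr (Equiv.sigmaFiberEquiv φ), Nat.card_sigma, Finset.sum_congr rfl fun x _ => hfib x,
    Finset.sum_const, Finset.card_univ, Nat.card_eq_fintype_card, smul_eq_mul]

omit [CharP F 2] in
theorem card_kernel {A : Type} [AddCommGroup A] (φ : V →+ A) (hφ : Function.Surjective φ) :
    Nat.card {v : V // φ v = 0} * Nat.card A = Fintype.card F ^ 3 := by
  have h := φ.ker.card_mul_index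
  rw [AddSubgroup.index_ker, AddMonoidHom.range_eq_top.mpr hφ, AddSubgroup.card_top] at h
  have e : Nat.card V = Fintype.card F ^ 3 := by simp
  rw [← e, ← h]
  rfl

omit [CharP F 2] in
theorem card_ne_zero {p : V → Prop} (h0 : p 0) :
    Nat.card {v : V // v ≠ 0 ∧ p v} = Nat.card {v : V // p v} - 1 := by
  show Nat.card ↥{v : V | v ≠ 0 ∧ p v} = Nat.card ↥{v : V | p v} - 1
  rw [Nat.card_coe_set_eq {v : V | v ≠ 0 ∧ p v}, Nat.card_coe_set_eq {v : V | p v},
    show {v : V | v ≠ 0 ∧ p v} = {v : V | p v} \ {0} by ext; simp [and_comm],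
    Set.ncard_diff_singleton_of_mem (show (0 : V) ∈ {v : V | p v} from h0)]

omit [CharP F 2] in
theorem card_orth {f : V} (hf : f ≠ 0) :
    Nat.card {v : V // v ≠ 0 ∧ f ⬝ᵥ v = 0} = Fintype.card F ^ 2 - 1 := by
  rw [card_ne_zero (dotProduct_zero f)]
  obtain ⟨j, hj⟩ := Function.ne_iff.mp hf
  rw [Pi.zero_apply] at hj
  have h := card_kernel (AddMonoidHom.mk' (fun v : Fin 3 → F => f ⬝ᵥ v) (dotProduct_add f))
    fun c => ⟨Pi.single j ((f j)⁻¹ * c), by
      show f ⬝ᵥ _ = c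
      rw [dotProduct_single, ← mul_assoc, mul_inv_cancel₀ hj, one_mul]⟩
  simp only [AddMonoidHom.mk'_apply, Nat.card_eq_fintype_card (α := F)] at h
  rw [pow_succ, Nat.mul_left_inj Fintype.card_ne_zero] at h
  rw [h]

omit [CharP F 2] in
theorem card_P_axes : Nat.card {f : V // f ≠ 0 ∧ f 0 = 0} = Fintype.card F ^ 2 - 1 := by
  rw [← card_orth (F := F) (f := Pi.single 0 1) (by simp)]
  exact Nat.card_congr (Equiv.subtypeEquivRight fun f => by simp)

omit [CharP F 2] in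
theorem card_flag {f : V} (hf : f ≠ 0) (hf0 : f 0 = 0) (hf1 : f 1 ≠ 0) :
    Nat.card {v : V // v ≠ 0 ∧ f ⬝ᵥ v = 0 ∧ v 2 = 0} = Fintype.card F - 1 := by
  rw [card_ne_zero ⟨dotProduct_zero f, rfl⟩]
  have h := card_kernel (AddMonoidHom.mk' (fun v : Fin 3 → F => (f ⬝ᵥ v, v 2))
    (fun v w => by simp [dotProduct_add]))
    fun c => ⟨![0, (f 1)⁻¹ * (c.1 - f 2 * c.2), c.2], by
      show (f ⬝ᵥ _, _) = c
      refine Prod.ext ?_ (by simp)
      simp [dotProduct, Fin.sum_univ_three, ← mul_assoc, mul_inv_cancel₀ hf1]⟩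
  simp only [AddMonoidHom.mk'_apply, Prod.mk_eq_zero, Nat.card_prod,
    Nat.card_eq_fintype_card (α := F), ← pow_two] at h
  rw [show Fintype.card F ^ 3 = Fintype.card F * Fintype.card F ^ 2 by ring,
    Nat.mul_left_inj (pow_ne_zero 2 Fintype.card_ne_zero)] at h
  rw [h]

omit [CharP F 2] in
theorem card_sum_pairs (R : V → V → Prop) :
    Nat.card {p : V × V // (p.1 ≠ 0 ∧ p.2 ≠ 0 ∧ p.2 ⬝ᵥ p.1 = 0) ∧ R p.1 p.2} =
      Nat.card (Σ f : {f : V // f ≠ 0}, {v : V // v ≠ 0 ∧ f.1 ⬝ᵥ v = 0 ∧ R v f.1}) :=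
  Nat.card_congr ⟨fun p => ⟨⟨p.1.2, p.2.1.2.1⟩, p.1.1, p.2.1.1, p.2.1.2.2, p.2.2⟩,
    fun p => ⟨(p.2.1, p.1.1), ⟨p.2.2.1, p.1.2, p.2.2.2.1⟩, p.2.2.2.2⟩, fun _ => rfl, fun _ => rfl⟩

theorem card_invol : Nat.card {x : P3 F // Invol x} * (Fintype.card F - 1) =
    (Fintype.card F ^ 3 - 1) * (Fintype.card F ^ 2 - 1) := by
  classical
  rw [Nat.card_congr (Equiv.subtypeEquivRight (q := fun x : P3 F => ∃ v f, IsTv x v f ∧ True) fun x =>
      ⟨fun h => (exists_tv h).imp fun v h => h.imp fun f h => ⟨h, trivial⟩, fun ⟨_, _, h, _⟩ => h.invol⟩),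
    ← card_pairs (fun _ _ => True) (fun _ _ _ _ h => h), card_sum_pairs (fun _ _ => True), Nat.card_sigma,
    Finset.sum_congr rfl (g := fun _ => Fintype.card F ^ 2 - 1) fun f _ => by
      rw [← card_orth f.2]
      exact Nat.card_congr (Equiv.subtypeEquivRight fun v => by simp),
    Finset.sum_const, Finset.card_univ, smul_eq_mul, ← Nat.card_eq_fintype_card]
  congr 1
  rw [Nat.card_congr (Equiv.subtypeEquivRight (q := fun f : V => f ≠ 0 ∧ True) fun f => ⟨fun h => ⟨h, trivial⟩, fun h => h.1⟩),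
    card_ne_zero (p := fun _ => True) trivial, Nat.card_congr (Equiv.subtypeUnivEquiv fun _ => trivial)]
  simp

theorem card_invP : Nat.card (invP F) * (Fintype.card F - 1) =
    (Fintype.card F ^ 2 - 1) * (Fintype.card F ^ 2 - 1) := by
  classical
  rw [show Nat.card (invP F) = Nat.card {x : P3 F // ∃ v f, IsTv x v f ∧ f 0 = 0} from rfl,
    ← card_pairs (fun _ f => f 0 = 0) (fun _ _ _ _ h => by simp [h]), card_sum_pairs (fun _ f => f 0 = 0), Nat.card_sigma,
    Finset.sum_congr rfl (g := fun f : {f : V // f ≠ 0} => if f.1 0 = 0 then Fintype.card F ^ 2 - 1 else 0)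
      fun f _ => ?_]
  · rw [Finset.sum_ite, Finset.sum_const_zero, add_zero, Finset.sum_const, smul_eq_mul]
    congr 1
    rw [← card_P_axes, Nat.card_eq_fintype_card, ← Fintype.card_subtype]
    exact Fintype.card_congr (Equiv.subtypeSubtypeEquivSubtypeInter (fun f : V => f ≠ 0) (fun f => f 0 = 0))
  · split_ifs with h
    · rw [← card_orth f.2]
      exact Nat.card_congr (Equiv.subtypeEquivRight fun v => by simp [h])
    · exact Nat.card_eq_zero.mpr (Or.inl ⟨fun v => h v.2.2.2⟩)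

theorem card_invB : Nat.card (invB F) * (Fintype.card F - 1) =
    (Fintype.card F - 1) * (Fintype.card F ^ 2 - 1) +
      (Fintype.card F ^ 2 - Fintype.card F) * (Fintype.card F - 1) := by
  classical
  set q := Fintype.card F
  rw [show Nat.card (invB F) = Nat.card {x : P3 F // ∃ v f, IsTv x v f ∧ (f 0 = 0 ∧ v 2 = 0)} from rfl,
    ← card_pairs (fun v f => f 0 = 0 ∧ v 2 = 0) (fun _ _ _ _ h => by simp [h.1, h.2]), card_sum_pairs (fun v f => f 0 = 0 ∧ v 2 = 0), Nat.card_sigma,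
    Finset.sum_congr rfl (g := fun f : {f : V // f ≠ 0} =>
      if f.1 0 = 0 then (if f.1 1 = 0 then q ^ 2 - 1 else q - 1) else 0) fun f _ => ?_]
  · rw [Finset.sum_ite, Finset.sum_const_zero, add_zero, Finset.sum_ite, Finset.sum_const, Finset.sum_const,
      smul_eq_mul, smul_eq_mul, Finset.filter_filter, Finset.filter_filter, ← Fintype.card_subtype,
      ← Fintype.card_subtype, ← Nat.card_eq_fintype_card, ← Nat.card_eq_fintype_card,
      Nat.card_congr (Equiv.subtypeSubtypeEquivSubtypeInter (fun f : V => f ≠ 0) (fun f => f 0 = 0 ∧ f 1 = 0)),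
      Nat.card_congr (Equiv.subtypeSubtypeEquivSubtypeInter (fun f : V => f ≠ 0) (fun f => f 0 = 0 ∧ ¬f 1 = 0))]
    have h1 : Nat.card {f : V // f ≠ 0 ∧ f 0 = 0 ∧ f 1 = 0} = q - 1 := by
      rw [← Fintype.card_units, ← Nat.card_eq_fintype_card]
      refine (Nat.card_congr (Equiv.ofBijective (fun u : Fˣ =>
        (⟨![0, 0, (u : F)], fun e => u.ne_zero (by simpa using congrFun e 2), rfl, rfl⟩ :
          {f : V // f ≠ 0 ∧ f 0 = 0 ∧ f 1 = 0})) ⟨?_, ?_⟩)).symm
      · intro u u' e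
        exact Units.ext (by simpa using congrFun (congrArg Subtype.val e) 2)
      · rintro ⟨f, hf, h0, h1⟩
        refine ⟨Units.mk0 (f 2) fun e => hf (funext fun i => by fin_cases i <;> simp [h0, h1, e]), Subtype.ext ?_⟩
        funext i
        fin_cases i <;> simp [h0, h1]
    have h2 : Nat.card {f : V // f ≠ 0 ∧ f 0 = 0 ∧ ¬f 1 = 0} = q ^ 2 - q := by
      have e : Nat.card {f : V // f ≠ 0 ∧ f 0 = 0 ∧ f 1 = 0} + Nat.card {f : V // f ≠ 0 ∧ f 0 = 0 ∧ ¬f 1 = 0} =
          q ^ 2 - 1 := by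
        rw [← card_P_axes (F := F), ← Nat.card_congr (Equiv.sumCompl fun f : {f : V // f ≠ 0 ∧ f 0 = 0} => f.1 1 = 0),
          Nat.card_sum]
        congr 1
        · exact Nat.card_congr ((Equiv.subtypeSubtypeEquivSubtypeInter (fun f : V => f ≠ 0 ∧ f 0 = 0)
            (fun f => f 1 = 0)).trans (Equiv.subtypeEquivRight fun f => and_assoc)).symm
        · exact Nat.card_congr ((Equiv.subtypeSubtypeEquivSubtypeInter (fun f : V => f ≠ 0 ∧ f 0 = 0)
            (fun f => ¬f 1 = 0)).trans (Equiv.subtypeEquivRight fun f => and_assoc)).symm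
      rw [h1] at e
      have := Fintype.one_lt_card (α := F)
      omega
    rw [h1, h2]
  · split_ifs with h h'
    · rw [← card_orth f.2]
      refine Nat.card_congr (Equiv.subtypeEquivRight fun v => ⟨fun hv => ⟨hv.1, hv.2.1⟩, fun hv => ⟨hv.1, hv.2, h, ?_⟩⟩)
      have hv2 := hv.2
      have h3 : f.1 2 ≠ 0 := fun e => f.2 (funext fun i => by fin_cases i <;> simp [h, h', e])
      rw [dotProduct, Fin.sum_univ_three, h, h', zero_mul, zero_mul, zero_add, zero_add, mul_eq_zero] at hv2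
      exact hv2.resolve_left h3
    · rw [← card_flag f.2 h h']
      exact Nat.card_congr (Equiv.subtypeEquivRight fun v => by simp [h])
    · exact Nat.card_eq_zero.mpr (Or.inl ⟨fun v => h v.2.2.2.1⟩)

end CfsgLib.PlaneStab
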