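import Cfsg.Agent.Lib.PlaneStab.Count

/-!
The centralisers of the conjugates of `N`, the subgroups generated by the involutions fixing a second point, and the
semiregularity criterion.

Blueprint: `blueprint/S3727.md`, section 3.
-/

set_option autoImplicit false
set_option linter.unusedSectionVars false

namespace CfsgLib.PlaneStab

open MulAction CfsgLib.RankOnePoint

universe u v

variable {G : Type u} {Ω : Type v} [Group G] [MulAction G Ω]

/-- The centraliser in the stabiliser of `c` of the conjugate of `N` at `c`. -/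
def cent (a : Ω) (N : Subgroup G) (c : Ω) : Subgroup G :=
  stabilizer G c ⊓ Subgroup.centralizer {x | At a N c x}

/-- The elements centralising the conjugate at `c` and fixing `d`. -/
def wfix (a : Ω) (N : Subgroup G) (c d : Ω) : Subgroup G := cent a N c ⊓ stabilizer G d

/-- The involutions of the conjugate at `c` fixing `d`, generated. -/
def xo (a : Ω) (N : Subgroup G) (c d : Ω) : Subgroup G :=
  Subgroup.closure {x | Invol x ∧ At a N c x ∧ x • d = d}

variable {a : Ω} {N : Subgroup G}

theorem mem_cent {c : Ω} {w : G} : w ∈ cent a N c ↔ w • c = c ∧ ∀ x, At a N c x → x * w = w * x := by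
  simp [cent, Subgroup.mem_inf, Subgroup.mem_centralizer_iff]

theorem cent_conj {c : Ω} {w : G} (hw : w ∈ cent a N c) (g : G) : g * w * g⁻¹ ∈ cent a N (g • c) := by
  rw [mem_cent] at hw ⊢
  refine ⟨by rw [mul_smul, mul_smul, inv_smul_smul, hw.1], fun x hx => ?_⟩
  have h1 := hx.conj g⁻¹
  rw [inv_smul_smul, inv_inv] at h1
  have h2 := congrArg (fun z => g * z * g⁻¹) (hw.2 _ h1)
  simpa [mul_assoc] using h2

theorem wfix_conj {c d : Ω} {w : G} (hw : w ∈ wfix a N c d) (g : G) :
    g * w * g⁻¹ ∈ wfix a N (g • c) (g • d) := by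
  refine ⟨cent_conj hw.1 g, mem_stabilizer_iff.mpr ?_⟩
  rw [mul_smul, mul_smul, inv_smul_smul, mem_stabilizer_iff.mp hw.2]

theorem xo_conj {c d : Ω} {x : G} (hx : x ∈ xo a N c d) (g : G) : g * x * g⁻¹ ∈ xo a N (g • c) (g • d) := by
  refine Subgroup.closure_induction (p := fun x _ => g * x * g⁻¹ ∈ xo a N (g • c) (g • d))
    (fun x hx => Subgroup.subset_closure ⟨hx.1.conj g, hx.2.1.conj g, ?_⟩) ?_ (fun x y _ _ hx hy => ?_)
    (fun x _ hx => ?_) hx
  · rw [mul_smul, mul_smul, inv_smul_smul, hx.2.2]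
  · simp
  · simpa [mul_assoc] using mul_mem hx hy
  · simpa [mul_assoc] using inv_mem hx

theorem xo_conj_back {c d : Ω} {x g : G} (hx : g * x * g⁻¹ ∈ xo a N (g • c) (g • d)) : x ∈ xo a N c d := by
  simpa [mul_assoc] using xo_conj hx g⁻¹

variable (h : Pt G a N)
include h

theorem at_mul {c : Ω} {x y : G} [FaithfulSMul G Ω] (hx : At a N c x) (hy : At a N c y) : At a N c (x * y) := by
  haveI := h.pretrans
  obtain ⟨g, rfl⟩ := exists_smul_eq G a c
  rw [h.at_iff rfl] at hx hy ⊢
  simpa [mul_assoc] using mul_mem hx hy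

theorem at_inv {c : Ω} {x : G} [FaithfulSMul G Ω] (hx : At a N c x) : At a N c x⁻¹ := by
  haveI := h.pretrans
  obtain ⟨g, rfl⟩ := exists_smul_eq G a c
  rw [h.at_iff rfl] at hx ⊢
  simpa [mul_assoc] using inv_mem hx

theorem at_one [FaithfulSMul G Ω] (c : Ω) : At a N c 1 := by
  haveI := h.pretrans
  obtain ⟨g, rfl⟩ := exists_smul_eq G a c
  rw [h.at_iff rfl]
  simp

theorem xo_at [FaithfulSMul G Ω] {c d : Ω} {x : G} (hx : x ∈ xo a N c d) : At a N c x ∧ x • c = c ∧ x • d = d := by
  refine Subgroup.closure_induction (p := fun x _ => At a N c x ∧ x • c = c ∧ x • d = d)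
    (fun x hx => ⟨hx.2.1, h.at_fix hx.2.1, hx.2.2⟩) ⟨at_one h c, one_smul _ _, one_smul _ _⟩ (fun x y _ _ hx hy => ?_)
    (fun x _ hx => ?_) hx
  · exact ⟨at_mul h hx.1 hy.1, by rw [mul_smul, hy.2.1, hx.2.1], by rw [mul_smul, hy.2.2, hx.2.2]⟩
  · exact ⟨at_inv h hx.1, by rw [inv_smul_eq_iff, hx.2.1], by rw [inv_smul_eq_iff, hx.2.2]⟩

theorem cent_commute {c : Ω} {w x : G} (hw : w ∈ cent a N c) (hx : At a N c x) : x * w * x⁻¹ = w := by
  rw [(mem_cent.mp hw).2 x hx, mul_inv_cancel_right]

variable [Finite G] [FaithfulSMul G Ω]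

/-- **Semiregularity**: if `C_c ∩ G_d = C_d ∩ G_c` for all pairs and the two groups of involutions of a pair do not
commute, then `C_c ∩ G_d = 1`. -/
theorem wfix_trivial (hsym : ∀ c d : Ω, c ≠ d → wfix a N c d ≤ cent a N d)
    (hnc : ∀ b : Ω, b ≠ a → ∃ x ∈ xo a N b a, ∃ y ∈ xo a N a b, x * y ≠ y * x) {c d : Ω} (hcd : c ≠ d) :
    wfix a N c d = ⊥ := by
  classical
  haveI := h.pretrans
  obtain ⟨b, hb⟩ := h.exists_ne
  suffices key : wfix a N a b = ⊥ by
    obtain ⟨g, rfl, rfl⟩ := h.trans a b c d hb.symm hcd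
    refine (Subgroup.eq_bot_iff_forall _).mpr fun w hw => ?_
    have h1 := wfix_conj hw g⁻¹
    rw [inv_smul_smul, inv_smul_smul, key, Subgroup.mem_bot, inv_inv] at h1
    calc w = g * (g⁻¹ * w * g) * g⁻¹ := by group
      _ = 1 := by rw [h1]; group
  by_contra hW
  -- membership of lines
  set mem := fun c d e : Ω => wfix a N c d ≤ cent a N e with hmem
  have sub : ∀ {c d c' d' : Ω}, mem c d c' → mem c d d' → wfix a N c d ≤ wfix a N c' d' := fun h1 h2 w hw =>
    ⟨h1 hw, mem_stabilizer_iff.mpr (mem_cent.mp (h2 hw)).1⟩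
  have card : ∀ {c d c' d' : Ω}, c ≠ d → c' ≠ d' →
      Nat.card (wfix a N c d) = Nat.card (wfix a N c' d') := by
    intro c d c' d' hne hne'
    obtain ⟨g, rfl, rfl⟩ := h.trans c d c' d' hne hne'
    refine Nat.card_congr ((MulAut.conj g).toEquiv.subtypeEquiv fun w => ⟨fun hw => wfix_conj hw g, fun hw => ?_⟩)
    simpa [mul_assoc, inv_smul_smul] using wfix_conj hw g⁻¹
  have same : ∀ {c d c' d' : Ω}, c ≠ d → c' ≠ d' → mem c d c' → mem c d d' → wfix a N c d = wfix a N c' d' :=
    fun hne hne' h1 h2 => Subgroup.eq_of_le_of_card_ge (sub h1 h2) (card hne hne').ge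
  have left : ∀ c d : Ω, mem c d c := fun c d w hw => hw.1
  have right : ∀ {c d : Ω}, c ≠ d → mem c d d := fun hne => hsym _ _ hne
  obtain ⟨x, hx, y, hy, hxy⟩ := hnc b hb
  obtain ⟨hxb, -, hxa⟩ := xo_at h hx
  obtain ⟨hya, -, hyb⟩ := xo_at h hy
  set k := x * y * x⁻¹ * y⁻¹ with hk
  have hk1 : k ≠ 1 := fun e => hxy (by rw [hk, mul_inv_eq_one, mul_inv_eq_iff_eq_mul] at e; exact e)
  have hka : At a N a k := by
    rw [h.at_base] at hya ⊢
    exact mul_mem (h.conj x (mem_stabilizer_iff.mpr hxa) y hya) (inv_mem hya)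
  have hkb : At a N b k := by
    have h1 := (at_inv h hxb).conj y
    rw [hyb] at h1
    have := at_mul h hxb h1
    simpa [hk, mul_assoc] using this
  -- `k` moves every point along its lines through `a` and through `b`
  have line : ∀ p e : Ω, At a N p k → e ≠ p → mem p e (k • e) := by
    intro p e hp he w hw
    have := cent_conj (right (Ne.symm he) hw) k
    rwa [cent_commute h hw.1 hp] at this
  have fix_a : k • a = a := h.at_fix hka
  have fix_b : k • b = b := h.at_fix hkb
  have off : ∀ e : Ω, ¬ mem a b e → k • e = e := by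
    intro e he
    by_contra hne
    have hea : e ≠ a := fun e1 => he (e1 ▸ left a b)
    have heb : e ≠ b := fun e1 => he (by rw [e1]; exact right hb.symm)
    have h1 := same hea.symm (Ne.symm hne) (right hea.symm) (line a e hka hea)
    have h2 := same heb.symm (Ne.symm hne) (right heb.symm) (line b e hkb heb)
    have h3 : mem a e b := fun w hw => left b e (by rw [h2, ← h1]; exact hw)
    have h4 := same hea.symm hb.symm (left a e) h3
    exact he fun w hw => right hea.symm (by rw [h4]; exact hw)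
  -- so `k` fixes everything
  obtain ⟨d, hd⟩ : ∃ d, ¬ mem a b d := by
    by_contra hall
    push Not at hall
    refine hW ((Subgroup.eq_bot_iff_forall _).mpr fun w hw => eq_of_smul_eq_smul (α := Ω) fun e => ?_)
    rw [one_smul]
    exact (mem_cent.mp (hall e hw)).1
  have hkd := off d hd
  refine hk1 (eq_of_smul_eq_smul (α := Ω) fun e => ?_)
  rw [one_smul]
  by_cases he : mem a b e
  swap
  · exact off e he
  by_cases hea : e = a
  · rw [hea]; exact fix_a
  by_cases heb : e = b
  · rw [heb]; exact fix_b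
  have hde : d ≠ e := fun e1 => hd (e1 ▸ he)
  -- a third point on the line of `d` and `e`
  obtain ⟨g, hgd, hge⟩ := h.trans a e d e (Ne.symm hea) hde
  have hW0 : wfix a N a b = wfix a N a e := same hb.symm (Ne.symm hea) (left a b) he
  set d1 := g • b with hd1
  have hd1m : mem d e d1 := by
    intro w hw
    have h1 : g⁻¹ * w * g ∈ wfix a N a e := by
      have := wfix_conj hw g⁻¹
      rwa [← hgd, ← hge, inv_smul_smul, inv_smul_smul, inv_inv] at this
    have h2 := cent_conj (right hb.symm (by rw [hW0]; exact h1) : g⁻¹ * w * g ∈ cent a N b) g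
    simpa [mul_assoc] using h2
  have hd1e : d1 ≠ e := fun e1 => heb (MulAction.injective g (e1.trans hge.symm)).symm
  have hd1d : d1 ≠ d := fun e1 => hb (MulAction.injective g (e1.trans hgd.symm))
  have hd1off : ¬ mem a b d1 := fun hm => hd (by
    have h1 := same hb.symm (Ne.symm hd1e) he hm
    have h2 := same hde (Ne.symm hd1e) (right hde) hd1m
    intro w hw
    exact left d e (by rw [h2, ← h1]; exact hw))
  have hkd1 := off d1 hd1off
  by_contra hne
  have hL : wfix a N d e = wfix a N d d1 := same hde hd1d.symm (left d e) hd1m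
  have h1 : mem d e (k • e) := by
    intro w hw
    have h2 : k⁻¹ * w * k ∈ wfix a N d d1 := by
      have := wfix_conj (hL ▸ hw : w ∈ wfix a N d d1) k⁻¹
      rwa [inv_smul_eq_iff.mpr hkd.symm, inv_smul_eq_iff.mpr hkd1.symm, inv_inv] at this
    have h3 := cent_conj (right hde (hL ▸ h2 : k⁻¹ * w * k ∈ wfix a N d e)) k
    simpa [mul_assoc] using h3
  have h2 : mem a b (k • e) := by
    intro w hw
    have := cent_conj (he hw) k
    rwa [cent_commute h hw.1 hka] at this
  have e1 := same hb.symm (Ne.symm hne) he h2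
  have e2 := same hde (Ne.symm hne) (right hde) h1
  exact hd fun w hw => left d e (by rw [e2, ← e1]; exact hw)

end CfsgLib.PlaneStab

namespace CfsgLib.PlaneStab.Hyp

open MulAction CfsgLib.RankOnePoint

universe u v

variable {G : Type u} {Ω : Type v} [Group G] [MulAction G Ω] {a : Ω} {N : Subgroup G} {F : Type} [Field F]
  [Fintype F] [CharP F 2] [Finite G] [Finite Ω] [FaithfulSMul G Ω] (h : Hyp G a N F)
include h

/-- The centraliser at `a` is the kernel of the action on `N`. -/
theorem mem_cent_act {w : G} (hw : w • a = a) : w ∈ cent a N a ↔ h.act ⟨w, mem_stabilizer_iff.mpr hw⟩ = 1 := by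
  rw [mem_cent]
  constructor
  · rintro ⟨-, hc⟩
    refine MulEquiv.ext fun x => h.emb_inj ?_
    rw [h.emb_act]
    show w * h.emb x * w⁻¹ = _
    rw [← hc _ (h.pt.at_base.mpr (h.emb_mem x)), mul_inv_cancel_right, MulAut.one_apply]
  · refine fun e => ⟨hw, fun x hx => ?_⟩
    obtain ⟨y, rfl⟩ := h.emb_surj (h.pt.at_base.mp hx)
    have := h.emb_act ⟨w, mem_stabilizer_iff.mpr hw⟩ y
    rw [e, MulAut.one_apply] at this
    conv_lhs => rw [this]
    simp [mul_assoc]

variable (hsh : (∀ b, b ≠ a → ShP (h.inv b)) ∨ ∀ b, b ≠ a → ShB (h.inv b))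
include hsh

theorem cent_no_member {c : Ω} {y : G} (hy : y ∈ cls N) : y ∉ cent a N c := by
  intro hc
  haveI := h.pt.pretrans
  obtain ⟨g, rfl⟩ := exists_smul_eq G a c
  have h1 := cent_conj hc g⁻¹
  rw [inv_smul_smul, inv_inv] at h1
  have h2 := cls_conj hy g⁻¹
  rw [inv_inv] at h2
  exact h.no_central hsh h2 fun x hx => (mem_cent.mp h1).2 x (h.pt.at_base.mpr hx)

omit hsh

end CfsgLib.PlaneStab.Hyp
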