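import Cfsg.Agent.Lib.PlaneStab.Aut
import Cfsg.Agent.Lib.RankOnePoint.Count
import Mathlib.Algebra.Group.End

/-!
The standing hypotheses and the shapes of the two-point stabilisers in `N`.

Blueprint: `blueprint/S3727.md`, section 1.
-/

set_option autoImplicit false
set_option linter.unusedSectionVars false

namespace CfsgLib.PlaneStab

open MulAction CfsgLib.RankOnePoint

universe u v

/-- The standing hypotheses. -/
structure Hyp (G : Type u) {Ω : Type v} [Group G] [MulAction G Ω] (a : Ω) (N : Subgroup G) (F : Type) [Field F] where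
  pt : Pt G a N
  e : P3 F ≃* N
  even : Even (Nat.card Ω)

variable {G : Type u} {Ω : Type v} [Group G] [MulAction G Ω] {a : Ω} {N : Subgroup G} {F : Type} [Field F]

theorem Invol.map {H K : Type*} [Group H] [Group K] {f : H →* K} (hf : Function.Injective f) {x : H} :
    Invol (f x) ↔ Invol x :=
  and_congr (not_congr (map_eq_one_iff f hf)) (by rw [← map_mul, map_eq_one_iff f hf])

variable [Fintype F] [CharP F 2]

theorem rt_invol {i j : Fin 3} {h : i ≠ j} {c : F} (hc : c ≠ 0) : Invol (rt i j h c) := (IsTv.xx i j h hc).invol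

omit [CharP F 2] in
theorem rt02_ne_01 : rt 0 1 (by decide) (1 : F) ≠ rt 0 2 (by decide) (1 : F) := by
  intro e
  have h := IsTv.xx (F := F) 0 1 (by decide) one_ne_zero
  change IsTv (rt 0 1 (by decide) (1 : F)) _ _ at h
  rw [e] at h
  obtain ⟨c, -, -, h2⟩ := h.unique (IsTv.xx (F := F) 0 2 (by decide) one_ne_zero)
  simpa using congrFun h2 2

/-- The hypotheses of the statement give the standing ones. -/
theorem exists_hyp [Finite G] (h2 : IsMultiplyPretransitive G Ω 2) (hev : Even (Nat.card Ω))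
    (hNle : N ≤ stabilizer G a) (hN : ∀ g ∈ stabilizer G a, ∀ x ∈ N, g * x * g⁻¹ ∈ N) (e : P3 F ≃* N) :
    Nonempty (Hyp G a N F) := by
  set f : P3 F →* G := N.subtype.comp e.toMonoidHom with hf
  have hinj : Function.Injective f := N.subtype_injective.comp e.injective
  have himg : ∀ x ∈ N, ∃ y, f y = x := fun x hx => ⟨e.symm ⟨x, hx⟩, by simp [hf]⟩
  have hmem : ∀ y, f y ∈ N := fun y => (e y).2
  refine ⟨⟨⟨?_, hNle, hN, ?_, ?_, ?_, ?_⟩, e, hev⟩⟩
  · intro x y x' y' hxy hx'y'
    exact (is_two_pretransitive_iff.mp h2) hxy hx'y'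
  · intro hs
    haveI := hs
    have hP : Group.IsSolvable (P3 F) := solvable_of_solvable_injective (f := e.toMonoidHom) e.injective
    obtain ⟨n, hn⟩ := hP.solvable
    have htop : ∀ k, derivedSeries (P3 F) k = ⊤ := by
      intro k
      induction k with
      | zero => rfl
      | succ k ih => rw [derivedSeries_succ, ih, top_perfect]
    have h1 : rt 0 1 (by decide) (1 : F) ∈ derivedSeries (P3 F) n := by rw [htop n]; exact Subgroup.mem_top _
    rw [hn, Subgroup.mem_bot] at h1
    exact rt_ne one_ne_zero h1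
  · intro x hx y hy hxi hyi
    obtain ⟨x, rfl⟩ := himg x hx
    obtain ⟨y, rfl⟩ := himg y hy
    obtain ⟨g, hg⟩ := one_class ((Invol.map hinj).mp hxi) ((Invol.map hinj).mp hyi)
    exact ⟨f g, hmem g, by rw [← map_mul, ← map_inv, ← map_mul, hg]⟩
  · have htop : (Subgroup.closure {x | x ∈ N ∧ Invol x}).comap f = ⊤ := by
      refine eq_top_of_rt fun i j hij c => ?_
      rcases eq_or_ne c 0 with rfl | hc
      · rw [rt_zero]; exact one_mem _
      · exact Subgroup.subset_closure ⟨hmem _, (Invol.map hinj).mpr (rt_invol hc)⟩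
    intro x hx
    obtain ⟨y, rfl⟩ := himg x hx
    have : y ∈ (Subgroup.closure {x | x ∈ N ∧ Invol x}).comap f := htop ▸ Subgroup.mem_top y
    exact this
  · refine ⟨f (rt 0 1 (by decide) 1), hmem _, f (rt 0 2 (by decide) 1), hmem _,
      (Invol.map hinj).mpr (rt_invol one_ne_zero), (Invol.map hinj).mpr (rt_invol one_ne_zero),
      fun e => rt02_ne_01 (hinj e), ?_⟩
    rw [← map_mul, ← map_mul, rt, rt, ← map_mul, ← map_mul]
    congr 2
    apply Subtype.ext
    show (PSLn.xx 0 1 _ _).1 * (PSLn.xx 0 2 _ _).1 = (PSLn.xx 0 2 _ _).1 * (PSLn.xx 0 1 _ _).1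
    simp [PSLn.coe_xx, Matrix.add_mul, Matrix.mul_add]
    abel

namespace Hyp

variable (h : Hyp G a N F)

/-- The inclusion of `PSL₃` in `G`. -/
def emb : P3 F →* G := N.subtype.comp h.e.toMonoidHom

theorem emb_inj : Function.Injective h.emb := N.subtype_injective.comp h.e.injective

theorem emb_mem (x : P3 F) : h.emb x ∈ N := (h.e x).2

theorem emb_surj {x : G} (hx : x ∈ N) : ∃ y, h.emb y = x := ⟨h.e.symm ⟨x, hx⟩, by simp [emb]⟩

theorem emb_fix (x : P3 F) : h.emb x • a = a := h.pt.fix (h.emb_mem x)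

/-- Conjugation on `N`, read in `PSL₃`. -/
def act : stabilizer G a →* MulAut (P3 F) where
  toFun g :=
    { toFun := fun x => h.e.symm ⟨g * h.emb x * (g : G)⁻¹, h.pt.conj g g.2 _ (h.emb_mem x)⟩
      invFun := fun x => h.e.symm ⟨(g : G)⁻¹ * h.emb x * g, by simpa using h.pt.conj _ (inv_mem g.2) _ (h.emb_mem x)⟩
      left_inv := fun x => h.e.injective (Subtype.ext (by simp [emb, mul_assoc]))
      right_inv := fun x => h.e.injective (Subtype.ext (by simp [emb, mul_assoc]))
      map_mul' := fun x y => h.e.injective (Subtype.ext (by simp [emb, mul_assoc])) }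
  map_one' := MulEquiv.ext fun x => h.e.injective (Subtype.ext (by simp [emb]))
  map_mul' g g' := MulEquiv.ext fun x => h.e.injective (Subtype.ext (by simp [emb, mul_assoc]))

theorem emb_act (g : stabilizer G a) (x : P3 F) : h.emb (h.act g x) = g * h.emb x * (g : G)⁻¹ := by
  simp [act, emb]

theorem act_emb (m : P3 F) : h.act ⟨h.emb m, mem_stabilizer_iff.mpr (h.emb_fix m)⟩ = MulAut.conj m :=
  MulEquiv.ext fun x => h.emb_inj (by rw [emb_act, MulAut.conj_apply, map_mul, map_mul, map_inv])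

/-- The involutions of `N` fixing `b`, in `PSL₃`. -/
def inv (b : Ω) : Set (P3 F) := {x | Invol x ∧ h.emb x • b = b}

theorem inv_conj (g : stabilizer G a) (b : Ω) : h.inv ((g : G) • b) = h.act g '' h.inv b := by
  ext x
  constructor
  · rintro ⟨hi, hx⟩
    refine ⟨(h.act g).symm x, ⟨(Invol.map (f := (h.act g).symm.toMonoidHom) (h.act g).symm.injective).mpr hi, ?_⟩,
      (h.act g).apply_symm_apply x⟩
    have e1 := h.emb_act g ((h.act g).symm x)
    rw [(h.act g).apply_symm_apply] at e1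
    rw [e1, mul_smul, mul_smul, inv_smul_smul] at hx
    exact MulAction.injective (g : G) hx
  · rintro ⟨y, ⟨hi, hy⟩, rfl⟩
    exact ⟨(Invol.map (f := (h.act g).toMonoidHom) (h.act g).injective).mpr hi,
      by rw [emb_act, mul_smul, mul_smul, inv_smul_smul, hy]⟩

variable [Finite G] [Finite Ω] [FaithfulSMul G Ω]

theorem not_fix_all {b : Ω} (hb : b ≠ a) : ∃ x, h.emb x • b ≠ b := by
  by_contra hc
  push Not at hc
  obtain ⟨x, hx, hi⟩ := h.pt.exists_invol
  refine hi.1 (eq_of_smul_eq_smul (α := Ω) fun c => ?_)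
  rw [one_smul]
  by_cases hca : c = a
  · rw [hca]; exact h.pt.fix hx
  obtain ⟨g, hga, rfl⟩ := h.pt.stab_move hb hca
  have h1 : g⁻¹ * x * g ∈ N := by simpa using h.pt.conj g⁻¹ (inv_mem hga) x hx
  obtain ⟨y, hy⟩ := h.emb_surj h1
  have := hc y
  rw [hy, mul_smul, mul_smul, inv_smul_eq_iff] at this
  exact this

/-- Some second point is fixed by the unitriangular group. -/
theorem exists_base : ∃ c : Ω, c ≠ a ∧ ∀ x ∈ (PSLn.upperHom F 3).range, h.emb x • c = c := by
  haveI : Fact (Nat.Prime 2) := ⟨Nat.prime_two⟩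
  have hp : IsPGroup 2 ((PSLn.upperHom F 3).range.map h.emb) := by
    have h1 : IsPGroup 2 (PSLn.upperHom F 3).range := by
      rw [← PSLn.coe_upperSylow 2]
      exact (PSLn.upperSylow (F := F) (n := 3) 2).2
    exact h1.map h.emb
  obtain ⟨c, hc, hca⟩ := hp.exists_fixed_point_of_prime_dvd_card_of_fixed_point Ω (even_iff_two_dvd.mp h.even)
    (a := a) (fun w => by
      obtain ⟨y, -, hy⟩ := w.2
      show (w : G) • a = a
      rw [← hy]; exact h.emb_fix y)
  exact ⟨c, hca.symm, fun x hx => hc ⟨_, Subgroup.mem_map_of_mem h.emb hx⟩⟩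

theorem shape_base {c : Ω} (hc : c ≠ a) (hU : ∀ x ∈ (PSLn.upperHom F 3).range, h.emb x • c = c) :
    h.inv c = invB F ∨ h.inv c = invP F ∨ h.inv c = invL F := by
  set X : Subgroup (P3 F) := (stabilizer G c).comap h.emb
  have e : h.inv c = {x | x ∈ X ∧ Invol x} := Set.ext fun x => ⟨fun hx => ⟨hx.2, hx.1⟩, fun hx => ⟨hx.2, hx.1⟩⟩
  rw [e]
  refine shapes (fun x hx => hU x hx) fun htop => ?_
  obtain ⟨x, hx⟩ := h.not_fix_all hc
  exact hx (show x ∈ X from htop ▸ Subgroup.mem_top x)

/-- All second points give the shape of a point and automorphisms keep the type, or all give the shape of a line, or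
all give the shape of a flag. -/
theorem shapes_cases : ((∀ b, b ≠ a → ShP (h.inv b)) ∧ ∀ g, h.act g ∈ typ F) ∨
    ((∀ b, b ≠ a → ShL (h.inv b)) ∧ ∀ g, h.act g ∈ typ F) ∨ ∀ b, b ≠ a → ShB (h.inv b) := by
  classical
  obtain ⟨c, hc, hU⟩ := h.exists_base
  have htrans : ∀ b, b ≠ a → ∃ g : stabilizer G a, (g : G) • c = b := fun b hb => by
    obtain ⟨g, hga, hgc⟩ := h.pt.stab_move hc hb
    exact ⟨⟨g, hga⟩, hgc⟩
  have h1 : (1 : MulAut (P3 F)) ∈ typ F := one_mem _
  rcases h.shape_base hc hU with e | hPL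
  · refine Or.inr (Or.inr fun b hb => ?_)
    obtain ⟨g, rfl⟩ := htrans b hb
    exact ⟨h.act g, by rw [inv_conj, e]⟩
  have hkind : ∀ b, b ≠ a → ShP (h.inv b) ∨ ShL (h.inv b) := by
    intro b hb
    obtain ⟨g, rfl⟩ := htrans b hb
    rw [inv_conj]
    rcases typ_or_dual (h.act g) with hg | ⟨ψ, hψ, hg⟩ <;> rcases hPL with e | e <;> rw [e]
    · exact Or.inl ⟨_, hg, rfl⟩
    · exact Or.inr ⟨_, hg, rfl⟩
    · rw [hg, mem_image_mul, dual_P]; exact Or.inr ⟨_, hψ, rfl⟩
    · rw [hg, mem_image_mul, dual_L]; exact Or.inl ⟨_, hψ, rfl⟩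
  -- no element of the point stabiliser exchanges the types: the number of second points is odd
  have htyp : ∀ g, h.act g ∈ typ F := by
    intro g
    refine (typ_or_dual (h.act g)).resolve_right fun ⟨ψ, hψ, hg⟩ => ?_
    have hsw : ∀ b, b ≠ a → (ShP (h.inv b) → ShL (h.inv ((g : G) • b))) ∧
        (ShL (h.inv b) → ShP (h.inv ((g : G) • b))) := fun b _ =>
      ⟨fun hb => by rw [inv_conj, hg, mem_image_mul]; exact hb.dual.image hψ,
        fun hb => by rw [inv_conj, hg, mem_image_mul]; exact hb.dual.image hψ⟩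
    have hga : ∀ b, b ≠ a ↔ (g : G) • b ≠ a := fun b => by
      refine not_congr ⟨fun e => e.symm ▸ mem_stabilizer_iff.mp g.2, fun e => MulAction.injective (g : G) ?_⟩
      exact e.trans (mem_stabilizer_iff.mp g.2).symm
    haveI := Fintype.ofFinite Ω
    set A := Finset.univ.filter fun b => b ≠ a ∧ ShP (h.inv b)
    set B := Finset.univ.filter fun b => b ≠ a ∧ ShL (h.inv b)
    have hAB : A.card = B.card := by
      refine le_antisymm (Finset.card_le_card_of_injOn ((g : G) • ·) (fun b hb => ?_) (MulAction.injective _).injOn)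
        (Finset.card_le_card_of_injOn ((g : G) • ·) (fun b hb => ?_) (MulAction.injective _).injOn)
      · simp only [A, B, Finset.coe_filter, Finset.mem_univ, true_and, Set.mem_setOf_eq] at hb ⊢
        exact ⟨(hga b).mp hb.1, (hsw b hb.1).1 hb.2⟩
      · simp only [A, B, Finset.coe_filter, Finset.mem_univ, true_and, Set.mem_setOf_eq] at hb ⊢
        exact ⟨(hga b).mp hb.1, (hsw b hb.1).2 hb.2⟩
    have hu : A ∪ B = Finset.univ.erase a := by
      ext b
      simp only [A, B, Finset.mem_union, Finset.mem_filter, Finset.mem_univ, true_and, Finset.mem_erase, and_true]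
      exact ⟨fun hb => hb.elim (·.1) (·.1), fun hb => (hkind b hb).imp (⟨hb, ·⟩) (⟨hb, ·⟩)⟩
    have hd : Disjoint A B := Finset.disjoint_filter.mpr fun b _ hA hB => shP_ne_shL hA.2 hB.2
    have hcard := Finset.card_union_of_disjoint hd
    rw [hu, Finset.card_erase_of_mem (Finset.mem_univ a), Finset.card_univ, ← hAB] at hcard
    obtain ⟨r, hr⟩ := h.even
    rw [Nat.card_eq_fintype_card] at hr
    haveI : Nonempty Ω := ⟨a⟩
    have := Fintype.card_pos (α := Ω)
    omega
  rcases hPL with e | e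
  · refine Or.inl ⟨fun b hb => ?_, htyp⟩
    obtain ⟨g, rfl⟩ := htrans b hb
    exact ⟨_, htyp g, by rw [inv_conj, e]⟩
  · refine Or.inr (Or.inl ⟨fun b hb => ?_, htyp⟩)
    obtain ⟨g, rfl⟩ := htrans b hb
    exact ⟨_, htyp g, by rw [inv_conj, e]⟩

/-- The hypotheses read through the duality. -/
def flip : Hyp G a N F where
  pt := h.pt
  e := (dual F).trans h.e
  even := h.even

include h in
/-- **Normalisation**: after a duality, the shape is that of a point or that of a flag. -/
theorem normalise : ∃ h' : Hyp G a N F,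
    ((∀ b, b ≠ a → ShP (h'.inv b)) ∧ ∀ g, h'.act g ∈ typ F) ∨ ∀ b, b ≠ a → ShB (h'.inv b) := by
  rcases h.shapes_cases with hP | ⟨hL, ht⟩ | hB
  · exact ⟨h, Or.inl hP⟩
  swap
  · exact ⟨h, Or.inr hB⟩
  have e : ∀ b, h.inv b = dual F '' h.flip.inv b := fun b => by
    ext x
    refine ⟨fun hx => ⟨(dual F).symm x,
      ⟨(Invol.map (f := (dual F).symm.toMonoidHom) (dual F).symm.injective).mpr hx.1, ?_⟩,
      (dual F).apply_symm_apply x⟩, ?_⟩
    · show h.emb (dual F ((dual F).symm x)) • b = b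
      rw [(dual F).apply_symm_apply]; exact hx.2
    · rintro ⟨y, hy, rfl⟩
      exact ⟨(Invol.map (f := (dual F).toMonoidHom) (dual F).injective).mpr hy.1, hy.2⟩
  refine ⟨h.flip, Or.inl ?_⟩
  rcases h.flip.shapes_cases with hP | ⟨hL', -⟩ | hB'
  · exact hP
  · obtain ⟨c, hc, -⟩ := h.exists_base
    exact absurd (hL c hc) (shP_ne_shL (e c ▸ (hL' c hc).dual))
  · obtain ⟨c, hc, -⟩ := h.exists_base
    obtain ⟨φ, hφ⟩ := hB' c hc
    refine absurd (hL c hc) (shB_ne (S := h.inv c) ⟨dual F * φ, ?_⟩).2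
    rw [e c, hφ, mem_image_mul]

end Hyp

end CfsgLib.PlaneStab
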