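import Cfsg.Agent.Lib.PlaneStab.Roots

/-!
Subgroups of `PSL₃` containing the unitriangular group: their involutions are those fixing a point, a line or a flag.
The subgroup generated by the involutions fixing a point.

Blueprint: `blueprint/S3727.md`, section 1.
-/

set_option autoImplicit false
set_option linter.unusedSectionVars false

namespace CfsgLib.PlaneStab

open Matrix CfsgLib.PSLn CfsgLib.RankOnePoint
open scoped MatrixGroups commutatorElement

variable {F : Type} [Field F]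

local notation "V" => (Fin 3 → F)

/-- The image of a root element. -/
def rt (i j : Fin 3) (h : i ≠ j) (c : F) : P3 F := mk (PSLn.xx i j h c)

theorem rt_zero (i j : Fin 3) (h : i ≠ j) : rt i j h (0 : F) = 1 := by rw [rt, xx_zero, map_one]

theorem rt_add (i j : Fin 3) (h : i ≠ j) (a b : F) : rt i j h (a + b) = rt i j h a * rt i j h b := by
  rw [rt, rt, rt, xx_add, map_mul]

theorem rt_ne {i j : Fin 3} {h : i ≠ j} {c : F} (hc : c ≠ 0) : rt i j h c ≠ 1 :=
  (IsTv.xx i j h hc).mk_ne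

/-- The commutator formula. -/
theorem rt_comm {i j k : Fin 3} (hij : i ≠ j) (hjk : j ≠ k) (hik : i ≠ k) (a b : F) :
    rt i j hij a * rt j k hjk b * (rt i j hij a)⁻¹ * (rt j k hjk b)⁻¹ = rt i k hik (a * b) := by
  rw [mul_inv_eq_iff_eq_mul, mul_inv_eq_iff_eq_mul]
  simp only [rt, ← map_mul]
  congr 1
  apply Subtype.ext
  show (PSLn.xx i j hij a).1 * (PSLn.xx j k hjk b).1 =
    (PSLn.xx i k hik (a * b)).1 * (PSLn.xx j k hjk b).1 * (PSLn.xx i j hij a).1
  simp only [coe_xx, Matrix.add_mul, Matrix.mul_add, Matrix.mul_one, Matrix.one_mul,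
    Matrix.single_mul_single_same, Matrix.single_mul_single_of_ne _ _ _ _ hik.symm,
    Matrix.single_mul_single_of_ne _ _ _ _ hjk.symm, Matrix.zero_mul, zero_add, add_zero]
  abel

theorem rt_comm_mem {X : Subgroup (P3 F)} {i j k : Fin 3} (hij : i ≠ j) (hjk : j ≠ k) (hik : i ≠ k) {a b : F}
    (ha : rt i j hij a ∈ X) (hb : rt j k hjk b ∈ X) : rt i k hik (a * b) ∈ X := by
  rw [← rt_comm hij hjk hik]
  exact mul_mem (mul_mem (mul_mem ha hb) (inv_mem ha)) (inv_mem hb)

/-- An upper element is reversed by a lower one in characteristic two. -/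
theorem rt_flip [CharP F 2] {i j : Fin 3} (h : i ≠ j) {d : F} (hd : d ≠ 0) (c : F) :
    rt i j h d⁻¹ * rt j i h.symm d * rt i j h c * rt j i h.symm d * rt i j h d⁻¹ = rt j i h.symm (c * d * d) := by
  simp only [rt, ← map_mul]
  congr 1
  apply Subtype.ext
  show (PSLn.xx i j h d⁻¹).1 * (PSLn.xx j i h.symm d).1 * (PSLn.xx i j h c).1 * (PSLn.xx j i h.symm d).1 *
    (PSLn.xx i j h d⁻¹).1 = (PSLn.xx j i h.symm (c * d * d)).1
  simp only [coe_xx]
  ext k l
  have e2 : (1 : F) + 1 = 0 := CharTwo.add_self_eq_zero 1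
  fin_cases i <;> fin_cases j <;> first | exact absurd rfl h | skip
  all_goals
    fin_cases k <;> fin_cases l <;>
      simp [Matrix.mul_apply, Fin.sum_univ_three, Matrix.single_apply, Matrix.one_apply] <;>
      (try field_simp) <;> (try linear_combination (norm := ring_nf) (c * d + 1) * e2)
  all_goals simp [CharTwo.two_eq_zero]

/-- Every element fixing the first vector is generated by root elements. -/
theorem fix_mem {X : Subgroup (P3 F)} (h01 : ∀ c, rt 0 1 (by decide) c ∈ X) (h02 : ∀ c, rt 0 2 (by decide) c ∈ X)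
    (h12 : ∀ c, rt 1 2 (by decide) c ∈ X) (h21 : ∀ c, rt 2 1 (by decide) c ∈ X) {A : S3L F}
    (hA : A.1 *ᵥ Pi.single 0 1 = Pi.single 0 1) : mk A ∈ X := by
  have hcol : ∀ i, A.1 i 0 = if i = 0 then 1 else 0 := fun i => by
    have := congrFun hA i
    rw [Matrix.mulVec_single_one] at this
    simpa [Pi.single_apply] using this
  have h00 : A.1 0 0 = 1 := by simpa using hcol 0
  have h10 : A.1 1 0 = 0 := by simpa using hcol 1
  have h20 : A.1 2 0 = 0 := by simpa using hcol 2
  have step : ∀ B : S3L F, B.1 0 0 = 1 → B.1 1 0 = 0 → B.1 2 0 = 0 → B.1 2 1 ≠ 0 → mk B ∈ X := by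
    intro B b00 b10 b20 hc
    have hdet : B.1 1 1 * B.1 2 2 - B.1 1 2 * B.1 2 1 = 1 := by
      have := B.2
      rw [Matrix.det_fin_three, b00, b10, b20] at this
      linear_combination this
    have e : B = PSLn.xx 1 2 (by decide) ((B.1 1 1 - 1) / B.1 2 1) * PSLn.xx 2 1 (by decide) (B.1 2 1) *
        PSLn.xx 1 2 (by decide) ((B.1 2 2 - 1) / B.1 2 1) *
        (PSLn.xx 0 1 (by decide) (B.1 0 1) * PSLn.xx 0 2 (by decide) (B.1 0 2)) := by
      apply Subtype.ext
      show B.1 = (PSLn.xx 1 2 _ _).1 * (PSLn.xx 2 1 _ _).1 * (PSLn.xx 1 2 _ _).1 *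
        ((PSLn.xx 0 1 _ _).1 * (PSLn.xx 0 2 _ _).1)
      simp only [coe_xx]
      ext k l
      fin_cases k <;> fin_cases l <;>
        simp [Matrix.mul_apply, Fin.sum_univ_three, Matrix.single_apply, Matrix.one_apply, b00, b10, b20] <;>
        field_simp <;> first | ring1 | linear_combination hdet | linear_combination -hdet
    rw [e]
    simp only [map_mul]
    exact mul_mem (mul_mem (mul_mem (h12 _) (h21 _)) (h12 _)) (mul_mem (h01 _) (h02 _))
  by_cases hc : A.1 2 1 = 0
  · have hd : A.1 1 1 ≠ 0 := fun e => by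
      have := A.2
      rw [Matrix.det_fin_three, h00, h10, h20, hc, e] at this
      simp at this
    have hB : mk (PSLn.xx 2 1 (by decide) 1 * A) ∈ X := by
      refine step _ ?_ ?_ ?_ ?_ <;>
        simp [SpecialLinearGroup.coe_mul, coe_xx, Matrix.add_mul, Matrix.add_apply, Matrix.mul_apply,
          Fin.sum_univ_three, Matrix.single_apply, h00, h10, h20, hc, hd]
    rw [map_mul] at hB
    exact (mul_mem_cancel_left (h21 1)).mp hB
  · exact step A h00 h10 h20 hc

variable [Fintype F] [CharP F 2]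

/-- The subgroup generated by the involutions fixing the standard point. -/
def X0P (F : Type) [Field F] : Subgroup (P3 F) := Subgroup.closure (invP F)

theorem rt_invP {i j : Fin 3} (h : i ≠ j) (hj : j ≠ 0) (c : F) : rt i j h c ∈ X0P F := by
  rcases eq_or_ne c 0 with rfl | hc
  · rw [rt_zero]; exact one_mem _
  · exact Subgroup.subset_closure ⟨_, _, IsTv.xx i j h hc, by simp [Pi.single_apply, hj.symm]⟩

theorem mem_X0P {A : S3L F} (hA : A.1 *ᵥ Pi.single 0 1 = Pi.single 0 1) : mk A ∈ X0P F :=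
  fix_mem (fun c => rt_invP _ (by decide) c) (fun c => rt_invP _ (by decide) c) (fun c => rt_invP _ (by decide) c)
    (fun c => rt_invP _ (by decide) c) hA

/-- The elements fixing the first vector. -/
def fixE (F : Type) [Field F] : Subgroup (P3 F) where
  carrier := {x | ∃ A : S3L F, mk A = x ∧ A.1 *ᵥ Pi.single 0 1 = Pi.single 0 1}
  one_mem' := ⟨1, map_one _, by show (1 : Matrix (Fin 3) (Fin 3) F) *ᵥ _ = _; rw [one_mulVec]⟩
  mul_mem' := by
    rintro _ _ ⟨A, rfl, hA⟩ ⟨B, rfl, hB⟩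
    exact ⟨A * B, map_mul _ _ _, by show (A.1 * B.1) *ᵥ _ = _; rw [← mulVec_mulVec, hB, hA]⟩
  inv_mem' := by
    rintro _ ⟨A, rfl, hA⟩
    refine ⟨A⁻¹, map_inv _ _, ?_⟩
    have e : (A⁻¹).1 * A.1 = 1 := congrArg Subtype.val (inv_mul_cancel A)
    conv_lhs => rw [← hA]
    rw [mulVec_mulVec, e, one_mulVec]

theorem X0P_eq : X0P F = fixE F := by
  refine le_antisymm ((Subgroup.closure_le _).mpr ?_) ?_
  · rintro x ⟨v, f, ⟨h0, -, -, rfl⟩, hf⟩
    exact ⟨tv v f h0, rfl, by
      rw [coe_tv, add_mulVec, one_mulVec, vecMulVec_mulVec, dotProduct_single, hf, zero_mul,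
        MulOpposite.op_zero, zero_smul, add_zero]⟩
  · rintro _ ⟨A, rfl, hA⟩
    exact mem_X0P hA

/-- The involutions of `X0P`. -/
theorem X0P_invol {x : P3 F} : x ∈ X0P F ∧ Invol x ↔ x ∈ invP F := by
  refine ⟨fun ⟨hx, hi⟩ => ?_, fun hx => ⟨Subgroup.subset_closure hx, ?_⟩⟩
  · obtain ⟨v, f, h⟩ := exists_tv hi
    refine ⟨v, f, h, ?_⟩
    rw [X0P_eq] at hx
    obtain ⟨A, hA, hAe⟩ := hx
    obtain ⟨h0, hv, hf, e⟩ := h
    rw [← hA, QuotientGroup.mk'_apply, QuotientGroup.mk'_apply, QuotientGroup.eq] at e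
    obtain ⟨r, -, hr⟩ := Matrix.SpecialLinearGroup.mem_center_iff.mp e
    have e1 : A.1 = (tv v f h0).1 * Matrix.scalar (Fin 3) r := by
      rw [hr]
      exact congrArg Subtype.val (mul_inv_cancel_left (tv v f h0) A).symm
    have e2 := hAe
    rw [e1, coe_tv, ← mulVec_mulVec, add_mulVec, one_mulVec, vecMulVec_mulVec, Matrix.scalar_apply,
      diagonal_mulVec_single, mul_one, dotProduct_single, op_smul_eq_smul] at e2
    by_contra hf0
    have e3 : ∀ i : Fin 3, i ≠ 0 → f 0 * r * v i = 0 := fun i hi => by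
      simpa [Pi.single_apply, hi] using congrFun e2 i
    have hr0 : r ≠ 0 := fun hr' => by
      have := congrFun e2 0
      simp [hr'] at this
    have hv1 : v 1 = 0 := by simpa [hf0, hr0] using e3 1 (by decide)
    have hv2 : v 2 = 0 := by simpa [hf0, hr0] using e3 2 (by decide)
    have h0' := h0
    rw [dotProduct, Fin.sum_univ_three, hv1, hv2, mul_zero, mul_zero, add_zero, add_zero, mul_eq_zero] at h0'
    exact hv (funext fun i => by fin_cases i <;> simp [hv1, hv2, h0'.resolve_left hf0])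
  · obtain ⟨v, f, h, -⟩ := hx
    exact h.invol

/-- For at least four elements the point subgroup is perfect. -/
theorem X0P_perfect (hq : 4 ≤ Fintype.card F) : X0P F ≤ ⁅X0P F, X0P F⁆ := by
  classical
  have hcom : ∀ {i j k : Fin 3} (hij : i ≠ j) (hjk : j ≠ k) (hik : i ≠ k), j ≠ 0 → k ≠ 0 → ∀ c : F,
      rt i k hik c ∈ ⁅X0P F, X0P F⁆ := fun {i j k} hij hjk hik hj hk c => by
    have := Subgroup.commutator_mem_commutator (rt_invP hij hj c) (rt_invP hjk hk (1 : F))
    rwa [commutatorElement_def, rt_comm hij hjk hik, mul_one] at this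
  obtain ⟨t, ht0, ht1⟩ : ∃ t : F, t ≠ 0 ∧ t ≠ 1 := by
    obtain ⟨t, -, ht⟩ := Finset.exists_mem_notMem_of_card_lt_card
      (show ({0, 1} : Finset F).card < (Finset.univ : Finset F).card from
        lt_of_le_of_lt Finset.card_le_two (by rw [Finset.card_univ]; omega))
    simp only [Finset.mem_insert, Finset.mem_singleton, not_or] at ht
    exact ⟨t, ht⟩
  have ht2 : t * t - 1 ≠ 0 := fun e => ht1 (by
    have : (t - 1) * (t - 1) = 0 := by linear_combination e - (t - 1) * CharTwo.two_eq_zero (R := F)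
    exact sub_eq_zero.mp (mul_self_eq_zero.mp this))
  let H : S3L F := ⟨Matrix.diagonal ![1, t, t⁻¹], by simp [Fin.prod_univ_three, ht0]⟩
  let H' : S3L F := ⟨Matrix.diagonal ![1, t⁻¹, t], by simp [Fin.prod_univ_three, ht0]⟩
  have hfix : ∀ d : F, ∀ (M : S3L F), M.1 = Matrix.diagonal ![1, d, d⁻¹] → mk M ∈ X0P F := fun d M hM =>
    mem_X0P (by rw [hM, diagonal_mulVec_single]; simp)
  have hH : mk H ∈ X0P F := hfix t H rfl
  have hH' : mk H' ∈ X0P F := hfix t⁻¹ H' (by show Matrix.diagonal _ = _; rw [inv_inv])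
  have key : ∀ (i j : Fin 3) (hij : i ≠ j) (K : S3L F), mk K ∈ X0P F → j ≠ 0 →
      (∀ c : F, K.1 * single i j c = single i j (t * t * c) * K.1) → ∀ c, rt i j hij c ∈ ⁅X0P F, X0P F⁆ := by
    intro i j hij K hK hj hKc c
    have h1 := Subgroup.commutator_mem_commutator hK (rt_invP hij hj (c / (t * t - 1)))
    rw [commutatorElement_def] at h1
    have e : mk K * rt i j hij (c / (t * t - 1)) * (mk K)⁻¹ = rt i j hij (t * t * (c / (t * t - 1))) := by
      rw [mul_inv_eq_iff_eq_mul, rt, rt, ← map_mul, ← map_mul]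
      congr 1
      apply Subtype.ext
      show K.1 * (PSLn.xx i j hij _).1 = (PSLn.xx i j hij _).1 * K.1
      rw [coe_xx, coe_xx, Matrix.mul_add, Matrix.add_mul, Matrix.mul_one, Matrix.one_mul, hKc]
    rw [e, rt, rt, ← map_inv, xx_inv, ← map_mul, ← xx_add] at h1
    rw [show t * t * (c / (t * t - 1)) + -(c / (t * t - 1)) = c by
      rw [← sub_eq_add_neg, ← sub_one_mul, mul_div_cancel₀ _ ht2]] at h1
    rw [rt]
    exact h1
  rw [X0P_eq]
  rintro _ ⟨A, rfl, hA⟩
  rw [← X0P_eq]
  refine fix_mem (hcom (j := 2) (by decide) (by decide) _ (by decide) (by decide))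
    (hcom (j := 1) (by decide) (by decide) _ (by decide) (by decide))
    (key 1 2 _ H hH (by decide) fun c => ?_) (key 2 1 _ H' hH' (by decide) fun c => ?_) hA
  all_goals
    ext k l
    fin_cases k <;> fin_cases l <;>
      simp [H, H', Matrix.single_apply] <;> field_simp

/-- Root elements of the unitriangular group. -/
theorem rt_mem_upper {i j : Fin 3} (h : i < j) (c : F) : rt i j h.ne c ∈ (upperHom F 3).range :=
  ⟨⟨_, xx_mem_upper h c⟩, rfl⟩

/-- The root elements generate. -/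
theorem eq_top_of_rt {X : Subgroup (P3 F)} (hall : ∀ (i j : Fin 3) (hij : i ≠ j) (c : F), rt i j hij c ∈ X) :
    X = ⊤ := by
  refine eq_top_iff.mpr fun x _ => ?_
  obtain ⟨A, rfl⟩ := mk_surjective x
  refine SpecialLinearGroup.diagonal_transvection_induction' (P := fun A : S3L F => mk A ∈ X) A
    (fun i j hij c hc => ?_) (fun i j hij a => hall i j hij a)
    (fun A B hA hB => by simp only [map_mul]; exact mul_mem hA hB)
  have e : SpecialLinearGroup.diag2n hij c hc =
      PSLn.xx i j hij c * PSLn.xx j i hij.symm (-c⁻¹) * PSLn.xx i j hij c * PSLn.xx i j hij (-1) *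
        PSLn.xx j i hij.symm 1 * PSLn.xx i j hij (-1) := by
    apply Subtype.ext
    show (SpecialLinearGroup.diag2n hij c hc).1 = (PSLn.xx i j hij c).1 * (PSLn.xx j i hij.symm (-c⁻¹)).1 *
      (PSLn.xx i j hij c).1 * (PSLn.xx i j hij (-1)).1 * (PSLn.xx j i hij.symm 1).1 * (PSLn.xx i j hij (-1)).1
    simp only [coe_xx, SpecialLinearGroup.diag2n_coe, Matrix.mul_add,
      Matrix.add_mul, Matrix.mul_one, Matrix.one_mul, Matrix.single_mul_single_same,
      Matrix.single_mul_single_of_ne _ _ _ _ hij, Matrix.single_mul_single_of_ne _ _ _ _ hij.symm,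
      Matrix.zero_mul, zero_add, add_zero]
    ext k l
    by_cases hki : k = i <;> by_cases hkj : k = j <;> by_cases hli : l = i <;> by_cases hlj : l = j <;>
      simp_all [Matrix.single_apply, Matrix.one_apply, Matrix.diagonal_apply, eq_comm] <;> (try field_simp) <;> (try ring)
  rw [e]
  simp only [map_mul]
  exact mul_mem (mul_mem (mul_mem (mul_mem (mul_mem (hall _ _ _ _) (hall _ _ _ _)) (hall _ _ _ _))
    (hall _ _ _ _)) (hall _ _ _ _)) (hall _ _ _ _)

/-- The group is perfect. -/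
theorem top_perfect : ⁅(⊤ : Subgroup (P3 F)), (⊤ : Subgroup (P3 F))⁆ = ⊤ := by
  refine eq_top_of_rt fun i k hik c => ?_
  obtain ⟨j, hij, hjk⟩ : ∃ j : Fin 3, i ≠ j ∧ j ≠ k := by revert i k; decide
  have := Subgroup.commutator_mem_commutator (Subgroup.mem_top (rt i j hij c)) (Subgroup.mem_top (rt j k hjk 1))
  rwa [commutatorElement_def, rt_comm hij hjk hik, mul_one] at this

section Over

variable {X : Subgroup (P3 F)} (hU : (upperHom F 3).range ≤ X)
include hU

/-- An involution of `X` moving the line gives the lower root group at the point. -/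
theorem lower_of_centre {x : P3 F} (hx : x ∈ X) {v f : V} (h : IsTv x v f) (hv : v 2 ≠ 0) :
    (∀ c, rt 2 1 (by decide) c ∈ X) ∧ (f 0 ≠ 0 → ∀ c, rt 1 0 (by decide) c ∈ X) := by
  have u02 : ∀ c, rt 0 2 (by decide) c ∈ X := fun c => hU (rt_mem_upper (by decide) c)
  have u12 : ∀ c, rt 1 2 (by decide) c ∈ X := fun c => hU (rt_mem_upper (by decide) c)
  have u01 : ∀ c, rt 0 1 (by decide) c ∈ X := fun c => hU (rt_mem_upper (by decide) c)
  have hx1 : ∃ y ∈ X, ∃ w g : V, IsTv y w g ∧ w 0 = 0 ∧ w 1 = 0 ∧ g 0 = f 0 := by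
    set B : S3L F := PSLn.xx 0 2 (by decide) (-v 0 / v 2) * PSLn.xx 1 2 (by decide) (-v 1 / v 2)
    have hB : mk B ∈ X := by rw [map_mul]; exact mul_mem (u02 _) (u12 _)
    refine ⟨_, mul_mem (mul_mem hB hx) (inv_mem hB), _, _, h.conj B, ?_, ?_, ?_⟩
    · simp [B, SpecialLinearGroup.coe_mul, coe_xx, Matrix.mulVec, dotProduct, Fin.sum_univ_three,
        Matrix.mul_apply, Matrix.single_apply, Matrix.one_apply]
      field_simp
      ring
    · simp [B, SpecialLinearGroup.coe_mul, coe_xx, Matrix.mulVec, dotProduct, Fin.sum_univ_three,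
        Matrix.mul_apply, Matrix.single_apply, Matrix.one_apply]
      field_simp
      ring
    · rw [show B⁻¹ = PSLn.xx 1 2 (by decide) (-(-v 1 / v 2)) * PSLn.xx 0 2 (by decide) (-(-v 0 / v 2)) by
        rw [_root_.mul_inv_rev, xx_inv, xx_inv]]
      simp [SpecialLinearGroup.coe_mul, coe_xx, Matrix.vecMul, dotProduct, Fin.sum_univ_three,
        Matrix.mul_apply, Matrix.single_apply, Matrix.one_apply]
  obtain ⟨y, hy, w, g, ⟨h0, hw, hg, rfl⟩, w0, w1, hg0⟩ := hx1
  have w2 : w 2 ≠ 0 := fun e => hw (funext fun i => by fin_cases i <;> simp [w0, w1, e])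
  have g2 : g 2 = 0 := by
    rw [dotProduct, Fin.sum_univ_three, w0, w1, mul_zero, mul_zero, zero_add, zero_add, mul_eq_zero] at h0
    exact h0.resolve_right w2
  have e : mk (tv w g h0) = rt 2 0 (by decide) (w 2 * g 0) * rt 2 1 (by decide) (w 2 * g 1) := by
    rw [rt, rt, ← map_mul]
    congr 1
    apply Subtype.ext
    show (tv w g h0).1 = (PSLn.xx 2 0 _ _).1 * (PSLn.xx 2 1 _ _).1
    rw [coe_tv, coe_xx, coe_xx]
    ext k l
    rw [Matrix.add_apply, vecMulVec_apply]
    fin_cases k <;> fin_cases l <;>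
      simp [Matrix.mul_apply, Fin.sum_univ_three, Matrix.single_apply, Matrix.one_apply, w0, w1, g2]
  by_cases hg0' : g 0 = 0
  · have g1 : g 1 ≠ 0 := fun e1 => hg (funext fun i => by fin_cases i <;> simp [hg0', g2, e1])
    set d := w 2 * g 1
    have hd : d ≠ 0 := mul_ne_zero w2 g1
    have hdX : rt 2 1 (by decide) d ∈ X := by
      rw [e, hg0', mul_zero, rt_zero, one_mul] at hy; exact hy
    refine ⟨fun c => ?_, fun hf => absurd (hg0 ▸ hg0') hf⟩
    have := rt_flip (F := F) (i := 1) (j := 2) (by decide) hd (c / (d * d))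
    rw [show c / (d * d) * d * d = c by field_simp] at this
    rw [← this]
    exact mul_mem (mul_mem (mul_mem (mul_mem (u12 _) hdX) (u12 _)) hdX) (u12 _)
  · -- clear the middle entry of the axis
    set a := -(g 1 / g 0)
    have e2 : rt 0 1 (by decide) (-a) * mk (tv w g h0) * rt 0 1 (by decide) a =
        rt 2 0 (by decide) (w 2 * g 0) := by
      rw [e]
      simp only [rt, ← map_mul]
      congr 1
      apply Subtype.ext
      show (PSLn.xx 0 1 _ _).1 * ((PSLn.xx 2 0 _ _).1 * (PSLn.xx 2 1 _ _).1) * (PSLn.xx 0 1 _ _).1 =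
        (PSLn.xx 2 0 _ _).1
      simp only [coe_xx]
      ext k l
      fin_cases k <;> fin_cases l <;>
        simp [Matrix.mul_apply, Fin.sum_univ_three, Matrix.single_apply, Matrix.one_apply, a] <;>
        (try field_simp) <;> (try ring)
    set d := w 2 * g 0
    have hd : d ≠ 0 := mul_ne_zero w2 hg0'
    have h20 : rt 2 0 (by decide) d ∈ X := e2 ▸ mul_mem (mul_mem (u01 _) hy) (u01 _)
    refine ⟨fun c => ?_, fun _ c => ?_⟩
    · have := rt_comm_mem (i := 2) (j := 0) (k := 1) (by decide) (by decide) (by decide) h20 (u01 (c / d))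
      rwa [mul_div_cancel₀ _ hd] at this
    · have := rt_comm_mem (i := 1) (j := 2) (k := 0) (by decide) (by decide) (by decide) (u12 (c / d)) h20
      rwa [div_mul_cancel₀ _ hd] at this

/-- An involution of `X` moving the point gives the lower root group at the line. -/
theorem lower_of_axis {x : P3 F} (hx : x ∈ X) {v f : V} (h : IsTv x v f) (hf : f 0 ≠ 0) :
    ∀ c, rt 1 0 (by decide) c ∈ X := by
  by_cases hv : v 2 = 0
  swap
  · exact (lower_of_centre hU hx h hv).2 hf
  have u02 : ∀ c, rt 0 2 (by decide) c ∈ X := fun c => hU (rt_mem_upper (by decide) c)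
  have u01 : ∀ c, rt 0 1 (by decide) c ∈ X := fun c => hU (rt_mem_upper (by decide) c)
  have u12 : ∀ c, rt 1 2 (by decide) c ∈ X := fun c => hU (rt_mem_upper (by decide) c)
  set B : S3L F := PSLn.xx 0 1 (by decide) (f 1 / f 0) * PSLn.xx 0 2 (by decide) (f 2 / f 0)
  have hB : mk B ∈ X := by rw [map_mul]; exact mul_mem (u01 _) (u02 _)
  have h1 := h.conj B
  obtain ⟨h0, hw, hg, e0⟩ := h1
  set w := B.1 *ᵥ v
  set g := f ᵥ* (B⁻¹).1
  have w2 : w 2 = 0 := by
    simp [w, B, SpecialLinearGroup.coe_mul, coe_xx, Matrix.mulVec, dotProduct, Fin.sum_univ_three,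
      Matrix.mul_apply, Matrix.single_apply, Matrix.one_apply, hv]
  have hg' : g 0 = f 0 ∧ g 1 = 0 ∧ g 2 = 0 := by
    simp only [g]
    rw [show B⁻¹ = PSLn.xx 0 2 (by decide) (-(f 2 / f 0)) * PSLn.xx 0 1 (by decide) (-(f 1 / f 0)) by
      rw [_root_.mul_inv_rev, xx_inv, xx_inv]]
    refine ⟨?_, ?_, ?_⟩ <;>
      simp [SpecialLinearGroup.coe_mul, coe_xx, Matrix.vecMul, dotProduct, Fin.sum_univ_three,
        Matrix.mul_apply, Matrix.single_apply, Matrix.one_apply] <;> (try field_simp) <;> (try ring)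
  obtain ⟨g0, g1, g2⟩ := hg'
  have w0 : w 0 = 0 := by
    rw [dotProduct, Fin.sum_univ_three, g1, g2, zero_mul, zero_mul, add_zero, add_zero, mul_eq_zero, g0] at h0
    exact h0.resolve_left hf
  have w1 : w 1 ≠ 0 := fun e => hw (funext fun i => by fin_cases i <;> simp [w0, w2, e])
  have e : mk (tv w g h0) = rt 1 0 (by decide) (w 1 * g 0) := by
    rw [rt]
    congr 1
    apply Subtype.ext
    rw [coe_tv, coe_xx]
    ext k l
    rw [Matrix.add_apply, Matrix.add_apply, vecMulVec_apply]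
    fin_cases k <;> fin_cases l <;> simp [Matrix.single_apply, w0, w2, g1, g2]
  set d := w 1 * g 0
  have hd : d ≠ 0 := mul_ne_zero w1 (g0 ▸ hf)
  have hdX : rt 1 0 (by decide) d ∈ X := by
    rw [← e, e0]; exact mul_mem (mul_mem hB hx) (inv_mem hB)
  intro c
  have := rt_flip (F := F) (i := 0) (j := 1) (by decide) hd (c / (d * d))
  rw [show c / (d * d) * d * d = c by field_simp] at this
  rw [← this]
  exact mul_mem (mul_mem (mul_mem (mul_mem (u01 _) hdX) (u01 _)) hdX) (u01 _)

theorem eq_top_of_lower (h21 : ∀ c, rt 2 1 (by decide) c ∈ X) (h10 : ∀ c, rt 1 0 (by decide) c ∈ X) :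
    X = ⊤ := by
  have hall : ∀ (i j : Fin 3) (hij : i ≠ j) (c : F), rt i j hij c ∈ X := by
    intro i j hij c
    by_cases hlt : i < j
    · exact hU (rt_mem_upper hlt c)
    · fin_cases i <;> fin_cases j <;> first | exact absurd rfl hij | exact absurd (by decide) hlt | skip
      · exact h10 c
      · have := rt_comm_mem (i := 2) (j := 1) (k := 0) (by decide) (by decide) (by decide) (h21 c) (h10 1)
        rwa [mul_one] at this
      · exact h21 c
  exact eq_top_of_rt hall

omit hU in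
theorem invol_fix {X : Subgroup (P3 F)} (h01 : ∀ c, rt 0 1 (by decide) c ∈ X) (h02 : ∀ c, rt 0 2 (by decide) c ∈ X)
    (h12 : ∀ c, rt 1 2 (by decide) c ∈ X) (h21 : ∀ c, rt 2 1 (by decide) c ∈ X) : X0P F ≤ X := by
  rw [X0P_eq]
  rintro _ ⟨A, rfl, hA⟩
  exact fix_mem h01 h02 h12 h21 hA

/-- **The three shapes.** -/
theorem shapes (hX : X ≠ ⊤) :
    {x | x ∈ X ∧ Invol x} = invB F ∨ {x | x ∈ X ∧ Invol x} = invP F ∨ {x | x ∈ X ∧ Invol x} = invL F := by
  have hB : invB F ⊆ {x | x ∈ X ∧ Invol x} := fun x hx => ⟨hU (invB_iff.mp hx).1, (invB_iff.mp hx).2⟩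
  have u02 : ∀ c, rt 0 2 (by decide) c ∈ X := fun c => hU (rt_mem_upper (by decide) c)
  have u12 : ∀ c, rt 1 2 (by decide) c ∈ X := fun c => hU (rt_mem_upper (by decide) c)
  have u01 : ∀ c, rt 0 1 (by decide) c ∈ X := fun c => hU (rt_mem_upper (by decide) c)
  by_cases hc : ∃ x ∈ X, ∃ v f : V, IsTv x v f ∧ v 2 ≠ 0
  · obtain ⟨x, hx, v, f, h, hv⟩ := hc
    have h21 := (lower_of_centre hU hx h hv).1
    refine Or.inr (Or.inl (Set.Subset.antisymm (fun y hy => ?_) fun y hy => ?_))
    · obtain ⟨w, g, h'⟩ := exists_tv hy.2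
      refine ⟨w, g, h', by_contra fun hg => hX (eq_top_of_lower hU h21 (lower_of_axis hU hy.1 h' hg))⟩
    · exact ⟨invol_fix u01 u02 u12 h21 (Subgroup.subset_closure hy),
        (X0P_invol.mpr hy).2⟩
  push Not at hc
  by_cases ha : ∃ x ∈ X, ∃ v f : V, IsTv x v f ∧ f 0 ≠ 0
  · obtain ⟨x, hx, v, f, h, hf⟩ := ha
    have h10 := lower_of_axis hU hx h hf
    refine Or.inr (Or.inr (Set.Subset.antisymm (fun y hy => ?_) fun y hy => ?_))
    · obtain ⟨w, g, h'⟩ := exists_tv hy.2
      exact ⟨w, g, h', hc y hy.1 w g h'⟩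
    · obtain ⟨w, g, h', hw⟩ := hy
      refine ⟨?_, h'.invol⟩
      by_cases hg0 : g 0 = 0
      · exact hU (invB_iff.mp ⟨w, g, h', hg0, hw⟩).1
      set B : S3L F := PSLn.xx 0 1 (by decide) (g 1 / g 0) * PSLn.xx 0 2 (by decide) (g 2 / g 0)
      have hBX : mk B ∈ X := by rw [map_mul]; exact mul_mem (u01 _) (u02 _)
      have h1 := h'.conj B
      obtain ⟨h0, hw', hg', e0⟩ := h1
      set w' := B.1 *ᵥ w
      set g' := g ᵥ* (B⁻¹).1
      have w2 : w' 2 = 0 := by
        simp [w', B, SpecialLinearGroup.coe_mul, coe_xx, Matrix.mulVec, dotProduct, Fin.sum_univ_three,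
          Matrix.mul_apply, Matrix.single_apply, Matrix.one_apply, hw]
      have hg'' : g' 0 = g 0 ∧ g' 1 = 0 ∧ g' 2 = 0 := by
        simp only [g']
        rw [show B⁻¹ = PSLn.xx 0 2 (by decide) (-(g 2 / g 0)) * PSLn.xx 0 1 (by decide) (-(g 1 / g 0)) by
          rw [_root_.mul_inv_rev, xx_inv, xx_inv]]
        refine ⟨?_, ?_, ?_⟩ <;>
          simp [SpecialLinearGroup.coe_mul, coe_xx, Matrix.vecMul, dotProduct, Fin.sum_univ_three,
            Matrix.mul_apply, Matrix.single_apply, Matrix.one_apply] <;> (try field_simp) <;> (try ring)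
      obtain ⟨g0, g1, g2⟩ := hg''
      have w0 : w' 0 = 0 := by
        rw [dotProduct, Fin.sum_univ_three, g1, g2, zero_mul, zero_mul, add_zero, add_zero, mul_eq_zero, g0] at h0
        exact h0.resolve_left hg0
      have e : mk (tv w' g' h0) = rt 1 0 (by decide) (w' 1 * g' 0) := by
        rw [rt]
        congr 1
        apply Subtype.ext
        rw [coe_tv, coe_xx]
        ext k l
        rw [Matrix.add_apply, Matrix.add_apply, vecMulVec_apply]
        fin_cases k <;> fin_cases l <;> simp [Matrix.single_apply, w0, w2, g1, g2]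
      have h2 : mk B * y * (mk B)⁻¹ ∈ X := by rw [← e0, e]; exact h10 _
      have h3 := mul_mem (mul_mem (inv_mem hBX) h2) hBX
      simpa [mul_assoc] using h3
  push Not at ha
  refine Or.inl (Set.Subset.antisymm (fun y hy => ?_) hB)
  obtain ⟨w, g, h'⟩ := exists_tv hy.2
  exact ⟨w, g, h', ha y hy.1 w g h', hc y hy.1 w g h'⟩

end Over

end CfsgLib.PlaneStab
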